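import Cfsg.Agent.GW.OSType.Hyp
import Cfsg.Agent.Solvable.Frattini

/-!
# Gorenstein–Walter, odd-by-two type: the action on the Frattini quotient

`z` is a fixed point free involution on the part of an abelian section moved by `x`, so an element
inverted by `z` centralizes the section if it centralizes the part fixed by `x`.
-/

set_option autoImplicit false
set_option linter.style.haveILetI false
set_option linter.unusedSectionVars false

open Subgroup
open scoped commutatorElement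

namespace CfsgLib.GW.OS

section Abelian

variable {Q : Type*} [Group Q] [Finite Q]

/-- On an abelian `t`-group. -/
theorem commute_of_moved {t : ℕ} [Fact t.Prime] {A : Subgroup Q} (hA : IsPGroup t A) (ht2 : t ≠ 2)
    (hab : ∀ a ∈ A, ∀ c ∈ A, Commute a c) {z x f : Q} (hz : z * z = 1)
    (hzA : z ∈ normalizer (A : Set Q)) (hxA : x ∈ normalizer (A : Set Q))
    (hfA : f ∈ normalizer (A : Set Q)) (hzx : z * x * z⁻¹ = x ∨ z * x * z⁻¹ = x⁻¹)
    (hfx : Commute f x) (hfi : Inverts z f) (hfo : Odd (orderOf f))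
    (hxo : (orderOf x).Coprime t) (hzfix : ∀ a ∈ A, Commute z a → Commute x a)
    (hffix : ∀ a ∈ A, Commute x a → Commute f a) : ∀ a ∈ A, Commute f a := by
  have hxc : ∀ a ∈ A, x * a * x⁻¹ ∈ A := fun a ha => (mem_normalizer_iff.1 hxA a).1 ha
  let δ : A →* Q :=
    { toFun := fun a => x * a * x⁻¹ * (a : Q)⁻¹
      map_one' := by simp
      map_mul' := fun a c => by
        have h := hab _ (mul_mem (hxc c c.2) (inv_mem c.2)) (a : Q)⁻¹ (inv_mem a.2)
        show x * ((a : Q) * c) * x⁻¹ * ((a : Q) * c)⁻¹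
          = x * a * x⁻¹ * (a : Q)⁻¹ * (x * c * x⁻¹ * (c : Q)⁻¹)
        calc x * ((a : Q) * c) * x⁻¹ * ((a : Q) * c)⁻¹
            = x * a * x⁻¹ * ((x * c * x⁻¹ * (c : Q)⁻¹) * (a : Q)⁻¹) := by group
          _ = x * a * x⁻¹ * ((a : Q)⁻¹ * (x * c * x⁻¹ * (c : Q)⁻¹)) := by rw [h.eq]
          _ = _ := by group }
  set D := δ.range with hD
  have hDA : D ≤ A := by
    rintro _ ⟨a, rfl⟩
    exact mul_mem (hxc a a.2) (inv_mem a.2)
  -- fixed points of `x` in `D` are trivial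
  have hfree : ∀ y ∈ D, Commute x y → y = 1 := by
    rintro _ ⟨a, rfl⟩ hxy
    set y := δ a with hy
    have hya : x * a * x⁻¹ = y * a := by
      show x * a * x⁻¹ = x * a * x⁻¹ * (a : Q)⁻¹ * a
      group
    have hpow : ∀ i : ℕ, x ^ i * a * (x ^ i)⁻¹ = y ^ i * a := by
      intro i
      induction i with
      | zero => simp
      | succ i ih =>
        calc x ^ (i + 1) * a * (x ^ (i + 1))⁻¹ = x * (x ^ i * a * (x ^ i)⁻¹) * x⁻¹ := by
              rw [pow_succ']; group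
          _ = x * y ^ i * x⁻¹ * (x * a * x⁻¹) := by rw [ih]; group
          _ = y ^ (i + 1) * a := by
            rw [(hxy.pow_right i).eq, mul_inv_cancel_right, hya, pow_succ, mul_assoc]
    have h1 : y ^ orderOf x = 1 := by
      have h := hpow (orderOf x)
      rwa [pow_orderOf_eq_one, one_mul, inv_one, mul_one, eq_comm, mul_eq_right] at h
    obtain ⟨k, hk⟩ := hA ⟨y, hDA ⟨a, rfl⟩⟩
    exact orderOf_eq_one_iff.1 (Nat.eq_one_of_dvd_coprimes (hxo.pow_right k)
      (orderOf_dvd_of_pow_eq_one h1)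
      (orderOf_dvd_of_pow_eq_one (by simpa using congrArg Subtype.val hk)))
  have hzD : z ∈ normalizer (D : Set Q) := by
    refine mem_normalizer_fintype ?_
    rintro _ ⟨a, rfl⟩
    have ha' : z * a * z⁻¹ ∈ A := (mem_normalizer_iff.1 hzA a).1 a.2
    have e : z * (x * a * x⁻¹ * (a : Q)⁻¹) * z⁻¹ = z * x * z⁻¹ * (z * a * z⁻¹) * (z * x * z⁻¹)⁻¹
        * (z * a * z⁻¹)⁻¹ := by group
    show z * (x * a * x⁻¹ * (a : Q)⁻¹) * z⁻¹ ∈ D
    rw [e]
    rcases hzx with h | h <;> rw [h]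
    · exact ⟨⟨_, ha'⟩, rfl⟩
    · have hm : x⁻¹ * (z * a * z⁻¹) * x⁻¹⁻¹ ∈ A :=
        (mem_normalizer_iff.1 (inv_mem hxA) _).1 ha'
      rw [show x⁻¹ * (z * a * z⁻¹) * x⁻¹⁻¹ * (z * a * z⁻¹)⁻¹ =
        (x * (x⁻¹ * (z * a * z⁻¹) * x⁻¹⁻¹) * x⁻¹ * (x⁻¹ * (z * a * z⁻¹) * x⁻¹⁻¹)⁻¹)⁻¹ by group]
      exact inv_mem ⟨⟨_, hm⟩, rfl⟩
  have hinv := inverts_of_fixedPointFree hz hzD fun y hy hzy => hfree y hy (hzfix y (hDA hy) hzy)
  have hfD : f ∈ normalizer (D : Set Q) := by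
    refine mem_normalizer_fintype ?_
    rintro _ ⟨a, rfl⟩
    refine ⟨⟨_, (mem_normalizer_iff.1 hfA a).1 a.2⟩, ?_⟩
    show x * (f * a * f⁻¹) * x⁻¹ * (f * a * f⁻¹)⁻¹ = f * (x * a * x⁻¹ * (a : Q)⁻¹) * f⁻¹
    calc x * (f * a * f⁻¹) * x⁻¹ * (f * a * f⁻¹)⁻¹
        = (x * f) * a * (x * f)⁻¹ * (f * (a : Q)⁻¹ * f⁻¹) := by group
      _ = (f * x) * a * (f * x)⁻¹ * (f * (a : Q)⁻¹ * f⁻¹) := by rw [hfx.eq]
      _ = _ := by group
  have hfD' := commute_of_scalar hfi hfo hfD (Or.inl hinv)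
  -- `A` is the product of the fixed points and `D`
  let δD : D → D := fun d => ⟨δ ⟨d, hDA d.2⟩, _, rfl⟩
  have hinj : Function.Injective δD := by
    intro d e hde
    have h : δ (⟨d, hDA d.2⟩ * (⟨e, hDA e.2⟩ : A)⁻¹) = 1 := by
      rw [map_mul, map_inv, show δ ⟨d, hDA d.2⟩ = δ ⟨e, hDA e.2⟩ from congrArg Subtype.val hde,
        mul_inv_cancel]
    refine Subtype.ext (mul_inv_eq_one.1 (hfree _ (mul_mem d.2 (inv_mem e.2)) ?_))
    show x * ((d : Q) * (e : Q)⁻¹) = (d : Q) * (e : Q)⁻¹ * x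
    exact mul_inv_eq_iff_eq_mul.1 (mul_inv_eq_one.1 h)
  intro a ha
  obtain ⟨d, hd⟩ := Finite.injective_iff_surjective.1 hinj ⟨δ ⟨a, ha⟩, _, rfl⟩
  have hd' : δ ⟨d, hDA d.2⟩ = δ ⟨a, ha⟩ := congrArg Subtype.val hd
  have hfix : Commute x (a * (d : Q)⁻¹) := by
    have h : δ (⟨a, ha⟩ * (⟨d, hDA d.2⟩ : A)⁻¹) = 1 := by
      rw [map_mul, map_inv, hd', mul_inv_cancel]
    exact mul_inv_eq_iff_eq_mul.1 (mul_inv_eq_one.1 h)
  have h1 := (hffix _ (mul_mem ha (inv_mem (hDA d.2))) hfix).mul_right (hfD' d d.2)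
  rwa [inv_mul_cancel_right] at h1

end Abelian

variable {X : Type*} [Group X] [Finite X]

/-- The Frattini quotient of a normal `t`-subgroup. -/
theorem commutator_mem_frattini {t : ℕ} [Fact t.Prime] {P : Subgroup X} [P.Normal]
    (hP : IsPGroup t P) (ht2 : t ≠ 2) {z x f : X} (hz : z * z = 1)
    (hzx : z * x * z⁻¹ = x ∨ z * x * z⁻¹ = x⁻¹)
    (hfx : Commute f x) (hfi : Inverts z f) (hfo : Odd (orderOf f))
    (hxo : (orderOf x).Coprime t) (hzfix : ∀ a ∈ P, Commute z a → Commute x a)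
    (hffix : ∀ a ∈ P, Commute x a → Commute f a) :
    ∀ a ∈ P, f * a * f⁻¹ * a⁻¹ ∈ (frattini ↥P).map P.subtype := by
  set N := (frattini ↥P).map P.subtype with hN
  haveI : N.Normal := by rw [hN]; infer_instance
  have hNP : N ≤ P := map_subtype_le _
  have hNp : IsPGroup t N := hP.to_le hNP
  obtain ⟨k, hk⟩ := IsPGroup.iff_card.1 hNp
  set π := QuotientGroup.mk' N
  have hA : IsPGroup t (P.map π) := hP.map π
  have hab : ∀ a ∈ P.map π, ∀ c ∈ P.map π, Commute a c := by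
    rintro _ ⟨a, ha, rfl⟩ _ ⟨c, hc, rfl⟩
    refine commutatorElement_eq_one_iff_commute.1 ?_
    rw [← map_commutatorElement]
    refine (QuotientGroup.eq_one_iff _).2 ⟨⁅(⟨a, ha⟩ : P), ⟨c, hc⟩⁆, ?_, rfl⟩
    exact CfsgLib.Solvable.commutator_le_frattini hP
      (commutator_mem_commutator (mem_top _) (mem_top _))
  have hnorm : ∀ q : X, π q ∈ normalizer (P.map π : Set (X ⧸ N)) := fun q =>
    le_normalizer_map π ⟨q, by rw [normalizer_eq_top]; exact mem_top q, rfl⟩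
  have hNodd : Odd (Nat.card N) := hk ▸ ((Fact.out : t.Prime).odd_of_ne_two ht2).pow
  have hzfix' : ∀ a ∈ P.map π, Commute (π z) a → Commute (π x) a := by
    rintro _ ⟨a, ha, rfl⟩ hc
    have hmem : a⁻¹ * z * a * z⁻¹ ∈ N := by
      refine (QuotientGroup.eq_one_iff _).1 ?_
      show π (a⁻¹ * z * a * z⁻¹) = 1
      rw [map_mul, map_mul, map_mul, map_inv, map_inv, mul_assoc (π a)⁻¹, hc.eq,
        inv_mul_cancel_left, mul_inv_cancel]
    obtain ⟨r, hr, hcr⟩ := exists_fixed_mul hz (odd_orderOf_of_mem hNodd hmem)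
    have hrN : r ∈ N := zpowers_le.2 hmem hr
    have h := (hzfix _ (mul_mem ha (hNP hrN)) hcr).map π
    rwa [map_mul, show π r = 1 from (QuotientGroup.eq_one_iff _).2 hrN, mul_one] at h
  have hffix' : ∀ a ∈ P.map π, Commute (π x) a → Commute (π f) a := by
    rintro _ ⟨a, ha, rfl⟩ hc
    obtain ⟨c, hc', hcN⟩ := Coprime.exists_fixed_mem_coset (N := N) (A := zpowers x)
      (by rw [normalizer_eq_top]; exact le_top)
      (by rw [Nat.card_zpowers, hk]; exact hxo.pow_right k)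
      (Or.inr (by haveI := hNp.isNilpotent; infer_instance)) (k := a) (by
        rintro w ⟨i, rfl⟩
        refine (QuotientGroup.eq_one_iff _).1 ?_
        show π (a⁻¹ * (x ^ i * a * (x ^ i)⁻¹)) = 1
        rw [map_mul, map_mul, map_mul, map_inv, map_inv, map_zpow, (hc.zpow_left i).eq,
          mul_inv_cancel_right, inv_mul_cancel])
    have hcP : c ∈ P := by simpa using mul_mem ha (hNP hcN)
    have h := (hffix c hcP (mem_centralizer_iff.1 hc' x (mem_zpowers x))).map π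
    rwa [← show π a = π c from QuotientGroup.eq.2 hcN] at h
  intro a ha
  refine (QuotientGroup.eq_one_iff _).1 ?_
  show π (f * a * f⁻¹ * a⁻¹) = 1
  have h := commute_of_moved hA ht2 hab (z := π z) (x := π x) (f := π f)
    (by rw [← map_mul, hz, map_one]) (hnorm z) (hnorm x) (hnorm f)
    (hzx.imp (fun e => by rw [← map_inv, ← map_mul, ← map_mul, e])
      (fun e => by rw [← map_inv, ← map_mul, ← map_mul, e, map_inv]))
    (hfx.map π) (hfi.map π) (hfo.of_dvd_nat (orderOf_map_dvd π f))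
    (hxo.coprime_dvd_left (orderOf_map_dvd π x)) hzfix' hffix' (π a) (mem_map_of_mem π ha)
  rw [map_mul, map_mul, map_mul, map_inv, map_inv, h.eq, mul_inv_cancel_right, mul_inv_cancel]

end CfsgLib.GW.OS
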