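import Cfsg.Agent.Coprime.Generation
import Cfsg.Agent.LocalEven48.Basic
import Cfsg.Agent.Small.Dihedral

/-!
# Gorenstein–Walter, odd-by-two type: involutions acting on subgroups of odd order

`Inverts z d`: `z d z⁻¹ = d⁻¹`.
-/

set_option autoImplicit false
set_option linter.style.haveILetI false
set_option linter.unusedSectionVars false

open Subgroup
open scoped commutatorElement

namespace CfsgLib.GW.OS

variable {G : Type*} [Group G]

/-- `z` inverts `d`. -/
def Inverts (z d : G) : Prop := z * d * z⁻¹ = d⁻¹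

theorem inverts_iff {z d : G} : Inverts z d ↔ z * d * z⁻¹ = d⁻¹ := Iff.rfl

theorem Inverts.pow {z d : G} (h : Inverts z d) (k : ℕ) : Inverts z (d ^ k) := by
  show z * d ^ k * z⁻¹ = (d ^ k)⁻¹
  rw [← inv_pow, ← (h : z * d * z⁻¹ = d⁻¹)]
  simp

theorem Inverts.map {H : Type*} [Group H] (φ : G →* H) {z d : G} (h : Inverts z d) :
    Inverts (φ z) (φ d) := by
  show φ z * φ d * (φ z)⁻¹ = (φ d)⁻¹
  rw [← map_inv, ← map_inv, ← (h : z * d * z⁻¹ = d⁻¹), map_mul, map_mul]

theorem Inverts.conj {z d : G} (h : Inverts z d) (g : G) : Inverts (g * z * g⁻¹) (g * d * g⁻¹) :=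
  h.map (MulAut.conj g).toMonoidHom

theorem Inverts.of_commute {z w d : G} (h : Inverts z d) (hw : Commute w d) :
    Inverts (z * w) d := by
  show z * w * d * (z * w)⁻¹ = d⁻¹
  calc z * w * d * (z * w)⁻¹ = z * (w * d * w⁻¹) * z⁻¹ := by group
    _ = d⁻¹ := by rw [hw.eq, mul_inv_cancel_right]; exact h

theorem Inverts.inv {z d : G} (h : Inverts z d) : Inverts z d⁻¹ := by
  show z * d⁻¹ * z⁻¹ = d⁻¹⁻¹
  rw [inv_inv]
  calc z * d⁻¹ * z⁻¹ = (z * d * z⁻¹)⁻¹ := by group
    _ = d := by rw [(h : z * d * z⁻¹ = d⁻¹), inv_inv]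

/-- Two inverting elements differ by an element of the centralizer. -/
theorem Inverts.mul_commute {z w d : G} (h : Inverts z d) (h' : Inverts w d) :
    Commute (z * w) d := by
  show z * w * d = d * (z * w)
  calc z * w * d = z * (w * d * w⁻¹) * w := by group
    _ = z * d⁻¹ * w := by rw [h']
    _ = z * d⁻¹ * z⁻¹ * (z * w) := by group
    _ = d * (z * w) := by rw [h.inv, inv_inv]

theorem commute_of_sq_commute {h y : G} (ho : Odd (orderOf h)) (hc : Commute (h * h) y) :
    Commute h y := by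
  obtain ⟨k, hk⟩ := ho
  have e : h = (h * h) ^ (k + 1) := by
    rw [← pow_two, ← pow_mul, show 2 * (k + 1) = orderOf h + 1 by omega, pow_succ,
      pow_orderOf_eq_one, one_mul]
  rw [e]
  exact hc.pow_left _

/-- An element of odd order, commuted with and inverted, is trivial. -/
theorem Inverts.eq_one {z d : G} (h : Inverts z d) (hc : Commute z d) (ho : Odd (orderOf d)) :
    d = 1 := by
  have h2 : d * d = 1 := by
    have h' : z * d * z⁻¹ = d⁻¹ := h
    rw [hc.eq, mul_inv_cancel_right] at h'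
    exact mul_eq_one_iff_eq_inv.2 h'
  obtain ⟨k, hk⟩ := ho
  have := pow_orderOf_eq_one d
  rwa [hk, pow_succ, pow_mul, pow_two, h2, one_pow, one_mul] at this

/-- An inverted element commutes with a fixed element whose conjugate is fixed. -/
theorem commute_of_fixed_conj {z h y : G} (hh : Inverts z h) (ho : Odd (orderOf h))
    (hy : Commute z y) (hy' : Commute z (h * y * h⁻¹)) : Commute h y := by
  refine commute_of_sq_commute ho ?_
  have h' : z * h * z⁻¹ = h⁻¹ := hh
  have e : h⁻¹ * y * h = h * y * h⁻¹ := by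
    calc h⁻¹ * y * h = (z * h * z⁻¹) * y * (z * h * z⁻¹)⁻¹ := by rw [h', inv_inv]
      _ = z * (h * (z⁻¹ * y * z) * h⁻¹) * z⁻¹ := by group
      _ = z * (h * y * h⁻¹) * z⁻¹ := by
          rw [mul_assoc z⁻¹ y z, ← hy.eq, inv_mul_cancel_left]
      _ = h * y * h⁻¹ := by rw [hy'.eq, mul_inv_cancel_right]
  show h * h * y = y * (h * h)
  calc h * h * y = h * (h * y * h⁻¹) * h := by group
    _ = h * (h⁻¹ * y * h) * h := by rw [e]
    _ = y * (h * h) := by group

/-- An inverted element commutes with an inverted element whose conjugate is inverted. -/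
theorem commute_of_inverted_conj {z h y : G} (hh : Inverts z h) (ho : Odd (orderOf h))
    (hy : Inverts z y) (hy' : Inverts z (h * y * h⁻¹)) : Commute h y := by
  refine commute_of_sq_commute ho ?_
  have h' : z * h * z⁻¹ = h⁻¹ := hh
  have hy1 : z * y * z⁻¹ = y⁻¹ := hy
  have e : h⁻¹ * y⁻¹ * h = h * y⁻¹ * h⁻¹ := by
    calc h⁻¹ * y⁻¹ * h = (z * h * z⁻¹) * (z * y * z⁻¹) * (z * h * z⁻¹)⁻¹ := by
          rw [h', hy1, inv_inv]
      _ = z * (h * y * h⁻¹) * z⁻¹ := by group
      _ = (h * y * h⁻¹)⁻¹ := hy'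
      _ = h * y⁻¹ * h⁻¹ := by group
  have hc : Commute (h * h) y⁻¹ := by
    show h * h * y⁻¹ = y⁻¹ * (h * h)
    calc h * h * y⁻¹ = h * (h * y⁻¹ * h⁻¹) * h := by group
      _ = h * (h⁻¹ * y⁻¹ * h) * h := by rw [e]
      _ = y⁻¹ * (h * h) := by group
  simpa using hc.inv_right

/-- The commutator with an involution is inverted. -/
theorem inverts_comm {z : G} (hz : z * z = 1) (a : G) : Inverts z (a * z * a⁻¹ * z⁻¹) := by
  have hzi : z⁻¹ = z := inv_eq_of_mul_eq_one_right hz
  show z * (a * z * a⁻¹ * z⁻¹) * z⁻¹ = (a * z * a⁻¹ * z⁻¹)⁻¹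
  simp only [mul_inv_rev, inv_inv, hzi, mul_assoc, hz, mul_one]

theorem comm_eq_one_iff {z a : G} : a * z * a⁻¹ * z⁻¹ = 1 ↔ Commute z a := by
  rw [mul_inv_eq_one, mul_inv_eq_iff_eq_mul]
  exact ⟨fun h => h.symm, fun h => h.symm⟩

/-- An element inverted by an involution is a square of such a commutator when of odd order. -/
theorem Inverts.exists_comm_eq {z d : G} (h : Inverts z d) (ho : Odd (orderOf d)) :
    ∃ a ∈ zpowers d, a * z * a⁻¹ * z⁻¹ = d := by
  obtain ⟨k, hk⟩ := ho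
  refine ⟨d ^ (k + 1), pow_mem (mem_zpowers d) _, ?_⟩
  have e := h.pow (k + 1)
  calc d ^ (k + 1) * z * (d ^ (k + 1))⁻¹ * z⁻¹ = d ^ (k + 1) * (z * (d ^ (k + 1))⁻¹ * z⁻¹) := by group
    _ = d ^ (k + 1) * d ^ (k + 1) := by rw [(e.inv : z * (d ^ (k + 1))⁻¹ * z⁻¹ = _), inv_inv]
    _ = d := by rw [← pow_add, show k + 1 + (k + 1) = orderOf d + 1 by omega, pow_succ,
      pow_orderOf_eq_one, one_mul]

/-- In a coset of an odd subgroup stable under `z` there is a fixed element. -/
theorem exists_fixed_mul {z n : G} (hz : z * z = 1) (ho : Odd (orderOf (n⁻¹ * z * n * z⁻¹))) :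
    ∃ r ∈ zpowers (n⁻¹ * z * n * z⁻¹), Commute z (n * r) := by
  have hi : Inverts z (n⁻¹ * z * n * z⁻¹) := by
    simpa using inverts_comm hz n⁻¹
  set c := n⁻¹ * z * n * z⁻¹ with hc
  obtain ⟨k, hk⟩ := ho
  refine ⟨c ^ (k + 1), pow_mem (mem_zpowers c) _, ?_⟩
  have h1 : z * n * z⁻¹ = n * c := by rw [hc]; group
  have h2 : c * (c ^ (k + 1))⁻¹ = c ^ (k + 1) := by
    rw [mul_inv_eq_iff_eq_mul, ← pow_add, show k + 1 + (k + 1) = orderOf c + 1 by omega, pow_succ,
      pow_orderOf_eq_one, one_mul]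
  show z * (n * c ^ (k + 1)) = n * c ^ (k + 1) * z
  calc z * (n * c ^ (k + 1)) = (z * n * z⁻¹) * (z * c ^ (k + 1) * z⁻¹) * z := by group
    _ = n * (c * (c ^ (k + 1))⁻¹) * z := by rw [h1, hi.pow (k + 1)]; group
    _ = n * c ^ (k + 1) * z := by rw [h2]

theorem odd_orderOf_of_mem {R : Subgroup G} (ho : Odd (Nat.card R)) {x : G} (hx : x ∈ R) :
    Odd (orderOf x) :=
  ho.of_dvd_nat (Subgroup.orderOf_dvd_natCard R hx)

/-- A fixed point free involution inverts. -/
theorem inverts_of_fixedPointFree [Finite G] {z : G} {Y : Subgroup G} (hz : z * z = 1)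
    (hn : z ∈ normalizer (Y : Set G)) (hfix : ∀ y ∈ Y, Commute z y → y = 1) :
    ∀ y ∈ Y, Inverts z y := by
  let f : Y → Y := fun y => ⟨(y : G)⁻¹ * (z * y * z⁻¹),
    mul_mem (inv_mem y.2) ((mem_normalizer_iff.1 hn _).1 y.2)⟩
  have hf : Function.Injective f := by
    intro a b hab
    have h' : (a : G)⁻¹ * (z * a * z⁻¹) = (b : G)⁻¹ * (z * b * z⁻¹) := congrArg Subtype.val hab
    have h1 : Commute z ((a : G) * (b : G)⁻¹) := by
      show z * ((a : G) * (b : G)⁻¹) = (a : G) * (b : G)⁻¹ * z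
      calc z * ((a : G) * (b : G)⁻¹)
          = a * ((a : G)⁻¹ * (z * a * z⁻¹)) * (z * (b : G)⁻¹ * z⁻¹) * z := by group
        _ = a * ((b : G)⁻¹ * (z * b * z⁻¹)) * (z * (b : G)⁻¹ * z⁻¹) * z := by rw [h']
        _ = (a : G) * (b : G)⁻¹ * z := by group
    exact Subtype.ext (mul_inv_eq_one.1 (hfix _ (mul_mem a.2 (inv_mem b.2)) h1))
  intro y hy
  obtain ⟨a, ha⟩ := (Finite.injective_iff_surjective.1 hf) ⟨y, hy⟩
  have hzi : z⁻¹ = z := inv_eq_of_mul_eq_one_right hz
  have := inverts_comm hz (a : G)⁻¹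
  rw [inv_inv] at this
  have ha' : (a : G)⁻¹ * (z * a * z⁻¹) = y := congrArg Subtype.val ha
  rwa [show (a : G)⁻¹ * z * a * z⁻¹ = y by rw [← ha']; group] at this

/-- A subgroup all whose elements are inverted is abelian. -/
theorem commute_of_inverts_all {z : G} {Y : Subgroup G} (h : ∀ y ∈ Y, Inverts z y) {a b : G}
    (ha : a ∈ Y) (hb : b ∈ Y) : Commute a b := by
  have h1 : z * (a * b) * z⁻¹ = (a * b)⁻¹ := h _ (mul_mem ha hb)
  have h2 : z * (a * b) * z⁻¹ = a⁻¹ * b⁻¹ := by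
    rw [← (h a ha : z * a * z⁻¹ = a⁻¹), ← (h b hb : z * b * z⁻¹ = b⁻¹)]
    group
  rw [h2, mul_inv_rev] at h1
  have := congrArg (·⁻¹) h1
  simp only [mul_inv_rev, inv_inv] at this
  exact this.symm

/-- An inverted element of odd order centralizes an invariant subgroup on which `z` is a scalar. -/
theorem commute_of_scalar {z h : G} {Y : Subgroup G} (hh : Inverts z h) (ho : Odd (orderOf h))
    (hn : h ∈ normalizer (Y : Set G))
    (hs : (∀ y ∈ Y, Inverts z y) ∨ ∀ y ∈ Y, Commute z y) : ∀ y ∈ Y, Commute h y := by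
  intro y hy
  have hy' := (mem_normalizer_iff.1 hn y).1 hy
  rcases hs with hs | hs
  · exact commute_of_inverted_conj hh ho (hs y hy) (hs _ hy')
  · exact commute_of_fixed_conj hh ho (hs y hy) (hs _ hy')

/-- A `p`-group acting on a nontrivial `p`-group fixes a nontrivial element. -/
theorem exists_fixed_ne_one [Finite G] {p : ℕ} [Fact p.Prime] {P Q : Subgroup G}
    (hP : IsPGroup p P) (hQ : IsPGroup p Q) (hn : Q ≤ normalizer (P : Set G)) (hne : P ≠ ⊥) :
    ∃ x ∈ P, x ≠ 1 ∧ ∀ q ∈ Q, Commute q x := by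
  haveI : Nontrivial P := (nontrivial_iff_ne_bot P).2 hne
  letI : MulAction Q P :=
    MulAction.compHom P ((Subgroup.normalizerMonoidHom P).comp (Subgroup.inclusion hn))
  obtain ⟨n, hn0, hcard⟩ := (IsPGroup.nontrivial_iff_card hP).1 inferInstance
  have hd : p ∣ Nat.card P := hcard ▸ dvd_pow_self p hn0.ne'
  have h1 : (1 : P) ∈ MulAction.fixedPoints Q P := fun q => map_one
    ((Subgroup.normalizerMonoidHom P) (Subgroup.inclusion hn q))
  obtain ⟨x, hx, hx1⟩ := hQ.exists_fixed_point_of_prime_dvd_card_of_fixed_point P hd h1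
  refine ⟨x, x.2, fun e => hx1 (Subtype.ext e.symm), fun q hq => ?_⟩
  have h := congrArg Subtype.val (hx ⟨q, hq⟩)
  exact mul_inv_eq_iff_eq_mul.1 h

/-- **Thompson-type lemma**: an inverted element centralizing the fixed points centralizes. -/
theorem commute_of_inverts_fixed [Finite G] {p : ℕ} [Fact p.Prime] {R : Subgroup G} {z f : G}
    (hR : IsPGroup p R) (hp : p ≠ 2) (hz : z * z = 1) (hzR : z ∈ normalizer (R : Set G))
    (hfR : f ∈ normalizer (R : Set G)) (hf : Inverts z f) (ho : Odd (orderOf f))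
    (hco : (orderOf f).Coprime p) (hfix : ∀ a ∈ R, Commute z a → Commute f a) :
    ∀ a ∈ R, Commute f a := by
  by_contra hne
  set K := R ⊓ centralizer ({f} : Set G) with hK
  have memK : ∀ x, x ∈ K ↔ x ∈ R ∧ Commute f x := fun x => by
    rw [hK, mem_inf, mem_centralizer_singleton_iff]
    exact and_congr_right fun _ => ⟨fun h => h.symm, fun h => h.symm⟩
  have hoR : Odd (Nat.card R) := by
    obtain ⟨k, hk⟩ := IsPGroup.iff_card.1 hR
    rw [hk]
    exact ((Fact.out : p.Prime).odd_of_ne_two hp).pow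
  have hzi : z⁻¹ = z := inv_eq_of_mul_eq_one_right hz
  have hzK : z ∈ normalizer (K : Set G) := by
    have : ∀ x ∈ K, z * x * z⁻¹ ∈ K := by
      intro x hx
      rw [memK] at hx ⊢
      refine ⟨(mem_normalizer_iff.1 hzR x).1 hx.1, ?_⟩
      have h := hx.2.map (MulAut.conj z).toMonoidHom
      simp only [MulEquiv.coe_toMonoidHom, MulAut.conj_apply] at h
      rw [(hf : z * f * z⁻¹ = f⁻¹)] at h
      simpa using h.inv_left
    refine mem_normalizer_iff.2 fun x => ⟨this x, fun hx => ?_⟩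
    have := this _ hx
    rwa [show z * (z * x * z⁻¹) * z⁻¹ = (z * z) * x * (z * z)⁻¹ by group, hz, inv_one, mul_one,
      one_mul] at this
  have hfK : f ∈ normalizer (K : Set G) := by
    refine mem_normalizer_iff.2 fun x => ⟨fun hx => ?_, fun hx => ?_⟩
    · rwa [((memK x).1 hx).2.eq, mul_inv_cancel_right]
    · have h := ((memK _).1 hx).2
      have : f * x * f⁻¹ = x := by
        have := h.eq
        simpa [mul_assoc] using mul_left_cancel
          (show f * (f * x * f⁻¹) = f * x by rw [this]; group)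
      rwa [this] at hx
  -- the next step of the normalizer chain
  have hlt : K.subgroupOf R < ⊤ := by
    rw [lt_top_iff_ne_top, Ne, subgroupOf_eq_top]
    exact fun hle => hne fun a ha => ((memK a).1 (hle ha)).2
  haveI := hR.isNilpotent
  obtain ⟨⟨n, hnR⟩, hnN, hnK⟩ := SetLike.exists_of_lt
    (Group.normalizerCondition_of_isNilpotent _ hlt)
  have hnK' : n ∈ normalizer (K : Set G) := by
    refine mem_normalizer_iff.2 fun x => ?_
    have hR' : x ∈ R ↔ n * x * n⁻¹ ∈ R := (mem_normalizer_iff.1 (le_normalizer hnR) x)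
    constructor
    · intro hx
      exact (mem_normalizer_iff.1 hnN ⟨x, ((memK x).1 hx).1⟩).1 hx
    · intro hx
      exact (mem_normalizer_iff.1 hnN ⟨x, hR'.2 ((memK _).1 hx).1⟩).2 hx
  -- the quotient
  set H := normalizer (K : Set G) with hH
  let π : H →* H ⧸ K.subgroupOf H := QuotientGroup.mk' _
  let N := (R.subgroupOf H).map π
  have hzN : π ⟨z, hzK⟩ ∈ normalizer (N : Set (H ⧸ K.subgroupOf H)) :=
    le_normalizer_map π ⟨_, (mem_normalizer_iff.2 fun x => by
      simpa [mem_subgroupOf] using mem_normalizer_iff.1 hzR (x : G)), rfl⟩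
  have hfree : ∀ y ∈ N, Commute (π ⟨z, hzK⟩) y → y = 1 := by
    rintro _ ⟨⟨y, hyH⟩, hyR, rfl⟩ hc
    have hyR' : y ∈ R := hyR
    have hcK : y⁻¹ * z * y * z⁻¹ ∈ K := by
      have : π (⟨y, hyH⟩⁻¹ * ⟨z, hzK⟩ * ⟨y, hyH⟩ * ⟨z, hzK⟩⁻¹) = 1 := by
        simp only [map_mul, map_inv]
        rw [mul_assoc (π ⟨y, hyH⟩)⁻¹, hc.eq]
        group
      have h' := (QuotientGroup.eq_one_iff _).1 this
      exact h'
    obtain ⟨r, hr, hcr⟩ := exists_fixed_mul hz
      (odd_orderOf_of_mem hoR ((memK _).1 hcK).1)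
    have hrK : r ∈ K := zpowers_le.2 hcK hr
    have hyrK : y * r ∈ K := (memK _).2 ⟨mul_mem hyR' ((memK r).1 hrK).1,
      hfix _ (mul_mem hyR' ((memK r).1 hrK).1) hcr⟩
    refine (QuotientGroup.eq_one_iff _).2 ?_
    show y ∈ K
    simpa using mul_mem hyrK (inv_mem hrK)
  have hπz : π ⟨z, hzK⟩ * π ⟨z, hzK⟩ = 1 := by
    rw [← map_mul, show (⟨z, hzK⟩ : H) * ⟨z, hzK⟩ = 1 from Subtype.ext hz, map_one]
  have hinv := inverts_of_fixedPointFree hπz hzN hfree
  have hfN : π ⟨f, hfK⟩ ∈ normalizer (N : Set (H ⧸ K.subgroupOf H)) :=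
    le_normalizer_map π ⟨_, (mem_normalizer_iff.2 fun x => by
      simpa [mem_subgroupOf] using mem_normalizer_iff.1 hfR (x : G)), rfl⟩
  have hfinv : Inverts (π ⟨z, hzK⟩) (π ⟨f, hfK⟩) :=
    (show Inverts (⟨z, hzK⟩ : H) ⟨f, hfK⟩ from Subtype.ext hf).map π
  have hfo : Odd (orderOf (π ⟨f, hfK⟩)) :=
    ho.of_dvd_nat ((orderOf_map_dvd π _).trans (Subgroup.orderOf_mk f hfK).dvd)
  have hcomm := commute_of_scalar hfinv hfo hfN (Or.inl hinv) (π ⟨n, hnK'⟩) ⟨_, hnR, rfl⟩
  have hmem : ⁅f, n⁆ ∈ K := by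
    have : π (⁅(⟨f, hfK⟩ : H), ⟨n, hnK'⟩⁆) = 1 := by
      rw [map_commutatorElement]; exact commutatorElement_eq_one_iff_commute.2 hcomm
    have h' := (QuotientGroup.eq_one_iff _).1 this
    exact h'
  refine hnK ?_
  show n ∈ K
  exact (memK n).2 ⟨hnR, OddOrder.Stab.commute_of_stab_mem ((memK _).1 hmem).2
    ((memK _).1 hmem).1 (LocalEven48.coprime_orderOf hR hco)⟩

/-- The four-group of two commuting involutions. -/
theorem exists_fourGroup {z b : G} (hz : orderOf z = 2) (hb : orderOf b = 2) (hc : Commute z b)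
    (hne : b ≠ z) : ∃ A : Subgroup G, IsMulCommutative A ∧ ¬ IsCyclic A ∧ Nat.card A = 4 ∧
      (∀ a ∈ A, a = 1 ∨ a = z ∨ a = b ∨ a = z * b) ∧ z ∈ A ∧ b ∈ A := by
  classical
  have hz2 := Small.mul_self_of_orderOf_two hz
  have hb2 := Small.mul_self_of_orderOf_two hb
  have hz1 := Small.ne_one_of_orderOf_two hz
  have hb1 := Small.ne_one_of_orderOf_two hb
  have h1 : b * z = z * b := hc.symm
  have h2 : z * (z * b) = b := by rw [← mul_assoc, hz2, one_mul]
  have h3 : b * (z * b) = z := by rw [← mul_assoc, h1, mul_assoc, hb2, mul_one]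
  have h4 : z * b * z = b := by rw [mul_assoc, h1, h2]
  have h5 : z * b * b = z := by rw [mul_assoc, hb2, mul_one]
  have h6 : z * b * (z * b) = 1 := by rw [← mul_assoc, h4, hb2]
  let A : Subgroup G :=
    { carrier := {1, z, b, z * b}
      one_mem' := by simp
      mul_mem' := by
        rintro x y (rfl | rfl | rfl | rfl) (rfl | rfl | rfl | rfl) <;>
          simp [hz2, hb2, h1, h2, h3, h4, h5, h6]
      inv_mem' := by
        have hzi : z⁻¹ = z := inv_eq_of_mul_eq_one_right hz2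
        have hbi : b⁻¹ = b := inv_eq_of_mul_eq_one_right hb2
        rintro x (rfl | rfl | rfl | rfl) <;> simp [hzi, hbi, h1] }
  have hmem : ∀ a ∈ A, a = 1 ∨ a = z ∨ a = b ∨ a = z * b := fun a ha => ha
  have hsq : ∀ a ∈ A, a * a = 1 := by
    intro a ha
    rcases hmem a ha with rfl | rfl | rfl | rfl
    exacts [one_mul 1, hz2, hb2, h6]
  have hcard : Nat.card A = 4 := by
    have h4' : ({1, z, b, z * b} : Finset G).card = 4 := by
      rw [Finset.card_insert_of_notMem, Finset.card_insert_of_notMem,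
        Finset.card_insert_of_notMem, Finset.card_singleton]
      · simp [Ne.symm, hz1]
      · simp [Ne.symm hne, hb1]
      · simp only [Finset.mem_insert, Finset.mem_singleton, not_or]
        exact ⟨Ne.symm hz1, Ne.symm hb1, fun e => hne
          (by rw [eq_inv_of_mul_eq_one_left e.symm, inv_eq_of_mul_eq_one_right hb2])⟩
    rw [← h4', ← Set.ncard_coe_finset, ← Nat.card_coe_set_eq]
    congr 1
    simp [A]
    rfl
  refine ⟨A, ⟨⟨fun a c => Subtype.ext ?_⟩⟩, fun hcy => ?_, hcard, hmem, Or.inr (Or.inl rfl),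
    Or.inr (Or.inr (Or.inl rfl))⟩
  · have := hsq _ (mul_mem a.2 c.2)
    calc (a : G) * c = ((a : G) * c)⁻¹ := (inv_eq_of_mul_eq_one_right this).symm
      _ = (c : G) * a := by
          rw [mul_inv_rev, inv_eq_of_mul_eq_one_right (hsq _ a.2),
            inv_eq_of_mul_eq_one_right (hsq _ c.2)]
  · obtain ⟨g, hg⟩ := IsCyclic.exists_ofOrder_eq_natCard (α := A)
    rw [hcard] at hg
    have : orderOf g ∣ 2 := orderOf_dvd_of_pow_eq_one
      (Subtype.ext (by simpa [pow_two] using hsq _ g.2))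
    rw [hg] at this
    norm_num at this

/-- A subgroup of odd order is generated by the centralizers of three involutions. -/
theorem le_of_four [Finite G] {z b : G} (hz : orderOf z = 2) (hb : orderOf b = 2)
    (hc : Commute z b) (hne : b ≠ z) {R W : Subgroup G} (ho : Odd (Nat.card R))
    (hzR : z ∈ normalizer (R : Set G)) (hbR : b ∈ normalizer (R : Set G))
    (h1 : ∀ a ∈ R, Commute z a → a ∈ W) (h2 : ∀ a ∈ R, Commute b a → a ∈ W)
    (h3 : ∀ a ∈ R, Commute (z * b) a → a ∈ W) : R ≤ W := by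
  obtain ⟨A, hA, hAc, hA4, hmem, -, -⟩ := exists_fourGroup hz hb hc hne
  haveI := hA
  refine Coprime.le_of_forall_inf_centralizer_le hAc ?_ ?_ ?_
  · intro a ha
    rcases hmem a ha with rfl | rfl | rfl | rfl
    exacts [one_mem _, hzR, hbR, mul_mem hzR hbR]
  · rw [hA4, show 4 = 2 ^ 2 from rfl]
    exact (Nat.coprime_two_left.2 ho).pow_left 2
  · intro a ha ha1 x hx
    obtain ⟨hxR, hxc⟩ := mem_inf.1 hx
    have hc' : Commute a x := mem_centralizer_singleton_iff.1 hxc |>.symm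
    rcases hmem a ha with rfl | rfl | rfl | rfl
    exacts [absurd rfl ha1, h1 x hxR hc', h2 x hxR hc', h3 x hxR hc']

/-- If `z` does not centralize `R`, some nontrivial inverted element of `R` is fixed by another
involution of the four-group. -/
theorem exists_inverted_fixed [Finite G] {z b : G} (hz : orderOf z = 2) (hb : orderOf b = 2)
    (hc : Commute z b) (hne : b ≠ z) {R : Subgroup G} (ho : Odd (Nat.card R))
    (hzR : z ∈ normalizer (R : Set G)) (hbR : b ∈ normalizer (R : Set G))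
    (h : ∃ x ∈ R, ¬ Commute z x) :
    ∃ d ∈ R, d ≠ 1 ∧ Inverts z d ∧ (Commute b d ∨ Commute (z * b) d) := by
  by_contra hno
  obtain ⟨x, hx, hxz⟩ := h
  have key : ∀ v : G, Commute v z → (v = b ∨ v = z * b) → ∀ a ∈ R, Commute v a →
      a ∈ centralizer ({z} : Set G) := by
    intro v hvz hv a ha hva
    refine mem_centralizer_singleton_iff.2 ?_
    by_contra hza
    have hne1 : a * z * a⁻¹ * z⁻¹ ≠ 1 := fun e => hza (comm_eq_one_iff.1 e).eq.symm
    have hmemR : a * z * a⁻¹ * z⁻¹ ∈ R := by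
      rw [show a * z * a⁻¹ * z⁻¹ = a * (z * a⁻¹ * z⁻¹) by group]
      exact mul_mem ha ((mem_normalizer_iff.1 hzR _).1 (inv_mem ha))
    have hcv : Commute v (a * z * a⁻¹ * z⁻¹) :=
      ((hva.mul_right hvz).mul_right hva.inv_right).mul_right hvz.inv_right
    refine hno ⟨_, hmemR, hne1, inverts_comm (Small.mul_self_of_orderOf_two hz) a, ?_⟩
    rcases hv with rfl | rfl
    exacts [Or.inl hcv, Or.inr hcv]
  have hle : R ≤ centralizer ({z} : Set G) := le_of_four hz hb hc hne ho hzR hbR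
    (fun a _ hza => mem_centralizer_singleton_iff.2 hza.eq.symm)
    (key b hc.symm (Or.inl rfl)) (key (z * b) ((Commute.refl z).mul_left hc.symm) (Or.inr rfl))
  exact hxz (mem_centralizer_singleton_iff.1 (hle hx)).symm

/-- The subgroup generated by the commutators of `R` with `z`. -/
def invPart (z : G) (R : Subgroup G) : Subgroup G :=
  closure {x | ∃ a ∈ R, a * z * a⁻¹ * z⁻¹ = x}

theorem mem_invPart {z a : G} {R : Subgroup G} (ha : a ∈ R) :
    a * z * a⁻¹ * z⁻¹ ∈ invPart z R := subset_closure ⟨a, ha, rfl⟩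

theorem mem_invPart_of_inverts {z d : G} {R : Subgroup G} (hd : d ∈ R) (h : Inverts z d)
    (ho : Odd (orderOf d)) : d ∈ invPart z R := by
  obtain ⟨a, ha, e⟩ := h.exists_comm_eq ho
  exact e ▸ mem_invPart (zpowers_le.2 hd ha)

theorem invPart_le {z : G} {R : Subgroup G} (hz : z ∈ normalizer (R : Set G)) : invPart z R ≤ R := by
  refine (closure_le _).2 ?_
  rintro _ ⟨a, ha, rfl⟩
  rw [show a * z * a⁻¹ * z⁻¹ = a * (z * a⁻¹ * z⁻¹) by group]
  exact mul_mem ha ((mem_normalizer_iff.1 hz _).1 (inv_mem ha))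

theorem le_normalizer_invPart [Finite G] (z : G) (R : Subgroup G) :
    R ≤ normalizer (invPart z R : Set G) := by
  refine le_normalizer_iff.2 fun r hr x hx => ?_
  induction hx using closure_induction with
  | mem x hx =>
    obtain ⟨a, ha, rfl⟩ := hx
    rw [show r * (a * z * a⁻¹ * z⁻¹) * r⁻¹ =
      (r * a * z * (r * a)⁻¹ * z⁻¹) * (r * z * r⁻¹ * z⁻¹)⁻¹ by group]
    exact mul_mem (mem_invPart (mul_mem hr ha)) (inv_mem (mem_invPart hr))
  | one => simp
  | mul x y _ _ h1 h2 =>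
    rw [show r * (x * y) * r⁻¹ = (r * x * r⁻¹) * (r * y * r⁻¹) by group]
    exact mul_mem h1 h2
  | inv x _ h1 =>
    rw [show r * x⁻¹ * r⁻¹ = (r * x * r⁻¹)⁻¹ by group]
    exact inv_mem h1

theorem mem_normalizer_invPart [Finite G] {z c : G} {R : Subgroup G} (hc : Commute c z)
    (hR : c ∈ normalizer (R : Set G)) : c ∈ normalizer (invPart z R : Set G) := by
  have : ∀ x ∈ invPart z R, c * x * c⁻¹ ∈ invPart z R := by
    intro x hx
    induction hx using closure_induction with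
    | mem x hx =>
      obtain ⟨a, ha, rfl⟩ := hx
      have hcz : c * z * c⁻¹ = z := by rw [hc.eq, mul_inv_cancel_right]
      rw [show c * (a * z * a⁻¹ * z⁻¹) * c⁻¹ =
        (c * a * c⁻¹) * (c * z * c⁻¹) * (c * a * c⁻¹)⁻¹ * (c * z * c⁻¹)⁻¹ by group, hcz]
      exact mem_invPart ((mem_normalizer_iff.1 hR a).1 ha)
    | one => simp
    | mul x y _ _ h1 h2 =>
      rw [show c * (x * y) * c⁻¹ = (c * x * c⁻¹) * (c * y * c⁻¹) by group]
      exact mul_mem h1 h2
    | inv x _ h1 =>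
      rw [show c * x⁻¹ * c⁻¹ = (c * x * c⁻¹)⁻¹ by group]
      exact inv_mem h1
  exact mem_normalizer_iff.2 (fun x => ⟨this x, fun hx => by
    have h : ∀ (k : ℕ) (y : G), y ∈ invPart z R → c ^ k * y * (c ^ k)⁻¹ ∈ invPart z R := by
      intro k
      induction k with
      | zero => simp
      | succ k ih =>
        intro y hy
        have := this _ (ih y hy)
        rwa [pow_succ', show c * c ^ k * y * (c * c ^ k)⁻¹ = c * (c ^ k * y * (c ^ k)⁻¹) * c⁻¹ by group]
    have h' := h (orderOf c - 1) _ hx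
    have hpos := orderOf_pos c
    rwa [show c ^ (orderOf c - 1) = c⁻¹ from eq_inv_of_mul_eq_one_left
      (by rw [← pow_succ, Nat.sub_add_cancel hpos, pow_orderOf_eq_one]),
      show c⁻¹ * (c * x * c⁻¹) * c⁻¹⁻¹ = x by group] at h'⟩)

end CfsgLib.GW.OS
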