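import Cfsg.Agent.GW.DihedralType
import Cfsg.Agent.GW.OSType.Action
import Cfsg.Agent.AutAlt.Basic

/-!
# Gorenstein–Walter, odd-by-two type: `A₇` as self-centralizing normal subgroup

A group of dihedral type with such a subgroup is `A₇`, and there an involution centralizes every
subgroup of odd order normalized by its centralizer.
-/

set_option autoImplicit false
set_option linter.style.haveILetI false
set_option linter.unusedSectionVars false

open Subgroup

namespace CfsgLib.GW.OS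

variable {Q : Type*} [Group Q] [Finite Q] {L : Subgroup Q} [L.Normal]

/-- A group of dihedral type has no normal self-centralizing `A₇` properly. -/
theorem eq_top_of_alt (hQ : DihType Q) (hC : centralizer (L : Set Q) = ⊥)
    (e : L ≃* alternatingGroup (Fin 7)) : L = ⊤ := by
  classical
  let ec := MulEquiv.ofBijective _ (AutAlt.conjNormal_bijective (α := Fin 7) (by decide) (by decide))
  let c : Q →* MulAut (alternatingGroup (Fin 7)) := (MulAut.congr e).toMonoidHom.comp MulAut.conjNormal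
  let f : Q →* Equiv.Perm (Fin 7) := ec.symm.toMonoidHom.comp c
  have hf : Function.Injective f := by
    refine ec.symm.injective.comp (fun g h hgh => ?_)
    have hmem : g⁻¹ * h ∈ centralizer (L : Set Q) := by
      refine mem_centralizer_iff.2 fun l hl => ?_
      have h1 := DFunLike.congr_fun hgh (e ⟨l, hl⟩)
      simp [c, MulAut.congr] at h1
      have h2 : g * l * g⁻¹ = h * l * h⁻¹ := congrArg Subtype.val h1
      calc l * (g⁻¹ * h) = g⁻¹ * (g * l * g⁻¹) * h := by group
        _ = g⁻¹ * (h * l * h⁻¹) * h := by rw [h2]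
        _ = g⁻¹ * h * l := by group
    rw [hC, mem_bot, inv_mul_eq_one] at hmem
    exact hmem
  have hfL : ∀ l : L, f (l : Q) = ((e l : alternatingGroup (Fin 7)) : Equiv.Perm (Fin 7)) := by
    intro l
    show ec.symm (c l) = _
    rw [MulEquiv.symm_apply_eq]
    ext1 y
    obtain ⟨x, rfl⟩ := e.surjective y
    have hc : c (l : Q) (e x) = e (MulAut.conjNormal (l : Q) x) := by simp [c, MulAut.congr]
    rw [hc]
    refine Subtype.ext ?_
    have hx : MulAut.conjNormal (l : Q) x = l * x * l⁻¹ := Subtype.ext rfl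
    rw [hx, map_mul, map_mul, map_inv]
    rfl
  by_contra hne
  obtain ⟨g, hg⟩ : ∃ g, g ∉ L := by
    by_contra h
    push Not at h
    exact hne ((eq_top_iff' L).2 h)
  have hodd : Equiv.Perm.sign (f g) = -1 := by
    rcases Int.units_eq_one_or (Equiv.Perm.sign (f g)) with h | h
    · exfalso
      obtain ⟨l, hl⟩ := e.surjective ⟨f g, Equiv.Perm.mem_alternatingGroup.2 h⟩
      have : f g = f (l : Q) := by rw [hfL, hl]
      exact hg (hf this ▸ l.2)
    · exact h
  have hsurj : Function.Surjective f := by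
    intro σ
    rcases Int.units_eq_one_or (Equiv.Perm.sign σ) with h | h
    · obtain ⟨l, hl⟩ := e.surjective ⟨σ, Equiv.Perm.mem_alternatingGroup.2 h⟩
      exact ⟨l, by rw [hfL, hl]⟩
    · obtain ⟨l, hl⟩ := e.surjective ⟨σ * (f g)⁻¹, Equiv.Perm.mem_alternatingGroup.2 (by
        rw [map_mul, map_inv, h, hodd]; rfl)⟩
      exact ⟨l * g, by rw [map_mul, hfL, hl, inv_mul_cancel_right]⟩
  let s₁ : Equiv.Perm (Fin 7) := Equiv.swap 0 1
  let s₂ : Equiv.Perm (Fin 7) := Equiv.swap 2 3
  let s₃ : Equiv.Perm (Fin 7) := Equiv.swap 4 5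
  let E : Subgroup (Equiv.Perm (Fin 7)) := closure {s₁, s₂, s₃}
  have hcomm : IsMulCommutative E := by
    refine Subgroup.isMulCommutative_closure ?_
    rintro a (rfl | rfl | rfl) b (rfl | rfl | rfl) <;> decide
  have hsq : ∀ x ∈ E, x * x = 1 := by
    intro x hx
    induction hx using Subgroup.closure_induction with
    | mem y hy => rcases hy with rfl | rfl | rfl <;> decide
    | one => exact one_mul 1
    | mul a b ha hb ha2 hb2 =>
      have : b * a = a * b := congrArg Subtype.val (hcomm.is_comm.comm ⟨b, hb⟩ ⟨a, ha⟩)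
      rw [mul_assoc, ← mul_assoc b, this, mul_assoc a b, hb2, mul_one, ha2]
    | inv a _ ha2 => rw [← mul_inv_rev, ha2, inv_one]
  have h4 := hQ.card_le_four (E.comap f) (fun x hx => hf (by rw [map_mul, map_one]; exact hsq _ hx))
  have hcard : Nat.card (E.comap f) = Nat.card E :=
    Nat.card_congr ((E.comap f).equivMapOfInjective f hf |>.trans
      (MulEquiv.subgroupCongr (Subgroup.map_comap_eq_self (f := f) (H := E)
        (by rw [MonoidHom.range_eq_top.2 hsurj]; exact le_top)))).toEquiv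
  have h5 : ({1, s₁, s₂, s₃, s₁ * s₂} : Finset (Equiv.Perm (Fin 7))).card = 5 := by decide
  have hsub : (({1, s₁, s₂, s₃, s₁ * s₂} : Finset (Equiv.Perm (Fin 7))) : Set (Equiv.Perm (Fin 7))) ⊆ (E : Set (Equiv.Perm (Fin 7))) := by
    intro y hy
    simp only [Finset.coe_insert, Finset.coe_singleton, Set.mem_insert_iff,
      Set.mem_singleton_iff] at hy
    rcases hy with rfl | rfl | rfl | rfl | rfl
    exacts [one_mem _, subset_closure (by simp), subset_closure (by simp), subset_closure (by simp),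
      mul_mem (subset_closure (by simp)) (subset_closure (by simp))]
  have h' := Set.ncard_le_ncard hsub (Set.toFinite _)
  rw [Set.ncard_coe_finset, h5, ← Nat.card_coe_set_eq] at h'
  change 5 ≤ Nat.card E at h'
  omega

theorem alt_fun_pow : ∀ f : Fin 4 → Fin 4, (∀ i j, f i = f j → i = j) →
    ((∀ i, f (![1, 0, 3, 2] i) = ![1, 0, 3, 2] (f i)) ∨
      (∀ i, f (![2, 3, 0, 1] i) = ![2, 3, 0, 1] (f i)) ∨
      (∀ i, f (![3, 2, 1, 0] i) = ![3, 2, 1, 0] (f i))) →
    ∀ i, f (f (f (f (f (f (f (f i))))))) = i := by decide +kernel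

theorem alt_odd_fixes {v : Equiv.Perm (Fin 7)} (w : Fin 4 → Fin 4)
    (hw : w = ![1, 0, 3, 2] ∨ w = ![2, 3, 0, 1] ∨ w = ![3, 2, 1, 0])
    (hv : ∀ i : Fin 4, v (Fin.castLE (by omega) i) = Fin.castLE (by omega) (w i))
    (hfix : ∀ a : Fin 7, 4 ≤ (a : ℕ) → v a = a)
    {σ : Equiv.Perm (Fin 7)} (hc : Commute v σ) (ho : Odd (orderOf σ)) :
    ∀ a : Fin 7, (a : ℕ) < 4 → σ a = a := by
  have hmv : ∀ a : Fin 7, (a : ℕ) < 4 → (σ a : ℕ) < 4 := by
    intro a ha
    by_contra h
    have h1 : v (σ a) = σ (v a) := Equiv.Perm.ext_iff.1 hc.eq a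
    rw [hfix _ (not_lt.1 h)] at h1
    have h2 : v a = a := (σ.injective h1).symm
    have h3 := hv ⟨a, ha⟩
    rw [show Fin.castLE (by omega) (⟨(a : ℕ), ha⟩ : Fin 4) = a from Fin.ext rfl, h2] at h3
    have h4 : w ⟨a, ha⟩ = ⟨a, ha⟩ := Fin.ext (congrArg (fun x : Fin 7 => (x : ℕ)) h3.symm)
    rcases hw with rfl | rfl | rfl <;> revert h4 <;> generalize (⟨(a : ℕ), ha⟩ : Fin 4) = i <;>
      revert i <;> decide
  let f : Fin 4 → Fin 4 := fun i => ⟨σ (Fin.castLE (by omega) i), hmv _ i.isLt⟩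
  have hfin : ∀ i j, f i = f j → i = j := fun i j h => by
    have : σ (Fin.castLE (by omega) i) = σ (Fin.castLE (by omega) j) :=
      Fin.ext (congrArg (fun x : Fin 4 => (x : ℕ)) h)
    exact Fin.castLE_injective _ (σ.injective this)
  have hcf : ∀ i, f (w i) = w (f i) := fun i => Fin.ext <| by
    show (σ (Fin.castLE (by omega) (w i)) : ℕ) = _
    have h1 : v (σ (Fin.castLE (by omega) i)) = σ (v (Fin.castLE (by omega) i)) :=
      Equiv.Perm.ext_iff.1 hc.eq (Fin.castLE (by omega) i)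
    rw [← hv, ← h1, show σ (Fin.castLE (by omega) i) = Fin.castLE (by omega) (f i) from Fin.ext rfl, hv]
    rfl
  have h8 := alt_fun_pow f hfin (by
    rcases hw with rfl | rfl | rfl
    exacts [Or.inl hcf, Or.inr (Or.inl hcf), Or.inr (Or.inr hcf)])
  intro a ha
  have hfa : ∀ k : ℕ, ((f^[k] ⟨a, ha⟩ : Fin 4) : ℕ) = ((σ ^ k) a : ℕ) := by
    intro k
    induction k with
    | zero => rfl
    | succ k ih =>
      rw [Function.iterate_succ_apply', pow_succ', Equiv.Perm.mul_apply]
      show (σ _ : ℕ) = _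
      rw [show Fin.castLE (by omega) (f^[k] ⟨a, ha⟩) = (σ ^ k) a from Fin.ext ih]
  have h8' : (σ ^ 8) a = a := Fin.ext ((hfa 8).symm.trans (congrArg Fin.val (h8 ⟨a, ha⟩)))
  obtain ⟨k, hk⟩ : ∃ k, (σ ^ 8) ^ k = σ :=
    exists_pow_eq_self_of_coprime ((Nat.coprime_two_left.2 ho).pow_left 3)
  rw [← hk]
  exact Equiv.Perm.pow_apply_eq_self_of_apply_eq_self h8' k

/-- The inner lemma for `A₇`. -/
theorem eq_one_of_normalized_alt (hQ : DihType Q) (hC : centralizer (L : Set Q) = ⊥)
    (e : L ≃* alternatingGroup (Fin 7)) {z : Q} (hz : orderOf z = 2) {X : Subgroup Q}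
    (hXo : Odd (Nat.card X)) (hzX : z ∈ normalizer (X : Set Q))
    (hCX : ∀ g ∈ L, Commute z g → g ∈ normalizer (X : Set Q)) {d : Q} (hd : d ∈ X)
    (hi : Inverts z d) : d = 1 := by
  classical
  have hL := eq_top_of_alt hQ hC e
  let ψ : Q →* Equiv.Perm (Fin 7) :=
    (alternatingGroup (Fin 7)).subtype.comp (e.toMonoidHom.comp
      (((MulEquiv.subgroupCongr hL).trans Subgroup.topEquiv).symm.toMonoidHom))
  have hψ : Function.Injective ψ := (alternatingGroup (Fin 7)).subtype_injective.comp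
    (e.injective.comp (MulEquiv.injective _))
  have hψs : ∀ p : Equiv.Perm (Fin 7), Equiv.Perm.sign p = 1 → ∃ g, ψ g = p := by
    intro p hp
    obtain ⟨l, hl⟩ := e.surjective ⟨p, Equiv.Perm.mem_alternatingGroup.2 hp⟩
    exact ⟨l, by
      show ((e _ : alternatingGroup (Fin 7)) : Equiv.Perm (Fin 7)) = p
      rw [show ((MulEquiv.subgroupCongr hL).trans Subgroup.topEquiv).symm.toMonoidHom (l : Q) = l from
        Subtype.ext rfl, hl]⟩
  set v₀ : Equiv.Perm (Fin 7) := Equiv.swap 0 1 * Equiv.swap 2 3 with hv₀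
  set v₁ : Equiv.Perm (Fin 7) := Equiv.swap 0 2 * Equiv.swap 1 3 with hv₁
  have hψz : orderOf (ψ z) = 2 := by rw [orderOf_injective ψ hψ, hz]
  have hct : (ψ z).cycleType = v₀.cycleType := by
    obtain ⟨n, hn⟩ := Equiv.Perm.cycleType_prime_order (σ := ψ z) (hψz ▸ Nat.prime_two)
    rw [hψz] at hn
    have hsum : (ψ z).cycleType.sum ≤ 7 := by
      rw [Equiv.Perm.sum_cycleType]
      exact (Finset.card_le_univ _).trans (by simp)
    have hsign : Equiv.Perm.sign (ψ z) = 1 := Equiv.Perm.mem_alternatingGroup.1 (SetLike.coe_mem _)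
    rw [Equiv.Perm.sign_of_cycleType, hn] at hsign
    rw [hn] at hsum
    simp at hsum hsign
    have hv : v₀.cycleType = Multiset.replicate 2 2 := by decide
    rw [hn, hv]
    have h3 : n < 3 := by omega
    interval_cases n <;> simp_all <;> (revert hsign; decide)
  obtain ⟨c, hc⟩ := isConj_iff.1 ((Equiv.Perm.isConj_iff_cycleType_eq).2 hct)
  let φ : Q →* Equiv.Perm (Fin 7) := (MulAut.conj c).toMonoidHom.comp ψ
  have hφ : Function.Injective φ := (MulAut.conj c).injective.comp hψ
  have hφz : φ z = v₀ := hc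
  have hφs : ∀ p : Equiv.Perm (Fin 7), Equiv.Perm.sign p = 1 → ∃ g, φ g = p := by
    intro p hp
    obtain ⟨g, hg⟩ := hψs (c⁻¹ * p * c) (by simp [map_mul, hp])
    exact ⟨g, by show c * ψ g * c⁻¹ = p; rw [hg]; group⟩
  obtain ⟨w, hw⟩ := hφs v₁ (by decide)
  have hwo : orderOf w = 2 := by
    rw [← orderOf_injective φ hφ, hw]
    exact Small.orderOf_eq_two_iff_sq.2 ⟨by decide, by decide⟩
  have hcw : Commute z w := hφ (by rw [map_mul, map_mul, hφz, hw]; decide)
  have hne : w ≠ z := fun h => by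
    rw [h, hφz] at hw
    exact absurd hw (by decide)
  have hfix : ∀ a ∈ X, (Commute z a ∨ Commute w a ∨ Commute (z * w) a) → Commute z a := by
    intro a ha h
    have ho : Odd (orderOf (φ a)) := by
      rw [orderOf_injective φ hφ]; exact odd_orderOf_of_mem hXo ha
    have hfx : ∀ i : Fin 7, (i : ℕ) < 4 → φ a i = i := by
      rcases h with h | h | h
      · exact alt_odd_fixes _ (Or.inl rfl) (v := v₀) (by decide) (by decide) (hφz ▸ h.map φ) ho
      · exact alt_odd_fixes _ (Or.inr (Or.inl rfl)) (v := v₁) (by decide) (by decide) (hw ▸ h.map φ) ho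
      · have h' := h.map φ
        rw [map_mul, hφz, hw] at h'
        exact alt_odd_fixes _ (Or.inr (Or.inr rfl)) (v := v₀ * v₁) (by decide) (by decide) h' ho
    refine hφ ?_
    rw [map_mul, map_mul, hφz]
    have hmove : ∀ i : Fin 7, ((v₀ i : ℕ) < 4 ↔ (i : ℕ) < 4) ∧ (4 ≤ (i : ℕ) → v₀ i = i) := by decide
    ext i : 1
    change v₀ (φ a i) = φ a (v₀ i)
    by_cases hi4 : (i : ℕ) < 4
    · rw [hfx i hi4, hfx _ ((hmove i).1.2 hi4)]
    · have h7 : ¬ (φ a i : ℕ) < 4 := fun hlt => hi4 (by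
        have := hfx _ hlt
        rw [(φ a).injective this] at hlt
        exact hlt)
      rw [(hmove i).2 (not_lt.1 hi4), (hmove _).2 (not_lt.1 h7)]
  have hle : X ≤ centralizer ({z} : Set Q) := le_of_four hz hwo hcw hne hXo hzX
    (hCX w (hL ▸ mem_top w) hcw)
    (fun a ha h => mem_centralizer_singleton_iff.2 h.eq.symm)
    (fun a ha h => mem_centralizer_singleton_iff.2 (hfix a ha (Or.inr (Or.inl h))).eq.symm)
    (fun a ha h => mem_centralizer_singleton_iff.2 (hfix a ha (Or.inr (Or.inr h))).eq.symm)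
  exact hi.eq_one (mem_centralizer_singleton_iff.1 (hle hd)).symm (odd_orderOf_of_mem hXo hd)

end CfsgLib.GW.OS
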