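import Cfsg.Agent.GW.OSType.Action
import Mathlib.Algebra.BigOperators.Group.Finset.Basic

/-!
# Gorenstein–Walter, odd-by-two type: a Frobenius group on a module

`Y` abelian of odd order inverted by `b`, `x` commuting with `b` and fixed-point-free on `Y`:
if `x` centralizes the fixed points of `b` on a coprime `p`-group, then `Y` centralizes it.
-/

set_option autoImplicit false
set_option linter.style.haveILetI false
set_option linter.unusedSectionVars false

open Subgroup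
open scoped commutatorElement

namespace CfsgLib.GW.OS

theorem eq_one_of_frobenius_action {A Y : Type*} [CommGroup A] [Finite A] [CommGroup Y] [Fintype Y]
    (ρ : Y →* MulAut A) (β ξ : MulAut A) (χ : Y →* Y)
    (hβ : ∀ y a, β (ρ y a) = ρ y⁻¹ (β a)) (hβ2 : ∀ a, β (β a) = a)
    (hξ : ∀ y a, ξ (ρ y a) = ρ (χ y) (ξ a)) (hfix : ∀ a, β a = a → ξ a = a)
    (hfree : ∀ a, (∀ y, ρ y a = a) → a = 1)
    (h1 : Function.Injective fun y : Y => y * χ y) (h2 : Function.Injective fun y : Y => y * (χ y)⁻¹)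
    (hY : Odd (Nat.card Y)) (hA : Odd (Nat.card A)) (hco : (Nat.card Y).Coprime (Nat.card A))
    (a : A) : a = 1 := by
  classical
  -- the product over `Y` is trivial
  have hprod : ∀ c : A, ∏ y : Y, ρ y c = 1 := by
    intro c
    refine hfree _ fun w => ?_
    rw [map_prod]
    exact Fintype.prod_equiv (Equiv.mulLeft w) _ _ fun y => by simp
  have hre : ∀ (f : Y → Y), Function.Injective f → ∀ c : A, ∏ y : Y, ρ (f y) c = 1 := by
    intro f hf c
    rw [← hprod c]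
    exact Fintype.prod_equiv (Equiv.ofBijective f (Finite.injective_iff_bijective.1 hf)) _ _
      fun y => rfl
  have h3 : Function.Injective fun y : Y => y * y := by
    intro y w h
    simp only at h
    have h' : (y * w⁻¹) ^ 2 = 1 := by
      rw [pow_two, mul_mul_mul_comm, h, ← mul_inv, mul_inv_cancel]
    obtain ⟨k, hk⟩ := hY
    have := pow_card_eq_one' (x := y * w⁻¹)
    rw [hk, pow_succ, pow_mul, h', one_pow, one_mul] at this
    exact mul_inv_eq_one.1 this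
  have hfixed : ∀ c : A, β c = c → c = 1 := by
    intro c hc
    let P : Y → A → A := fun y d => ρ y d * ρ y⁻¹ d
    have hP : ∀ y, P (χ y) c = P y c := by
      intro y
      have hPf : β (P y c) = P y c := by
        simp only [P, map_mul, hβ, hc, inv_inv]
        exact mul_comm _ _
      have := hfix _ hPf
      simp only [P, map_mul, hξ, hfix c hc] at this
      simpa [P, map_inv] using this
    have key : ∀ y, ρ (y * χ y) c * ρ (y * (χ y)⁻¹) c * (ρ (y * (χ y)⁻¹)⁻¹ c * ρ (y * χ y)⁻¹ c) =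
        ρ (y * y) c * c * (c * ρ (y * y)⁻¹ c) := by
      intro y
      have h := congrArg (P y) (hP y)
      simp only [P, map_mul] at h
      simp only [← MulAut.mul_apply, ← map_mul, mul_inv_cancel, inv_mul_cancel, map_one,
        MulAut.one_apply] at h
      rw [mul_inv_rev, mul_inv_rev, mul_inv_rev, inv_inv, mul_comm (χ y) y⁻¹, mul_comm (χ y)⁻¹ y⁻¹]
      exact h
    have hall := Finset.prod_congr (s₁ := (Finset.univ : Finset Y)) rfl fun y _ => key y
    have hi : ∀ f : Y → Y, Function.Injective f → Function.Injective fun y => (f y)⁻¹ :=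
      fun f hf => inv_injective.comp hf
    simp only [Finset.prod_mul_distrib] at hall
    rw [hre _ h1, hre _ h2, hre _ (hi _ h1), hre _ (hi _ h2), hre _ h3, hre _ (hi _ h3)] at hall
    simp only [one_mul, mul_one, Finset.prod_const, Finset.card_univ] at hall
    rw [← pow_add, ← two_mul] at hall
    have hn : (2 * Fintype.card Y).Coprime (Nat.card A) :=
      Nat.Coprime.mul_left (Nat.coprime_two_left.2 hA) (Nat.card_eq_fintype_card (α := Y) ▸ hco)
    exact pow_gcd_eq_one.2 ⟨hall.symm, pow_card_eq_one' (x := c)⟩ |> fun h => by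
      rwa [Nat.Coprime.gcd_eq_one hn, pow_one] at h
  -- `β` inverts, so `Y` acts trivially
  have hneg : ∀ c : A, β c = c⁻¹ := by
    intro c
    have := hfixed (c * β c) (by rw [map_mul, hβ2, mul_comm])
    exact eq_inv_of_mul_eq_one_right this
  refine hfree a fun y => ?_
  obtain ⟨w, hw⟩ := (Finite.injective_iff_surjective.1 h3) y
  have hw' : w * w = y := hw
  have h := hβ w a
  rw [hneg, hneg, map_inv, inv_inj] at h
  rw [← hw', map_mul, MulAut.mul_apply]
  conv_lhs => rw [h]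
  rw [← MulAut.mul_apply, ← map_mul, mul_inv_cancel, map_one, MulAut.one_apply]

variable {G : Type*} [Group G] [Finite G]

theorem normalizer_le_normalizer_centralizer' (Y : Subgroup G) :
    normalizer (Y : Set G) ≤ normalizer (centralizer (Y : Set G) : Set G) := by
  refine le_normalizer_iff.2 fun x hx c hc => mem_centralizer_iff.2 fun y hy => ?_
  have hy' : x⁻¹ * y * x⁻¹⁻¹ ∈ Y := (mem_normalizer_iff.1 (inv_mem hx) y).1 hy
  have h := mem_centralizer_iff.1 hc _ hy'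
  calc y * (x * c * x⁻¹) = x * ((x⁻¹ * y * x⁻¹⁻¹) * c) * x⁻¹ := by group
    _ = x * (c * (x⁻¹ * y * x⁻¹⁻¹)) * x⁻¹ := by rw [h]
    _ = x * c * x⁻¹ * y := by group

/-- The conjugation action on an abelian normalized subgroup. -/
theorem normalizerMonoidHom_apply' {A : Subgroup G} (g : normalizer (A : Set G)) (a : A) :
    ((A.normalizerMonoidHom g a : A) : G) = (g : G) * a * (g : G)⁻¹ := rfl

theorem commute_of_frobenius {p : ℕ} [Fact p.Prime] {P Y : Subgroup G} {b x : G}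
    (hP : IsPGroup p P) (hp : p ≠ 2) (hYo : Odd (Nat.card Y)) (hco : (Nat.card Y).Coprime p)
    (hYP : Y ≤ normalizer (P : Set G)) (hbP : b ∈ normalizer (P : Set G))
    (hxP : x ∈ normalizer (P : Set G)) (hxY : x ∈ normalizer (Y : Set G)) (hb : b * b = 1)
    (hinv : ∀ y ∈ Y, Inverts b y) (hbx : Commute b x) (hxo : Odd (orderOf x))
    (hxfree : ∀ y ∈ Y, Commute x y → y = 1) (hfix : ∀ a ∈ P, Commute b a → Commute x a) :
    ∀ y ∈ Y, ∀ a ∈ P, Commute y a := by
  by_contra hne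
  obtain ⟨k0, hk0⟩ := IsPGroup.iff_card.1 hP
  have hoP : Odd (Nat.card P) := hk0 ▸ ((Fact.out : p.Prime).odd_of_ne_two hp).pow
  have hcoY : ∀ y ∈ Y, (orderOf y).Coprime (Nat.card P) := fun y hy =>
    hk0 ▸ (hco.coprime_dvd_left (Subgroup.orderOf_dvd_natCard Y hy)).pow_right k0
  have hbi : b⁻¹ = b := inv_eq_of_mul_eq_one_right hb
  have hbY : b ∈ normalizer (Y : Set G) := by
    have : ∀ y ∈ Y, b * y * b⁻¹ ∈ Y := fun y hy => by rw [hinv y hy]; exact inv_mem hy
    refine mem_normalizer_iff.2 fun y => ⟨this y, fun hy => ?_⟩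
    have := this _ hy
    rwa [show b * (b * y * b⁻¹) * b⁻¹ = (b * b) * y * (b * b)⁻¹ by group, hb, inv_one, mul_one,
      one_mul] at this
  set K := P ⊓ centralizer (Y : Set G) with hK
  have hKn : ∀ g ∈ normalizer (P : Set G), g ∈ normalizer (Y : Set G) →
      g ∈ normalizer (K : Set G) := by
    intro g h1 h2
    have h3 := normalizer_le_normalizer_centralizer' Y h2
    exact mem_normalizer_iff.2 fun c => by
      rw [hK, mem_inf, mem_inf, mem_normalizer_iff.1 h1 c, mem_normalizer_iff.1 h3 c]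
  have hbK := hKn b hbP hbY
  have hxK := hKn x hxP hxY
  have hYK : Y ≤ normalizer (K : Set G) := fun y hy => hKn y (hYP hy) (le_normalizer hy)
  have hlt : K.subgroupOf P < ⊤ := by
    rw [lt_top_iff_ne_top, Ne, subgroupOf_eq_top]
    exact fun hle => hne fun y hy a ha => (mem_centralizer_iff.1 (hle ha).2 y hy)
  haveI := hP.isNilpotent
  obtain ⟨⟨n, hnP⟩, hnN, hnK⟩ := SetLike.exists_of_lt
    (Group.normalizerCondition_of_isNilpotent _ hlt)
  have hnK' : n ∈ normalizer (K : Set G) := by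
    refine mem_normalizer_iff.2 fun c => ?_
    have hP' : c ∈ P ↔ n * c * n⁻¹ ∈ P := mem_normalizer_iff.1 (le_normalizer hnP) c
    constructor
    · intro hc
      exact (mem_normalizer_iff.1 hnN ⟨c, hc.1⟩).1 hc
    · intro hc
      exact (mem_normalizer_iff.1 hnN ⟨c, hP'.2 hc.1⟩).2 hc
  set H := normalizer (K : Set G) with hH
  let π : H →* H ⧸ K.subgroupOf H := QuotientGroup.mk' _
  set N := (P.subgroupOf H).map π with hN
  have hNp : IsPGroup p N := (hP.comap_of_injective H.subtype H.subtype_injective).map π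
  set A := N ⊓ centralizer (N : Set (H ⧸ K.subgroupOf H)) with hA
  letI : CommGroup A :=
    { (inferInstance : Group A) with
      mul_comm := fun a c => Subtype.ext (mem_centralizer_iff.1 c.2.2 _ a.2.1) }
  have hAne : A ≠ ⊥ := by
    haveI : Nontrivial N := (nontrivial_iff_ne_bot N).2 fun hbot => by
      have : π ⟨n, hnK'⟩ = 1 := mem_bot.1 (hbot ▸ ⟨_, hnP, rfl⟩)
      exact hnK ((QuotientGroup.eq_one_iff _).1 this :)
    haveI := hNp.center_nontrivial
    obtain ⟨c, hc⟩ := exists_ne (1 : Subgroup.center N)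
    intro hbot
    have hm : ((c : N) : H ⧸ K.subgroupOf H) ∈ A := mem_inf.2 ⟨(c : N).2,
      mem_centralizer_iff.2 fun w hw =>
        congrArg Subtype.val (Subgroup.mem_center_iff.1 c.2 ⟨w, hw⟩)⟩
    rw [hbot, mem_bot] at hm
    exact hc (Subtype.ext (Subtype.ext hm))
  have hnorm : ∀ g (hg : g ∈ H), g ∈ normalizer (P : Set G) →
      π ⟨g, hg⟩ ∈ normalizer (A : Set (H ⧸ K.subgroupOf H)) := by
    intro g hg hgP
    have h1 : π ⟨g, hg⟩ ∈ normalizer (N : Set (H ⧸ K.subgroupOf H)) :=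
      le_normalizer_map π ⟨_, (mem_normalizer_iff.2 fun c => by
        simpa [mem_subgroupOf] using mem_normalizer_iff.1 hgP (c : G)), rfl⟩
    have h2 := normalizer_le_normalizer_centralizer' N h1
    exact mem_normalizer_iff.2 fun c => by
      rw [hA, mem_inf, mem_inf, mem_normalizer_iff.1 h1 c, mem_normalizer_iff.1 h2 c]
  letI : Fintype Y := Fintype.ofFinite Y
  letI : CommGroup Y :=
    { (inferInstance : Group Y) with
      mul_comm := fun a c => Subtype.ext (commute_of_inverts_all hinv a.2 c.2) }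
  let ι : Y →* normalizer (A : Set (H ⧸ K.subgroupOf H)) :=
    (π.comp (Subgroup.inclusion hYK)).codRestrict _ fun y => hnorm _ (hYK y.2) (hYP y.2)
  let ρ : Y →* MulAut A := A.normalizerMonoidHom.comp ι
  let β : MulAut A := A.normalizerMonoidHom ⟨π ⟨b, hbK⟩, hnorm b hbK hbP⟩
  let ξ : MulAut A := A.normalizerMonoidHom ⟨π ⟨x, hxK⟩, hnorm x hxK hxP⟩
  let χ : Y →* Y := (Y.normalizerMonoidHom ⟨x, hxY⟩).toMonoidHom
  have hρ : ∀ (y : Y) (a : A), ((ρ y a : A) : H ⧸ K.subgroupOf H) =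
      π ⟨y, hYK y.2⟩ * a * (π ⟨y, hYK y.2⟩)⁻¹ := fun y a => rfl
  have hβ' : ∀ a : A, ((β a : A) : H ⧸ K.subgroupOf H) = π ⟨b, hbK⟩ * a * (π ⟨b, hbK⟩)⁻¹ :=
    fun a => rfl
  have hξ' : ∀ a : A, ((ξ a : A) : H ⧸ K.subgroupOf H) = π ⟨x, hxK⟩ * a * (π ⟨x, hxK⟩)⁻¹ :=
    fun a => rfl
  have hcardA : Nat.card A ∣ Nat.card P :=
    (Subgroup.card_dvd_of_le inf_le_left).trans ((Subgroup.card_map_dvd _ _).trans
      (Subgroup.card_comap_dvd_of_injective P H.subtype H.subtype_injective))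
  -- a lift fixed by a subgroup of `Y`
  have hlift : ∀ c (hc : c ∈ H), c ∈ P → ∀ (y : G) (hy : y ∈ Y),
      Commute (π ⟨y, hYK hy⟩) (π ⟨c, hc⟩) → Commute y c := by
    intro c hc hcP y hy hcomm
    have hm : ⁅y, c⁆ ∈ K := by
      have : π (⁅(⟨y, hYK hy⟩ : H), ⟨c, hc⟩⁆) = 1 := by
        rw [map_commutatorElement]; exact commutatorElement_eq_one_iff_commute.2 hcomm
      have h' := (QuotientGroup.eq_one_iff _).1 this
      exact h'
    exact OddOrder.Stab.commute_of_stab_mem (mem_centralizer_iff.1 hm.2 y hy) hm.1 (hcoY y hy)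
  refine hAne (eq_bot_iff.2 fun a ha => mem_bot.2 ?_)
  have := eq_one_of_frobenius_action ρ β ξ χ ?_ ?_ ?_ ?_ ?_ ?_ ?_ hYo
    (hoP.of_dvd_nat hcardA) ?_ ⟨a, ha⟩
  · exact congrArg Subtype.val this
  · intro y c
    apply Subtype.ext
    rw [hβ', hρ, hρ, hβ']
    have e : π ⟨b, hbK⟩ * π ⟨y, hYK y.2⟩ = π ⟨((y⁻¹ : Y) : G), hYK (y⁻¹).2⟩ * π ⟨b, hbK⟩ := by
      rw [← map_mul, ← map_mul]
      refine congrArg π (Subtype.ext ?_)
      show b * (y : G) = (y : G)⁻¹ * b
      rw [← mul_inv_eq_iff_eq_mul]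
      exact hinv y y.2
    calc π ⟨b, hbK⟩ * (π ⟨y, hYK y.2⟩ * c * (π ⟨y, hYK y.2⟩)⁻¹) * (π ⟨b, hbK⟩)⁻¹
        = (π ⟨b, hbK⟩ * π ⟨y, hYK y.2⟩) * c * (π ⟨b, hbK⟩ * π ⟨y, hYK y.2⟩)⁻¹ := by group
      _ = _ := by rw [e]; group
  · intro c
    apply Subtype.ext
    rw [hβ', hβ']
    have e : π ⟨b, hbK⟩ * π ⟨b, hbK⟩ = 1 := by
      rw [← map_mul, show (⟨b, hbK⟩ : H) * ⟨b, hbK⟩ = 1 from Subtype.ext hb, map_one]
    rw [show π ⟨b, hbK⟩ * (π ⟨b, hbK⟩ * (c : H ⧸ K.subgroupOf H) * (π ⟨b, hbK⟩)⁻¹) * (π ⟨b, hbK⟩)⁻¹ =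
      (π ⟨b, hbK⟩ * π ⟨b, hbK⟩) * c * (π ⟨b, hbK⟩ * π ⟨b, hbK⟩)⁻¹ by group, e, inv_one, mul_one,
      one_mul]
  · intro y c
    apply Subtype.ext
    rw [hξ', hρ, hρ, hξ']
    have e : π ⟨x, hxK⟩ * π ⟨y, hYK y.2⟩ = π ⟨((χ y : Y) : G), hYK (χ y).2⟩ * π ⟨x, hxK⟩ := by
      rw [← map_mul, ← map_mul]
      refine congrArg π (Subtype.ext ?_)
      show x * (y : G) = x * y * x⁻¹ * x
      group
    calc π ⟨x, hxK⟩ * (π ⟨y, hYK y.2⟩ * c * (π ⟨y, hYK y.2⟩)⁻¹) * (π ⟨x, hxK⟩)⁻¹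
        = (π ⟨x, hxK⟩ * π ⟨y, hYK y.2⟩) * c * (π ⟨x, hxK⟩ * π ⟨y, hYK y.2⟩)⁻¹ := by group
      _ = _ := by rw [e]; group
  · intro c hc
    apply Subtype.ext
    rw [hξ']
    obtain ⟨⟨w, hwH⟩, hwP, hw⟩ := (c.2.1 : (c : H ⧸ K.subgroupOf H) ∈ (P.subgroupOf H).map π)
    have hc' := congrArg Subtype.val hc
    rw [hβ', ← hw] at hc'
    have hmem : w⁻¹ * b * w * b⁻¹ ∈ K := by
      have : π (⟨w, hwH⟩⁻¹ * ⟨b, hbK⟩ * ⟨w, hwH⟩ * ⟨b, hbK⟩⁻¹) = 1 := by
        simp only [map_mul, map_inv]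
        rw [mul_assoc, mul_assoc, ← mul_assoc (π ⟨b, hbK⟩), hc', inv_mul_cancel]
      have h' := (QuotientGroup.eq_one_iff _).1 this
      exact h'
    obtain ⟨r, hr, hbr⟩ := exists_fixed_mul hb (odd_orderOf_of_mem hoP hmem.1)
    have hrK : r ∈ K := zpowers_le.2 hmem hr
    have hrH : r ∈ H := le_normalizer hrK
    have hxw : Commute x (w * r) := hfix _ (mul_mem hwP hrK.1) hbr
    have e : π (⟨w, hwH⟩ * ⟨r, hrH⟩) = π ⟨w, hwH⟩ := by
      rw [map_mul, (QuotientGroup.eq_one_iff (⟨r, hrH⟩ : H)).2 hrK |> (fun h => (h : π ⟨r, hrH⟩ = 1)),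
        mul_one]
    have key : π ⟨x, hxK⟩ * π (⟨w, hwH⟩ * ⟨r, hrH⟩) * (π ⟨x, hxK⟩)⁻¹ =
        π (⟨w, hwH⟩ * ⟨r, hrH⟩) := by
      rw [mul_inv_eq_iff_eq_mul, ← map_mul, ← map_mul]
      exact congrArg π (Subtype.ext hxw.eq)
    rw [← hw, ← e]
    exact key
  · intro c hc
    obtain ⟨⟨w, hwH⟩, hwP, hw⟩ := (c.2.1 : (c : H ⧸ K.subgroupOf H) ∈ (P.subgroupOf H).map π)
    refine Subtype.ext ?_
    show (c : H ⧸ K.subgroupOf H) = 1
    rw [← hw]
    refine (QuotientGroup.eq_one_iff _).2 ?_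
    show w ∈ K
    refine ⟨hwP, mem_centralizer_iff.2 fun y hy => hlift w hwH hwP y hy ?_⟩
    have h := congrArg Subtype.val (hc ⟨y, hy⟩)
    rw [hρ, ← hw, mul_inv_eq_iff_eq_mul] at h
    exact h
  · intro y w h
    simp only at h
    refine mul_inv_eq_one.1 ?_
    have h' : (y * w⁻¹) * χ (y * w⁻¹) = 1 := by
      rw [map_mul, map_inv, mul_mul_mul_comm, ← mul_inv, h, mul_inv_cancel]
    have hiv : x * ((y * w⁻¹ : Y) : G) * x⁻¹ = ((y * w⁻¹ : Y) : G)⁻¹ :=
      congrArg Subtype.val (eq_inv_of_mul_eq_one_right h')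
    have hc2 : Commute (x * x) ((y * w⁻¹ : Y) : G) := Inverts.mul_commute hiv hiv
    exact Subtype.ext (hxfree _ (y * w⁻¹).2 (commute_of_sq_commute hxo hc2))
  · intro y w h
    simp only at h
    refine mul_inv_eq_one.1 ?_
    have h' : (y * w⁻¹) * (χ (y * w⁻¹))⁻¹ = 1 := by
      rw [map_mul, map_inv, mul_inv, mul_mul_mul_comm, ← mul_inv, h,
        mul_inv_cancel]
    have hiv : x * ((y * w⁻¹ : Y) : G) * x⁻¹ = ((y * w⁻¹ : Y) : G) :=
      congrArg Subtype.val (mul_inv_eq_one.1 h').symm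
    exact Subtype.ext (hxfree _ (y * w⁻¹).2 (mul_inv_eq_iff_eq_mul.1 hiv))
  · exact (hk0 ▸ hco.pow_right k0).coprime_dvd_right hcardA

end CfsgLib.GW.OS
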