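import Cfsg.Agent.GW.OSType.LinearMatrix
import Cfsg.Agent.GW.OSType.Frobenius

/-!
# Gorenstein–Walter, odd-by-two type: nilpotent subgroups normalized by an involution centralizer

In the matrix model, a nilpotent subgroup of odd order normalized by `C_L(z)` and `z` is centralized
by `z`.
-/

set_option autoImplicit false
set_option linter.style.haveILetI false
set_option linter.unusedSectionVars false

open Subgroup
open scoped MatrixGroups

namespace CfsgLib.GW.OS

namespace Model

variable {Q : Type*} [Group Q] [Finite Q] {L : Subgroup Q} [L.Normal] {F : Type} [Field F] [Fintype F]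
variable {m : Model L F}

local notation "GLT" => GL (Fin 2) F
local notation "M₂" => Matrix (Fin 2) (Fin 2) F

theorem eq_of_rep_smul {g h : Q} {M N : GLT} (hg : m.Rep g M) (hh : m.Rep h N) {c : F} (hc : c ≠ 0)
    (e : M.1 = c • N.1) : g = h := by
  apply m.act_injective
  have : M = Matrix.GeneralLinearGroup.scalar (Fin 2) (Units.mk0 c hc) * N :=
    Units.ext (by rw [smul_one_mul_units]; exact e)
  rw [hg, this]
  exact (rep_scalar_mul _ hh).symm

theorem commute_of_mat {g h : Q} {M N : GLT} (hg : m.Rep g M) (hh : m.Rep h N) {c : F} (hc : c ≠ 0)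
    (e : M.1 * N.1 = c • (N.1 * M.1)) : Commute g h :=
  eq_of_rep_smul (hg.mul hh) (hh.mul hg) hc (by simpa using e)

/-- A matrix of square determinant commuting with `A` up to a scalar gives an element of `C_L(z)`. -/
theorem exists_mem_of_mat {z : Q} {A : GLT} (hA : m.Rep z A) {T : M₂} (hsq : IsSquare T.det)
    (hdet : T.det ≠ 0) {c : F} (hc : c ≠ 0) (hTA : A.1 * T = c • (T * A.1)) :
    ∃ (g : Q) (T' : GLT), g ∈ L ∧ m.Rep g T' ∧ T'.1 = T ∧ Commute z g := by
  obtain ⟨d, hd⟩ := hsq
  have hd0 : d ≠ 0 := fun e => hdet (by rw [hd, e, mul_zero])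
  let T' : GLT := Matrix.GeneralLinearGroup.mkOfDetNeZero T hdet
  let s : Matrix.SpecialLinearGroup (Fin 2) F :=
    ⟨d⁻¹ • T, by rw [Matrix.det_smul, hd, Fintype.card_fin]; field_simp⟩
  have hs : T' = Matrix.GeneralLinearGroup.scalar (Fin 2) (Units.mk0 d hd0) *
      Matrix.SpecialLinearGroup.toGL s := by
    apply Units.ext
    rw [smul_one_mul_units]
    show T = d • (d⁻¹ • T)
    rw [smul_smul, mul_inv_cancel₀ hd0, one_smul]
  have hrep : m.Rep ((m.e.symm (QuotientGroup.mk s) : L) : Q) T' :=
    hs ▸ rep_scalar_mul _ (rep_coe (m := m) s)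
  exact ⟨_, T', SetLike.coe_mem _, hrep, rfl, commute_of_mat hA hrep hc hTA⟩

/-- A parameter `t` making `(1 + tA)²` a nondegenerate element of the torus of `A`. -/
theorem exists_param (hF : 5 < Fintype.card F) (α : F) :
    ∃ t : F, t ≠ 0 ∧ 1 + α * (t * t) ≠ 0 ∧ 1 - α * (t * t) ≠ 0 := by
  classical
  open Polynomial in
  let P : F[X] := X * ((Polynomial.C α * (X * X)) ^ 2 - 1)
  have hP0 : P ≠ 0 := by
    refine mul_ne_zero Polynomial.X_ne_zero fun h => ?_
    have := congrArg (Polynomial.eval 0) h
    simp at this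
  have hdeg : P.natDegree ≤ 5 := by
    refine Polynomial.natDegree_mul_le.trans ?_
    have h1 : (Polynomial.C α * (Polynomial.X * Polynomial.X)).natDegree ≤ 2 :=
      (Polynomial.natDegree_C_mul_le _ _).trans
        (Polynomial.natDegree_mul_le.trans (by rw [Polynomial.natDegree_X]))
    have h2 : ((Polynomial.C α * (Polynomial.X * Polynomial.X)) ^ 2 - 1).natDegree ≤ 4 := by
      refine (Polynomial.natDegree_sub_le _ _).trans (max_le ?_ (by simp))
      exact Polynomial.natDegree_pow_le.trans (by omega)
    rw [Polynomial.natDegree_X]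
    omega
  obtain ⟨t, ht⟩ : ∃ t : F, P.eval t ≠ 0 := by
    by_contra h
    push Not at h
    have hle := Polynomial.card_le_degree_of_subset_roots (p := P) (Z := Finset.univ)
      (fun x _ => (Polynomial.mem_roots hP0).2 (h x))
    rw [Finset.card_univ] at hle
    omega
  simp only [P, Polynomial.eval_mul, Polynomial.eval_X, Polynomial.eval_sub, Polynomial.eval_pow,
    Polynomial.eval_C, Polynomial.eval_one] at ht
  refine ⟨t, fun e => ht (by rw [e, zero_mul]), fun e => ht ?_, fun e => ht ?_⟩
  · have : α * (t * t) = -1 := by linear_combination e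
    rw [this]; ring
  · have : α * (t * t) = 1 := by linear_combination -e
    rw [this]; ring

/-- Some element of `L` centralizing `z` moves the torus of a nonscalar `W₀` anticommuting with `A`. -/
theorem exists_moving {z : Q} {A : GLT} {α : F} (hA : m.Rep z A) (hA2 : A.1 * A.1 = α • 1)
    (hα : α ≠ 0) (hnA : NonSc A.1) {W : M₂} (hnW : NonSc W) {ω : F} (hW2 : W * W = ω • 1)
    (hanti : A.1 * W = -(W * A.1))
    (hfive : Fintype.card F = 5 → ω ≠ 0 → ω ^ 2 ≠ 1) :
    ∃ (g : Q) (T : GLT), g ∈ L ∧ m.Rep g T ∧ Commute z g ∧ ∀ c : F, T.1 * W ≠ c • (W * T.1) := by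
  have h2 := m.two_ne_zero
  have hneg : W * A.1 = -(A.1 * W) := by rw [hanti, neg_neg]
  have hWne : W ≠ 0 := fun e => hnW 0 (by rw [e, zero_smul])
  by_cases hω : ω = 0
  · subst hω
    rw [zero_smul] at hW2
    -- `W` is nilpotent and `A W = k W`
    have hc1 : W * (A.1 * W) = (A.1 * W) * W := by
      rw [← mul_assoc, hneg, neg_mul, mul_assoc, hW2, mul_zero, neg_zero]
    obtain ⟨a, k, hk⟩ := hnW.exists_coord hc1
    have htW : W.trace = 0 := hnW.trace_zero (a := 0) (by rw [zero_smul]; exact hW2)
    have ha : a = 0 := by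
      have h1 : (A.1 * W).trace = 0 := by
        have := congrArg Matrix.trace hanti
        rw [Matrix.trace_neg, Matrix.trace_mul_comm W] at this
        exact (mul_eq_zero.1 (show (2 : F) * (A.1 * W).trace = 0 by linear_combination this)).resolve_left h2
      rw [hk, Matrix.trace_add, Matrix.trace_smul, Matrix.trace_smul, htW, smul_zero, add_zero,
        Matrix.trace_one, Fintype.card_fin, smul_eq_mul] at h1
      exact (mul_eq_zero.1 h1).resolve_right (by exact_mod_cast h2)
    rw [ha, zero_smul, zero_add] at hk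
    have hk2 : (k * k) • W = α • W :=
      calc (k * k) • W = k • (A.1 * W) := by rw [hk, smul_smul]
        _ = A.1 * (k • W) := (mul_smul_comm k A.1 W).symm
        _ = A.1 * (A.1 * W) := by rw [hk]
        _ = α • W := by rw [← mul_assoc, hA2, smul_mul_assoc, one_mul]
    have hkα : k * k = α := smul_left_injective F hWne hk2
    obtain ⟨i, j, hij⟩ : ∃ i j, W i j ≠ 0 := by
      by_contra h
      push Not at h
      exact hWne (Matrix.ext h)
    let M : M₂ := Matrix.single j i 1
    set W1 : M₂ := (k • 1 - A.1) * M * (k • 1 + A.1) with hW1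
    have hAl : A.1 * W1 = -(k • W1) := by
      have : A.1 * (k • 1 - A.1) = -(k • (k • 1 - A.1)) := by
        rw [mul_sub, mul_smul_comm, mul_one, hA2, ← hkα]
        module
      rw [hW1, ← mul_assoc, ← mul_assoc, this]
      simp only [neg_mul, smul_mul_assoc]
    have hAr : W1 * A.1 = k • W1 := by
      have : (k • 1 + A.1) * A.1 = k • (k • 1 + A.1) := by
        rw [add_mul, smul_mul_assoc, one_mul, hA2, ← hkα]
        module
      rw [hW1, mul_assoc, this, mul_smul_comm]
    have hW11 : W1 * W1 = 0 := by
      have : (k • 1 + A.1) * (k • 1 - A.1) = 0 := by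
        simp only [add_mul, mul_sub, smul_mul_assoc, mul_smul_comm, one_mul, mul_one, hA2, ← hkα]
        module
      rw [hW1]
      calc (k • 1 - A.1) * M * (k • 1 + A.1) * ((k • 1 - A.1) * M * (k • 1 + A.1))
          = (k • 1 - A.1) * M * ((k • 1 + A.1) * (k • 1 - A.1)) * M * (k • 1 + A.1) := by
            simp only [mul_assoc]
        _ = 0 := by simp [this]
    set τ := (W * W1).trace with hτ
    have hτ0 : τ ≠ 0 := by
      have e1 : (k • 1 + A.1) * (W * (k • 1 - A.1)) = (4 * (k * k)) • W := by
        have : W * (k • 1 - A.1) = (2 * k) • W := by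
          rw [mul_sub, mul_smul_comm, mul_one, hneg, hk]
          module
        rw [this, mul_smul_comm, add_mul, smul_mul_assoc, one_mul, hk]
        module
      have : τ = (4 * (k * k)) * W i j := by
        rw [hτ, hW1, ← mul_assoc W, Matrix.trace_mul_comm, ← mul_assoc W, ← mul_assoc, e1,
          smul_mul_assoc, Matrix.trace_smul, smul_eq_mul, Matrix.trace_mul_single]
        simp
      rw [this, hkα, show (4 : F) = 2 * 2 by norm_num]
      exact mul_ne_zero (mul_ne_zero (mul_ne_zero h2 h2) hα) hij
    let B : M₂ := W + (-τ⁻¹) • W1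
    have htW1 : W1.trace = 0 := by
      have h1 := congrArg Matrix.trace hAl
      have h2' := congrArg Matrix.trace hAr
      rw [Matrix.trace_neg, Matrix.trace_smul, smul_eq_mul] at h1
      rw [Matrix.trace_smul, smul_eq_mul, Matrix.trace_mul_comm, h1] at h2'
      have hk0 : k ≠ 0 := fun e => hα (by rw [← hkα, e, zero_mul])
      exact (mul_eq_zero.1 (show (2 * k) * W1.trace = 0 by linear_combination -h2')).resolve_left
        (mul_ne_zero h2 hk0)
    have hBdet : B.det = 1 := by
      have htB : B.trace = 0 := by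
        simp [B, Matrix.trace_add, Matrix.trace_smul, htW, htW1]
      have h1 := congrArg Matrix.trace (sq_of_trace_zero htB)
      have h2' : B * B = (-τ⁻¹) • (W * W1 + W1 * W) := by
        simp only [B, add_mul, mul_add, smul_mul_assoc, mul_smul_comm, hW2, hW11]
        module
      rw [h2', Matrix.trace_smul, Matrix.trace_add, Matrix.trace_mul_comm W1 W, ← hτ,
        Matrix.trace_smul, Matrix.trace_one, Fintype.card_fin, smul_eq_mul, smul_eq_mul] at h1
      push_cast at h1
      field_simp at h1
      exact mul_left_cancel₀ h2 (by linear_combination h1)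
    have hBA : A.1 * B = (-1 : F) • (B * A.1) := by
      simp only [B, mul_add, add_mul, mul_smul_comm, smul_mul_assoc, hAl, hAr, hneg, hk]
      module
    obtain ⟨g, T, hg, hT, hTB, hzg⟩ := exists_mem_of_mat hA (hBdet ▸ IsSquare.one)
      (by rw [hBdet]; exact one_ne_zero) (neg_ne_zero.2 one_ne_zero) hBA
    refine ⟨g, T, hg, hT, hzg, fun c hc => ?_⟩
    rw [hTB] at hc
    simp only [B, mul_add, add_mul, mul_smul_comm, smul_mul_assoc, hW2, zero_add] at hc
    -- `W₁ W = c W W₁`, and traces give `c = 1`
    have hc' : W1 * W = c • (W * W1) := by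
      have := congrArg ((-τ) • ·) hc
      simpa [smul_smul, mul_comm c, mul_left_comm, hτ0] using this
    have hc1' : c = 1 := by
      have := congrArg Matrix.trace hc'
      rw [Matrix.trace_smul, Matrix.trace_mul_comm, smul_eq_mul, ← hτ] at this
      exact mul_right_cancel₀ hτ0 (by rw [one_mul]; exact this.symm)
    rw [hc1', one_smul] at hc'
    have h3 : W * W1 * W = 0 := by rw [mul_assoc, hc', ← mul_assoc, hW2, zero_mul]
    have h4 : W * W1 + W1 * W = τ • (1 : M₂) := by
      have htB : B.trace = 0 := by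
        simp [B, Matrix.trace_add, Matrix.trace_smul, htW, htW1]
      have h5 := sq_of_trace_zero htB
      rw [hBdet] at h5
      simp only [B, add_mul, mul_add, smul_mul_assoc, mul_smul_comm, hW2, hW11, zero_add,
        smul_zero, add_zero, ← smul_add] at h5
      have := congrArg ((-τ) • ·) h5
      simp only [smul_smul] at this
      rw [neg_mul_neg, mul_inv_cancel₀ hτ0, one_smul, neg_mul_neg, mul_one, add_comm] at this
      exact this
    have h6 := congrArg (· * W) h4
    simp only [add_mul, h3, smul_mul_assoc, one_mul, mul_assoc, hW2, mul_zero, zero_add] at h6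
    exact hWne ((smul_eq_zero.1 h6.symm).resolve_left hτ0)
  · -- `W` is semisimple
    have hAW : NonSc (A.1) := hnA
    have hbad : ∀ {T : M₂} {p r : F}, p ≠ 0 → r ≠ 0 →
        ((T = p • 1 + r • A.1) ∨ (T = p • W + r • (A.1 * W))) → ∀ c : F, T * W ≠ c • (W * T) := by
      intro T p r hp hr hT c hc
      have hWAW : W * (A.1 * W) = -(ω • A.1) := by
        rw [← mul_assoc, hneg, neg_mul, mul_assoc, hW2, mul_smul_comm, mul_one]
      have key : (p * (1 - c) * ω) • (1 : M₂) + (r * (1 + c) * ω) • A.1 = 0 := by
        rcases hT with rfl | rfl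
        · have h' := congrArg (· * W) hc
          simp only [add_mul, mul_add, smul_mul_assoc, mul_smul_comm, one_mul, mul_one, mul_assoc,
            hneg, mul_neg, neg_mul, hW2, hWAW] at h'
          rw [← sub_eq_zero] at h'
          rw [← h']
          module
        · simp only [add_mul, mul_add, smul_mul_assoc, mul_smul_comm, mul_assoc, hWAW, hW2,
            mul_one] at hc
          rw [← sub_eq_zero] at hc
          rw [← hc]
          module
      obtain ⟨e1, e2⟩ := hAW.coord_eq_zero key
      have e1' := (mul_eq_zero.1 ((mul_eq_zero.1 e1).resolve_right hω)).resolve_left hp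
      have e2' := (mul_eq_zero.1 ((mul_eq_zero.1 e2).resolve_right hω)).resolve_left hr
      exact h2 (by linear_combination e1' + e2')
    rcases lt_or_ge 5 (Fintype.card F) with hF | hF
    · -- a square of the torus of `A`
      obtain ⟨t, ht, ht1, ht2⟩ := exists_param hF α
      let U : M₂ := (1 : F) • 1 + t • A.1
      have hUdet : U.det = 1 - α * (t * t) := by
        have hd := hnA.det_eq hA2
        have htr := hnA.trace_zero hA2
        simp only [U]
        rw [Matrix.det_fin_two] at hd ⊢
        rw [Matrix.trace_fin_two] at htr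
        simp
        linear_combination (t * t) * hd + t * htr
      have hUA : A.1 * (U * U) = (1 : F) • (U * U * A.1) := by
        rw [one_smul]
        exact ((((Commute.one_right A.1).smul_right (1 : F)).add_right
          ((Commute.refl A.1).smul_right t)).mul_right (((Commute.one_right A.1).smul_right (1 : F)).add_right
          ((Commute.refl A.1).smul_right t))).eq
      obtain ⟨g, T, hg, hT, hTU, hzg⟩ := exists_mem_of_mat hA
        (show IsSquare (U * U).det from ⟨U.det, Matrix.det_mul U U⟩)
        (by rw [Matrix.det_mul, hUdet]; exact mul_ne_zero ht2 ht2) one_ne_zero hUA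
      refine ⟨g, T, hg, hT, hzg, hTU ▸ hbad ht1 (mul_ne_zero h2 ht) (Or.inl ?_)⟩
      simp only [U, add_mul, mul_add, smul_mul_assoc, mul_smul_comm, one_mul, mul_one, hA2]
      module
    · -- five elements
      have hq : Fintype.card F = 5 := by
        have h1 := m.large
        have h3 := m.odd
        rcases h3 with ⟨k, hk⟩
        omega
      have h5 : (5 : F) = 0 := by
        have := Nat.cast_card_eq_zero F
        rw [hq] at this
        exact_mod_cast this
      have hsqF : ∀ x : F, x ≠ 0 → x ^ 4 = 1 := fun x hx => by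
        have := FiniteField.pow_card_sub_one_eq_one x hx
        rwa [hq] at this
      have hω2 : ω ^ 2 = -1 := by
        have h4 := hsqF ω hω
        have : (ω ^ 2 - 1) * (ω ^ 2 + 1) = 0 := by linear_combination h4
        rcases mul_eq_zero.1 this with e | e
        · exact absurd (sub_eq_zero.1 e) (hfive hq hω)
        · linear_combination e
      by_cases hα2 : α ^ 2 = 1
      · -- `p W + r A W` with `α r² = -1`
        obtain ⟨r, hr⟩ : ∃ r : F, α * (r * r) = -1 := by
          have hch : ringChar F ≠ 2 := fun e => h2 (by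
            haveI := ringChar.of_eq e
            exact_mod_cast CharP.cast_eq_zero F 2)
          obtain ⟨r, hr⟩ : IsSquare (-α) := (FiniteField.isSquare_iff hch (neg_ne_zero.2 hα)).2 (by
            rw [hq]; show (-α) ^ 2 = 1; linear_combination hα2)
          exact ⟨r * α⁻¹, by field_simp; linear_combination -hr⟩
        have hr0 : r ≠ 0 := fun e => one_ne_zero (show (1 : F) = 0 by
          rw [e, mul_zero, mul_zero] at hr; linear_combination hr)
        let T : M₂ := (1 : F) • W + r • (A.1 * W)
        have hTT : T * T = (ω * (1 - α * (r * r))) • 1 := by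
          have e1 : A.1 * W * W = ω • A.1 := by rw [mul_assoc, hW2, mul_smul_comm, mul_one]
          have e2 : W * (A.1 * W) = -(ω • A.1) := by rw [← mul_assoc, hneg, neg_mul, e1]
          have e3 : A.1 * W * (A.1 * W) = -((α * ω) • 1) := by
            rw [mul_assoc, e2, mul_neg, mul_smul_comm, hA2, smul_smul, mul_comm]
          simp only [T, add_mul, mul_add, smul_mul_assoc, mul_smul_comm, hW2, e1, e2, e3]
          module
        have htT : T.trace = 0 := by
          have h1 : (A.1 * W).trace = 0 := by
            have := congrArg Matrix.trace hanti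
            rw [Matrix.trace_neg, Matrix.trace_mul_comm W] at this
            exact (mul_eq_zero.1 (show (2 : F) * (A.1 * W).trace = 0 by linear_combination this)).resolve_left h2
          simp [T, Matrix.trace_add, Matrix.trace_smul, h1, hnW.trace_zero hW2]
        have hTdet : T.det = -(2 * ω) := by
          have h1 := sq_of_trace_zero htT
          rw [hTT, hr] at h1
          have := congrFun (congrFun h1 0) 0
          simp at this
          linear_combination this
        have hTA : A.1 * T = (-1 : F) • (T * A.1) := by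
          simp only [T, mul_add, add_mul, mul_smul_comm, smul_mul_assoc, mul_assoc, hneg, mul_neg]
          module
        have hsq : IsSquare T.det := by
          have hch : ringChar F ≠ 2 := fun e => h2 (by
            haveI := ringChar.of_eq e
            exact_mod_cast CharP.cast_eq_zero F 2)
          rw [hTdet]
          refine (FiniteField.isSquare_iff hch (neg_ne_zero.2 (mul_ne_zero h2 hω))).2 ?_
          rw [hq]
          show (-(2 * ω)) ^ 2 = 1
          linear_combination (4 : F) * hω2 - h5
        obtain ⟨g, T', hg, hT', hTT', hzg⟩ := exists_mem_of_mat hA hsq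
          (by rw [hTdet]; exact neg_ne_zero.2 (mul_ne_zero h2 hω)) (neg_ne_zero.2 one_ne_zero) hTA
        exact ⟨g, T', hg, hT', hzg, hTT' ▸ hbad one_ne_zero hr0 (Or.inr rfl)⟩
      · let U : M₂ := (1 : F) • 1 + (1 : F) • A.1
        have hα1 : 1 + α ≠ 0 := fun e => hα2 (by linear_combination (α - 1) * e)
        have hα1' : 1 - α ≠ 0 := fun e => hα2 (by linear_combination (-α - 1) * e)
        have hUdet : U.det = 1 - α := by
          have hd := hnA.det_eq hA2
          have htr := hnA.trace_zero hA2
          simp only [U]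
          rw [Matrix.det_fin_two] at hd ⊢
          rw [Matrix.trace_fin_two] at htr
          simp
          linear_combination hd + htr
        have hUA : A.1 * (U * U) = (1 : F) • (U * U * A.1) := by
          rw [one_smul]
          exact ((((Commute.one_right A.1).smul_right (1 : F)).add_right
            ((Commute.refl A.1).smul_right (1 : F))).mul_right (((Commute.one_right A.1).smul_right (1 : F)).add_right
            ((Commute.refl A.1).smul_right (1 : F)))).eq
        obtain ⟨g, T, hg, hT, hTU, hzg⟩ := exists_mem_of_mat hA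
          (show IsSquare (U * U).det from ⟨U.det, Matrix.det_mul U U⟩)
          (by rw [Matrix.det_mul, hUdet]; exact mul_ne_zero hα1' hα1') one_ne_zero hUA
        refine ⟨g, T, hg, hT, hzg, hTU ▸ hbad hα1 h2 (Or.inl ?_)⟩
        simp only [U, add_mul, mul_add, smul_mul_assoc, mul_smul_comm, one_mul, mul_one, hA2]
        module

/-- A nilpotent subgroup of odd order normalized by `z` and `C_L(z)` has no element inverted by `z`. -/
theorem eq_one_of_normalized (m : Model L F) {z : Q} (hz : orderOf z = 2) {X : Subgroup Q}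
    (hX : Group.IsNilpotent X) (hXo : Odd (Nat.card X)) (hzX : z ∈ normalizer (X : Set Q))
    (hCX : ∀ g ∈ L, Commute z g → g ∈ normalizer (X : Set Q)) {d : Q} (hd : d ∈ X)
    (hi : Inverts z d) : d = 1 := by
  by_contra hd1
  obtain ⟨A, α, hA, hA2, hα, hnA⟩ := exists_rep_involution (m := m) hz
  have hz2 := Small.mul_self_of_orderOf_two hz
  have h2 := m.two_ne_zero
  haveI := diagPart_normal (m := m)
  set D := X ⊓ m.diagPart with hD
  have hdD : d ∈ D := ⟨hd, Inverts.mem_diagPart hi (odd_orderOf_of_mem hXo hd)⟩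
  have hnormD : ∀ g ∈ normalizer (X : Set Q), g ∈ normalizer (D : Set Q) := fun g hg => by
    have h' : g ∈ normalizer (m.diagPart : Set Q) := by rw [normalizer_eq_top]; exact mem_top g
    exact mem_normalizer_iff.2 fun c => by
      rw [hD, mem_inf, mem_inf, mem_normalizer_iff.1 hg c, mem_normalizer_iff.1 h' c]
  haveI : Group.IsNilpotent D := by
    haveI := hX
    exact Group.nilpotent_of_mulEquiv (subgroupOfEquivOfLe (inf_le_left : D ≤ X))
  haveI : Nontrivial D := (nontrivial_iff_ne_bot D).2 fun e => hd1 (mem_bot.1 (e ▸ hdD))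
  set Z := D ⊓ centralizer (D : Set Q) with hZ
  have hZne : ∃ w ∈ Z, w ≠ 1 := by
    by_contra hno
    push Not at hno
    refine Group.IsNilpotent.center_ne_bot (G := D) (eq_bot_iff.2 fun c hc => mem_bot.2 ?_)
    exact Subtype.ext (hno c (mem_inf.2 ⟨c.2, mem_centralizer_iff.2 fun y hy =>
      congrArg Subtype.val (Subgroup.mem_center_iff.1 hc ⟨y, hy⟩)⟩))
  have hZD : ∀ w ∈ Z, ∀ c ∈ D, Commute w c := fun w hw c hc =>
    (mem_centralizer_iff.1 hw.2 c hc).symm
  have hoD : ∀ c ∈ D, Odd (orderOf c) := fun c hc => odd_orderOf_of_mem hXo hc.1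
  have hzZ : ∀ w ∈ Z, z * w * z⁻¹ ∈ Z := fun w hw => by
    have h' := normalizer_le_normalizer_centralizer' D (hnormD z hzX)
    exact ⟨(mem_normalizer_iff.1 (hnormD z hzX) w).1 hw.1, (mem_normalizer_iff.1 h' w).1 hw.2⟩
  obtain ⟨D', hD'⟩ := mem_diagPart.1 hdD.2
  by_cases hall : ∀ w ∈ Z, Commute z w
  · -- the torus of `A`
    obtain ⟨w, hw, hw1⟩ := hZne
    obtain ⟨W, hW⟩ := mem_diagPart.1 hw.1.2
    obtain ⟨a, b, hab⟩ := coord_of_commute hA hnA hW (hall w hw) (hoD w hw.1)
    have hcd := rep_commute_odd hW hD' (hZD w hw d hdD) (hoD d hdD)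
    have hb : b ≠ 0 := fun e => hw1 (hW.eq_one_of_scalar (c := a) (by rw [hab, e, zero_smul, add_zero]))
    have hAD : A.1 * D'.1 = D'.1 * A.1 := by
      rw [hab, add_mul, mul_add, smul_mul_assoc, mul_smul_comm, one_mul, mul_one, add_right_inj,
        smul_mul_assoc, mul_smul_comm] at hcd
      exact smul_right_injective _ hb hcd
    exact hd1 (hi.eq_one (commute_of_mat hA hD' one_ne_zero (by rw [one_smul]; exact hAD)) (hoD d hdD))
  · push Not at hall
    obtain ⟨w₀, hw₀, hw₀z⟩ := hall
    set w := w₀ * z * w₀⁻¹ * z⁻¹ with hwdef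
    have hw : w ∈ Z := by
      rw [hwdef, show w₀ * z * w₀⁻¹ * z⁻¹ = w₀ * (z * w₀⁻¹ * z⁻¹) by group]
      exact mul_mem hw₀ (hzZ _ (inv_mem hw₀))
    have hw1 : w ≠ 1 := fun e => hw₀z (comm_eq_one_iff.1 e)
    have hwi : Inverts z w := inverts_comm hz2 w₀
    have hwo := hoD w hw.1
    obtain ⟨W, hW⟩ := mem_diagPart.1 hw.1.2
    have hnW := hW.nonSc hw1
    have htA := hnA.trace_zero hA2
    -- the traceless part
    set h₀ := W.1.trace / 2 with hh₀
    set W₀ : M₂ := W.1 - h₀ • 1 with hW₀
    have hWW : W.1 = h₀ • 1 + W₀ := by rw [hW₀]; abel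
    have htW₀ : W₀.trace = 0 := by
      rw [hW₀, Matrix.trace_sub, Matrix.trace_smul, Matrix.trace_one, hh₀, Fintype.card_fin, smul_eq_mul]
      push_cast
      field_simp
      ring
    have hnW₀ : NonSc W₀ := fun c hc => hnW (h₀ + c) (by rw [hWW, hc, add_smul])
    set ω := -W₀.det with hω
    have hW₀2 : W₀ * W₀ = ω • 1 := sq_of_trace_zero htW₀
    have hAW : ∃ v : F, v ≠ 0 ∧ A.1 * W.1 = v • ((h₀ • 1 - W₀) * A.1) := by
      obtain ⟨u, hu⟩ := Rep.unique
        ((show z * w = w⁻¹ * z by
          rw [← mul_inv_eq_iff_eq_mul]; exact hwi) ▸ hA.mul hW : m.Rep (w⁻¹ * z) (A * W))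
        (hW.inv.mul hA)
      have hdW : W.1.det ≠ 0 := fun e => W.det.ne_zero e
      have hinv : (W⁻¹ : GLT).1 = W.1.det⁻¹ • (h₀ • 1 - W₀) := by
        have hprod : W.1 * (W.1.det⁻¹ • (h₀ • 1 - W₀)) = 1 := by
          have hdet : W.1.det = h₀ * h₀ - ω := by
            have h1 := sq_eq_trace_smul W.1
            have h3 : W.1.trace = 2 * h₀ := by rw [hh₀]; field_simp
            have h4 : W.1 * W.1 = (h₀ * h₀ + ω) • 1 + (2 * h₀) • W₀ := by
              rw [hWW]
              simp only [add_mul, mul_add, smul_mul_assoc, mul_smul_comm, one_mul, mul_one, hW₀2]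
              module
            rw [h4, h3] at h1
            have h5 : (h₀ * h₀ + ω - (2 * h₀) * h₀ + W.1.det) • (1 : M₂) + (0 : F) • A.1 = 0 := by
              rw [← sub_eq_zero] at h1
              rw [← h1, hW₀]
              module
            linear_combination (hnA.coord_eq_zero h5).1
          have key : (h₀ • (1 : M₂) + W₀) * (h₀ • 1 - W₀) = (h₀ * h₀ - ω) • 1 := by
            simp only [add_mul, mul_sub, smul_mul_assoc, mul_smul_comm, one_mul, mul_one, hW₀2]
            module
          rw [← hWW, ← hdet] at key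
          rw [mul_smul_comm, key, smul_smul, inv_mul_cancel₀ hdW, one_smul]
        calc (W⁻¹ : GLT).1 = (W⁻¹ : GLT).1 * (W.1 * (W.1.det⁻¹ • (h₀ • 1 - W₀))) := by
              rw [hprod, mul_one]
          _ = _ := by rw [← mul_assoc, W.inv_mul, one_mul]
      refine ⟨u * W.1.det⁻¹, mul_ne_zero u.ne_zero (inv_ne_zero hdW), ?_⟩
      have := congrArg Units.val hu
      rw [Units.val_mul, smul_one_mul_units, Units.val_mul, hinv, smul_mul_assoc, smul_smul] at this
      exact this
    obtain ⟨v, hv, hAW⟩ := hAW
    rw [hWW, mul_add, mul_smul_comm, mul_one, sub_mul, smul_mul_assoc, one_mul] at hAW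
    have htAWA : (A.1 * W₀ * A.1).trace = 0 := by
      rw [Matrix.trace_mul_comm, ← mul_assoc, hA2, smul_mul_assoc, one_mul, Matrix.trace_smul,
        htW₀, smul_zero]
    have hhv : h₀ * (v - 1) = 0 := by
      have h1 := congrArg (fun M => (M * A.1).trace) hAW
      simp only [add_mul, smul_mul_assoc, sub_mul, hA2, mul_assoc W₀, mul_smul_comm, mul_one,
        Matrix.trace_add, Matrix.trace_sub, Matrix.trace_smul, htAWA, htW₀, Matrix.trace_one,
        Fintype.card_fin, smul_eq_mul, mul_zero, add_zero, sub_zero] at h1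
      push_cast at h1
      exact (mul_eq_zero.1 (show (2 * α) * (h₀ * (v - 1)) = 0 by linear_combination -h1)).resolve_left
        (mul_ne_zero h2 hα)
    have hAW' : A.1 * W₀ = (-v) • (W₀ * A.1) := by
      have e : A.1 * W₀ + (h₀ * (1 - v)) • A.1 = (-v) • (W₀ * A.1) := by
        rw [← sub_eq_zero] at hAW ⊢
        rw [← hAW]
        module
      rwa [show h₀ * (1 - v) = 0 by linear_combination -hhv, zero_smul, add_zero] at e
    have hv1 : v = 1 := by
      by_contra hv1
      have hh0 : h₀ = 0 := (mul_eq_zero.1 hhv).resolve_right (sub_ne_zero.2 hv1)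
      have hω0 : ω ≠ 0 := fun e => by
        have : W.1.det = 0 := by
          rw [hWW, hh0, zero_smul, zero_add]
          linear_combination hω - e
        exact W.det.ne_zero this
      have h3 := congrArg Matrix.det hAW'
      rw [Matrix.det_smul, Matrix.det_mul, Matrix.det_mul, Fintype.card_fin, neg_sq] at h3
      have h4 : v ^ 2 = 1 := mul_right_cancel₀
        (mul_ne_zero (show A.1.det ≠ 0 from fun e => A.det.ne_zero e) (show W₀.det ≠ 0 from fun e => hω0 (by rw [hω, e, neg_zero])))
        (by linear_combination -h3)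
      rcases sq_eq_one_iff.1 h4 with e | e
      · exact hv1 e
      · refine hw1 (hwi.eq_one (commute_of_mat hA hW one_ne_zero ?_) hwo)
        rw [one_smul, hWW, hh0, zero_smul, zero_add, hAW', e, neg_neg, one_smul]
    rw [hv1, neg_one_smul] at hAW'
    obtain ⟨g, T, hgL, hT, hzg, hmove⟩ := exists_moving hA hA2 hα hnA hnW₀ hW₀2 hAW' (by
      intro hq hω0 hω2
      apply hw1
      have hco : W.1 = h₀ • 1 + (1 : F) • W₀ := by rw [one_smul, ← hWW]
      have h4 := (pow_eq_one_of_coord hW hW₀2 hco).1 (by rw [hq]; exact hω2)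
      rw [hq] at h4
      obtain ⟨k, hk⟩ := hwo
      have h2' : orderOf w ∣ 4 := orderOf_dvd_of_pow_eq_one h4
      exact orderOf_eq_one_iff.1 (Nat.eq_one_of_dvd_coprimes
        ((Nat.coprime_two_left.2 ⟨k, hk⟩).pow_left 2 : (2 ^ 2).Coprime (orderOf w)) h2' dvd_rfl))
    -- the conjugate commutes with `w`
    have hgX := hCX g hgL hzg
    have hconj : g * w * g⁻¹ ∈ D := (mem_normalizer_iff.1 (hnormD g hgX) w).1 hw.1
    obtain ⟨C, hC⟩ := mem_diagPart.1 hconj.2
    have hcC := rep_commute_odd hW hC (hZD w hw _ hconj) (hoD _ hconj)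
    obtain ⟨u, hu⟩ := Rep.unique hC ((hT.mul hW).mul hT.inv)
    have hC' : C.1 * T.1 = (u : F) • (T.1 * W.1) := by
      have := congrArg (fun M : GLT => (M * T).1) hu
      rw [mul_assoc (Matrix.GeneralLinearGroup.scalar (Fin 2) u), inv_mul_cancel_right,
        smul_one_mul_units, Units.val_mul, Units.val_mul] at this
      exact this
    obtain ⟨a, b, hab⟩ := hnW₀.exists_coord (show W₀ * C.1 = C.1 * W₀ by
      have := hcC
      rw [hWW, add_mul, mul_add, smul_mul_assoc, one_mul, mul_smul_comm, mul_one, add_right_inj] at this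
      exact this)
    rw [hab, hWW] at hC'
    have hTW : T.1 * W₀ * T⁻¹.1 = ((u : F)⁻¹ * a - h₀) • 1 + ((u : F)⁻¹ * b) • W₀ := by
      have h5 : a • (1 : M₂) + b • W₀ = (u : F) • (h₀ • 1 + T.1 * W₀ * T⁻¹.1) := by
        have := congrArg (· * T⁻¹.1) hC'
        simpa [mul_add, add_mul, mul_assoc] using this
      rw [show T.1 * W₀ * T⁻¹.1 = (u : F)⁻¹ • ((u : F) • (h₀ • (1 : M₂) + T.1 * W₀ * T⁻¹.1)) - h₀ • 1 by
        rw [smul_smul, inv_mul_cancel₀ u.ne_zero, one_smul]; abel, ← h5]
      module
    have ha0 : (u : F)⁻¹ * a - h₀ = 0 := by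
      have h6 := congrArg Matrix.trace hTW
      rw [Matrix.trace_units_conj, Matrix.trace_add, Matrix.trace_smul, Matrix.trace_smul, htW₀,
        smul_zero, add_zero, Matrix.trace_one, Fintype.card_fin, smul_eq_mul] at h6
      exact (mul_eq_zero.1 h6.symm).resolve_right (by exact_mod_cast h2)
    rw [ha0, zero_smul, zero_add] at hTW
    refine hmove ((u : F)⁻¹ * b) ?_
    have := congrArg (· * T.1) hTW
    simp only [mul_assoc, T.inv_mul, mul_one, smul_mul_assoc] at this
    exact this

end Model

end CfsgLib.GW.OS
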