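import Cfsg.Agent.BGroups.CycQ
import Cfsg.Agent.GW.Known
import Cfsg.Agent.GW.OSType.AltSeven
import Cfsg.Agent.GW.OSType.LinearInner

/-!
# Gorenstein–Walter, odd-by-two type: facts on `PSL₂(q)` and `A₇` tops
-/

set_option autoImplicit false
set_option linter.style.haveILetI false
set_option linter.unusedSectionVars false

open Subgroup
open scoped MatrixGroups commutatorElement

namespace CfsgLib.GW.OS

variable {Q : Type*} [Group Q] [Finite Q] {L : Subgroup Q} [L.Normal]

/-- A nilpotent subgroup of odd order normalized by `z` and `C_L(z)` has no element inverted by `z`. -/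
theorem eq_one_of_normalized_top (hQ : DihType Q) (hC : centralizer (L : Set Q) = ⊥)
    (hL : IsPSLOrAltSeven L) {z : Q} (hz : orderOf z = 2) {X : Subgroup Q}
    (hX : Group.IsNilpotent X) (hXo : Odd (Nat.card X)) (hzX : z ∈ normalizer (X : Set Q))
    (hCX : ∀ g ∈ L, Commute z g → g ∈ normalizer (X : Set Q)) {d : Q} (hd : d ∈ X)
    (hi : Inverts z d) : d = 1 := by
  rcases hL with ⟨F, iF, fF, hodd, hlarge, ⟨e⟩⟩ | ⟨⟨e⟩⟩
  · exact Model.eq_one_of_normalized ⟨e, hC, hodd, hlarge, hQ⟩ hz hX hXo hzX hCX hd hi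
  · exact eq_one_of_normalized_alt hQ hC e hz hXo hzX hCX hd hi

/-- With an involution outside, the top is `PSL₂`. -/
theorem exists_model (hQ : DihType Q) (hC : centralizer (L : Set Q) = ⊥) (hL : IsPSLOrAltSeven L)
    {z : Q} (hz : z ∉ L) : ∃ (F : Type) (_ : Field F) (_ : Fintype F), Nonempty (Model L F) := by
  rcases hL with ⟨F, iF, fF, hodd, hlarge, ⟨e⟩⟩ | ⟨⟨e⟩⟩
  · exact ⟨F, iF, fF, ⟨⟨e, hC, hodd, hlarge, hQ⟩⟩⟩
  · exact absurd ((eq_top_of_alt hQ hC e) ▸ mem_top z) hz

/-- The tori of an outer and of an inner involution have coprime odd orders. -/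
theorem eq_one_of_tori (hQ : DihType Q) (hC : centralizer (L : Set Q) = ⊥) (hL : IsPSLOrAltSeven L)
    {z b : Q} (hz : orderOf z = 2) (hb : orderOf b = 2) (hzL : z ∉ L) (hbL : b ∈ L)
    {u : ℕ} (hu : u.Prime) (hu2 : u ≠ 2) {x y : Q} (hx : x ^ u = 1) (hy : y ^ u = 1)
    (hzx : Commute z x) (hbx : Inverts b x) (hby : Commute b y) (hzy : Inverts z y) :
    x = 1 ∨ y = 1 := by
  by_contra hne
  push Not at hne
  obtain ⟨F, iF, fF, ⟨m⟩⟩ := exists_model hQ hC hL hzL
  haveI := Fact.mk hu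
  have hxo : orderOf x = u := orderOf_eq_prime hx hne.1
  have hyo : orderOf y = u := orderOf_eq_prime hy hne.2
  have hodd : Odd u := hu.odd_of_ne_two hu2
  obtain ⟨A, α, hA, hA2, hα, hnA⟩ := Model.exists_rep_involution (m := m) hz
  obtain ⟨B, β, hB, hB2, hβ, hnB⟩ := Model.exists_rep_involution (m := m) hb
  obtain ⟨X, hX⟩ := Model.mem_diagPart.1 (Model.Inverts.mem_diagPart (m := m) hbx (hxo ▸ hodd))
  obtain ⟨Y, hY⟩ := Model.mem_diagPart.1 (Model.Inverts.mem_diagPart (m := m) hzy (hyo ▸ hodd))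
  obtain ⟨a, c, hac⟩ := Model.coord_of_commute hA hnA hX hzx (hxo ▸ hodd)
  obtain ⟨a', c', hac'⟩ := Model.coord_of_commute hB hnB hY hby (hyo ▸ hodd)
  have h2 := m.two_ne_zero
  have hch : ringChar F ≠ 2 := fun e => h2 (by
    haveI := ringChar.of_eq e
    exact_mod_cast CharP.cast_eq_zero F 2)
  set n := Fintype.card F / 2 with hn
  have hα' : (-α) ^ n = -1 := (FiniteField.pow_dichotomy hch (neg_ne_zero.2 hα)).resolve_left
    fun h => hzL ((Model.involution_mem_iff hA hA2 hnA).2 ((FiniteField.isSquare_iff hch (neg_ne_zero.2 hα)).2 h))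
  have hβ' : (-β) ^ n = 1 := (FiniteField.isSquare_iff hch (neg_ne_zero.2 hβ)).1
    ((Model.involution_mem_iff hB hB2 hnB).1 hbL)
  obtain ⟨hx1, hx2⟩ := Model.pow_eq_one_of_coord hX hA2 hac
  obtain ⟨hy1, hy2⟩ := Model.pow_eq_one_of_coord hY hB2 hac'
  rw [← hn] at hx1 hx2 hy1 hy2
  rw [neg_pow] at hα' hβ'
  have hd : u ∣ Fintype.card F - 1 ∧ u ∣ Fintype.card F + 1 := by
    rcases neg_one_pow_eq_or F n with e | e <;> rw [e] at hα' hβ'
    · rw [one_mul] at hα' hβ'
      exact ⟨hyo ▸ orderOf_dvd_of_pow_eq_one (hy1 hβ'), hxo ▸ orderOf_dvd_of_pow_eq_one (hx2 hα')⟩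
    · rw [neg_one_mul, neg_eq_iff_eq_neg] at hα' hβ'
      rw [neg_neg] at hα'
      exact ⟨hxo ▸ orderOf_dvd_of_pow_eq_one (hx1 hα'), hyo ▸ orderOf_dvd_of_pow_eq_one (hy2 hβ')⟩
  have hpos : 1 ≤ Fintype.card F := Fintype.card_pos
  have : u ∣ 2 := (Nat.dvd_add_right hd.1).1 (by
    rw [show Fintype.card F - 1 + 2 = Fintype.card F + 1 by omega]; exact hd.2)
  exact hu2 ((Nat.prime_dvd_prime_iff_eq hu Nat.prime_two).1 this)

/-- The simple top has a four-group through each of its involutions. -/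
theorem exists_other_involution (hQ : DihType Q) (hC : centralizer (L : Set Q) = ⊥)
    (hs : IsSimpleGroup L) {b : Q} (hb : orderOf b = 2) (hbL : b ∈ L) :
    ∃ r ∈ L, orderOf r = 2 ∧ r ≠ b ∧ Commute b r := by
  haveI := hs
  haveI : Fact (Nat.Prime 2) := ⟨Nat.prime_two⟩
  set bb : L := ⟨b, hbL⟩ with hbb
  have hbbo : orderOf bb = 2 := by rw [← Subgroup.orderOf_coe]; exact hb
  obtain ⟨T, hT⟩ := (IsPGroup.of_card (n := 1) (by rw [Nat.card_zpowers, hbbo, pow_one]) :
    IsPGroup 2 (zpowers bb)).exists_le_sylow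
  have hnc : ¬ IsCyclic (T : Subgroup L) := by
    intro hcy
    have hO : Cfsg.oddCore L = ⊥ := by
      rcases IsSimpleGroup.eq_bot_or_eq_top_of_normal _
        (inferInstance : (Cfsg.oddCore L).Normal) with h | h
      · exact h
      · exfalso
        have := CfsgLib.Inv54.odd_card_oddCore (G := L)
        rw [h, card_top] at this
        exact this.not_two_dvd_nat (hbbo ▸ orderOf_dvd_natCard bb)
    have hp := isPGroup_of_cyclic_sylow T hcy hO
    haveI := hp.isNilpotent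
    have hcomm : ∀ a c : L, a * c = c * a := IsSimpleGroup.comm_iff_isSolvable.2 inferInstance
    have hle : L ≤ centralizer (L : Set Q) := fun a ha => mem_centralizer_iff.2 fun c hc =>
      congrArg Subtype.val (hcomm ⟨c, hc⟩ ⟨a, ha⟩)
    rw [hC] at hle
    exact Small.ne_one_of_orderOf_two hb (mem_bot.1 (hle hbL))
  have hbT : bb ∈ (T : Subgroup L) := hT (mem_zpowers bb)
  obtain ⟨k, hk, ⟨eT⟩⟩ := ((hQ.subgroup L).cyclic_or_dihedral T).resolve_left hnc
  obtain ⟨p, q, hp2, hq2, hp1, hq1, hpq, hcpq⟩ := exists_four_of_dihedral hk T.isPGroup' eT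
  haveI : Nontrivial (T : Subgroup L) := ⟨⟨p, 1, hp1⟩⟩
  haveI := T.isPGroup'.center_nontrivial
  have key : ∃ w : (T : Subgroup L), w ≠ 1 ∧ w * w = 1 ∧ w ≠ ⟨bb, hbT⟩ ∧ Commute ⟨bb, hbT⟩ w := by
    obtain ⟨c, hc⟩ := exists_prime_orderOf_dvd_card' (G := center (T : Subgroup L)) 2 (by
      obtain ⟨j, hj0, hj⟩ := (IsPGroup.nontrivial_iff_card
        (T.isPGroup'.to_subgroup (center (T : Subgroup L)))).1 inferInstance
      rw [hj]; exact dvd_pow_self 2 hj0.ne')
    have hc' : orderOf (c : (T : Subgroup L)) = 2 := by rw [Subgroup.orderOf_coe, hc]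
    by_cases hcb : (c : (T : Subgroup L)) = ⟨bb, hbT⟩
    · have hcent : ∀ w : (T : Subgroup L), Commute (⟨bb, hbT⟩ : (T : Subgroup L)) w := fun w => by
        rw [← hcb]; exact (mem_center_iff.1 c.2 w).symm
      by_cases hpb : p = ⟨bb, hbT⟩
      · exact ⟨q, hq1, hq2, fun h => hpq (hpb.trans h.symm), hcent q⟩
      · exact ⟨p, hp1, hp2, hpb, hcent p⟩
    · exact ⟨c, Small.ne_one_of_orderOf_two hc', Small.mul_self_of_orderOf_two hc', hcb,
        (mem_center_iff.1 c.2 _)⟩
  obtain ⟨w, hw1, hw2, hwb, hbw⟩ := key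
  refine ⟨((w : L) : Q), (w : L).2, Small.orderOf_eq_two_iff_sq.2 ⟨fun h => hw1 (Subtype.ext (Subtype.ext h)),
    congrArg (fun t : (T : Subgroup L) => ((t : L) : Q)) hw2⟩, fun h => hwb (Subtype.ext (Subtype.ext h)),
    congrArg (fun t : (T : Subgroup L) => ((t : L) : Q)) hbw.eq⟩

theorem exists_index_comap {X Y : Type*} [Group X] [Group Y] (N : Subgroup Y) [N.Normal] {k : ℕ}
    (hk : N.index = 2 ^ k) (f : X →* Y) : ∃ j, (N.comap f).index = 2 ^ j := by
  have hd : (N.comap f).index ∣ 2 ^ k := by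
    rw [← hk, index_comap]
    exact N.relIndex_dvd_index_of_normal _
  obtain ⟨j, -, hj⟩ := (Nat.dvd_prime_pow Nat.prime_two).1 hd
  exact ⟨j, hj⟩

theorem exists_mul_of_index {X : Type*} [Group X] [Finite X] (N : Subgroup X) [N.Normal]
    (hN : ∃ j, N.index = 2 ^ j) (W : Sylow 2 X) (c : X) :
    ∃ a ∈ N, ∃ w ∈ (W : Subgroup X), c = a * w := by
  haveI : Fact (Nat.Prime 2) := ⟨Nat.prime_two⟩
  obtain ⟨j, hj⟩ := hN
  have htop : N ⊔ (W : Subgroup X) = ⊤ := by
    refine index_eq_one.1 (Nat.eq_one_of_dvd_coprimes ?_ dvd_rfl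
      (hj ▸ index_dvd_of_le (le_sup_left : N ≤ N ⊔ (W : Subgroup X))))
    refine Nat.Coprime.pow_right j ?_
    rw [Nat.coprime_comm, Nat.Prime.coprime_iff_not_dvd Nat.prime_two]
    exact fun h => W.not_dvd_index (h.trans (index_dvd_of_le le_sup_right))
  obtain ⟨a, ha, w, hw, e⟩ := mem_sup_of_normal_left.1 (htop ▸ mem_top c : c ∈ N ⊔ (W : Subgroup X))
  exact ⟨a, ha, w, hw, e.symm⟩

set_option maxHeartbeats 800000 in
/-- An odd element centralizing an outer and an inner involution fixes a four-group and an element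
cycling it. -/
theorem exists_fixed_cycle (hQ : DihType Q) (hC : centralizer (L : Set Q) = ⊥)
    (hL : IsPSLOrAltSeven L) {z b : Q} (hz : orderOf z = 2) (hb : orderOf b = 2) (hzb : Commute z b)
    (hzL : z ∉ L) (hbL : b ∈ L) {x : Q} (hxo : Odd (orderOf x)) (hzx : Commute z x)
    (hbx : Commute b x) :
    ∃ r ∈ L, ∃ h ∈ L, ∃ j : ℕ, orderOf r = 2 ∧ r ≠ b ∧ Commute b r ∧ Commute x r ∧ Commute x h ∧
      h * b * h⁻¹ = r ∧ h * r * h⁻¹ = b * r ∧ (z * r) ^ j * (z * r) ^ j = b := by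
  obtain ⟨F, iF, fF, ⟨m⟩⟩ := exists_model hQ hC hL hzL
  haveI : Fact (Nat.Prime 2) := ⟨Nat.prime_two⟩
  have hne : b ≠ z := fun e => hzL (e ▸ hbL)
  obtain ⟨V, hV, hVnc, hV4, hVmem, hzV, hbV⟩ := exists_fourGroup hz hb hzb hne
  have hz2 := Small.mul_self_of_orderOf_two hz
  have hsimp : IsSimpleGroup L := by
    haveI := CfsgLib.Linear.isSimpleGroup_PSL_of (F := F) 2 le_rfl (fun _ => m.large)
    haveI : Nontrivial L := m.e.toEquiv.nontrivial
    exact IsSimpleGroup.isSimpleGroup_of_surjective m.e.symm.toMonoidHom m.e.symm.surjective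
  -- the normal subgroup of odd order of `C(b)`
  have hsyl : ∃ (S : Sylow 2 Q) (n : ℕ), 2 ≤ n ∧ Nonempty ((S : Subgroup Q) ≃* DihedralGroup n) := by
    obtain ⟨S, hS⟩ := (IsPGroup.of_card (n := 2) (hV4.trans (by norm_num)) :
      IsPGroup 2 V).exists_le_sylow
    refine ⟨S, (hQ.cyclic_or_dihedral S).resolve_left fun hcy => hVnc ?_⟩
    haveI := hcy
    exact isCyclic_of_injective (Subgroup.inclusion hS) (Subgroup.inclusion_injective hS)
  obtain ⟨S, n, hn, hS⟩ := hsyl
  obtain ⟨N, hN, hNo, k, hk⟩ := Cfsg.Agent.S0514.result S n hn hS b hb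
  haveI := hN
  -- `C₁ = C(b) ∩ L⟨z⟩`
  set L' := L ⊔ zpowers z with hL'
  set C1 := L' ⊓ centralizer ({b} : Set Q) with hC1
  have memC1 : ∀ g, g ∈ C1 ↔ g ∈ L' ∧ Commute b g := fun g => by
    rw [hC1, mem_inf, mem_centralizer_singleton_iff]
    exact and_congr_right fun _ => ⟨fun h => h.symm, fun h => h.symm⟩
  have hzC1 : z ∈ C1 := (memC1 z).2 ⟨mem_sup_right (mem_zpowers z), hzb.symm⟩
  have hbC1 : b ∈ C1 := (memC1 b).2 ⟨mem_sup_left hbL, Commute.refl b⟩
  have hVC1 : V ≤ C1 := by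
    intro v hv
    rcases hVmem v hv with rfl | rfl | rfl | rfl
    exacts [one_mem _, hzC1, hbC1, mul_mem hzC1 hbC1]
  obtain ⟨W, hW⟩ := ((IsPGroup.of_card (n := 2) (hV4.trans (by norm_num)) : IsPGroup 2 V).comap_of_injective
    C1.subtype C1.subtype_injective).exists_le_sylow
  -- odd elements of `C₁` centralizing `z` are trivial
  have hL'mem : ∀ g ∈ L', g ∈ L ∨ g * z ∈ L := by
    intro g hg
    obtain ⟨l, hl, w, hw, rfl⟩ := mem_sup_of_normal_left.1 hg
    obtain ⟨i, rfl⟩ := mem_powers_iff_mem_zpowers.2 hw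
    rcases Nat.even_or_odd i with ⟨i', rfl⟩ | ⟨i', rfl⟩
    · left
      show l * z ^ (i' + i') ∈ L
      rw [← two_mul, show z ^ (2 * i') = 1 by rw [pow_mul, pow_two, hz2, one_pow]]
      simpa using hl
    · right
      show l * z ^ (2 * i' + 1) * z ∈ L
      rw [pow_succ, pow_mul, pow_two, hz2, one_pow, one_mul, mul_assoc, hz2, mul_one]
      exact hl
  have hfree : ∀ g ∈ C1, Commute z g → Odd (orderOf g) → g = 1 := by
    intro g hg hzg ho
    have hgL : g ∈ L := by
      rcases hL'mem g ((memC1 g).1 hg).1 with h | h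
      · exact h
      · have h2 : g * g ∈ L := by
          have := mul_mem h h
          rwa [show g * z * (g * z) = g * (z * g) * z by group, hzg.eq,
            show g * (g * z) * z = g * g * (z * z) by group, hz2, mul_one] at this
        obtain ⟨i, hi⟩ := ho
        have := pow_mem h2 (i + 1)
        rwa [← pow_two, ← pow_mul, show 2 * (i + 1) = orderOf g + 1 by omega, pow_succ,
          pow_orderOf_eq_one, one_mul] at this
    exact Model.eq_one_of_commute_both hz hb hzb hne (Model.coe_mem_diagPart (m := m) hgL) hzg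
      ((memC1 g).1 hg).2 ho
  let N1 : Subgroup C1 := N.comap (Subgroup.inclusion (inf_le_right : C1 ≤ centralizer ({b} : Set Q)))
  haveI hN1 : N1.Normal := hN.comap _
  have hdecomp : ∀ c : C1, ∃ a ∈ N1, ∃ w ∈ (W : Subgroup C1), c = a * w :=
    exists_mul_of_index N1 (exists_index_comap N hk
      (Subgroup.inclusion (inf_le_right : C1 ≤ centralizer ({b} : Set Q)))) W
  have hN1o : ∀ a ∈ N1, Odd (orderOf a) := by
    intro a ha
    have h1 := odd_orderOf_of_mem hNo (x := Subgroup.inclusion _ a) ha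
    rwa [orderOf_injective (Subgroup.inclusion (inf_le_right : C1 ≤ centralizer ({b} : Set Q)))
      (Subgroup.inclusion_injective _)] at h1
  have hbW : (⟨b, hbC1⟩ : C1) ∈ (W : Subgroup C1) := hW hbV
  have hzW : (⟨z, hzC1⟩ : C1) ∈ (W : Subgroup C1) := hW hzV
  -- the Sylow subgroups containing `z` and `b` are equal
  have huniq : ∀ a ∈ N1, a⁻¹ * ⟨z, hzC1⟩ * a ∈ (W : Subgroup C1) → a = 1 := by
    intro a ha hmem
    have h1 : a⁻¹ * ⟨z, hzC1⟩ * a * (⟨z, hzC1⟩ : C1)⁻¹ ∈ N1 := by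
      rw [mul_assoc, mul_assoc]
      refine mul_mem (inv_mem ha) ?_
      rw [← mul_assoc]
      exact hN1.conj_mem a ha _
    have h2 : a⁻¹ * ⟨z, hzC1⟩ * a * (⟨z, hzC1⟩ : C1)⁻¹ ∈ (W : Subgroup C1) :=
      mul_mem hmem (inv_mem hzW)
    obtain ⟨i, hi⟩ := W.isPGroup' ⟨_, h2⟩
    have h3 : a⁻¹ * ⟨z, hzC1⟩ * a * (⟨z, hzC1⟩ : C1)⁻¹ = 1 := orderOf_eq_one_iff.1
      (Nat.eq_one_of_dvd_coprimes ((Nat.coprime_two_left.2 (hN1o _ h1)).pow_left i)
        (orderOf_dvd_of_pow_eq_one (congrArg Subtype.val hi)) dvd_rfl)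
    rw [mul_inv_eq_one, mul_assoc, inv_mul_eq_iff_eq_mul] at h3
    refine Subtype.ext (hfree (a : Q) a.2 (congrArg Subtype.val h3) ?_)
    rw [Subgroup.orderOf_coe]; exact hN1o a ha
  -- a further involution of `L` in `W`
  obtain ⟨r₀, hr₀L, hr₀o, hr₀b, hbr₀⟩ := exists_other_involution hQ hC hsimp hb hbL
  have hr₀C1 : r₀ ∈ C1 := (memC1 r₀).2 ⟨mem_sup_left hr₀L, hbr₀⟩
  obtain ⟨W2, hW2⟩ := (IsPGroup.of_card (n := 1) (by
    rw [Nat.card_zpowers, pow_one, ← Subgroup.orderOf_coe]; exact hr₀o) :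
    IsPGroup 2 (zpowers (⟨r₀, hr₀C1⟩ : C1))).exists_le_sylow
  obtain ⟨c, hc⟩ := MulAction.exists_smul_eq C1 W W2
  obtain ⟨a, ha, w, hw, hcaw⟩ := hdecomp c
  have hr₀W : a⁻¹ * ⟨r₀, hr₀C1⟩ * a ∈ (W : Subgroup C1) := by
    have h1 : (⟨r₀, hr₀C1⟩ : C1) ∈ ((c • W : Sylow 2 C1) : Subgroup C1) := hc ▸ hW2 (mem_zpowers _)
    obtain ⟨t, ht, hte⟩ := h1
    have hte' : c * t * c⁻¹ = ⟨r₀, hr₀C1⟩ := hte
    rw [← hte', hcaw, show a⁻¹ * (a * w * t * (a * w)⁻¹) * a = w * t * w⁻¹ by group]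
    exact mul_mem (mul_mem hw ht) (inv_mem hw)
  set r : Q := (a : Q)⁻¹ * r₀ * a with hr
  have hrL : r ∈ L := by
    have := (inferInstance : L.Normal).conj_mem r₀ hr₀L (a : Q)⁻¹
    rwa [inv_inv] at this
  have hro : orderOf r = 2 := by
    rw [hr, show (a : Q)⁻¹ * r₀ * a = (a : Q)⁻¹ * r₀ * (a : Q)⁻¹⁻¹ by rw [inv_inv],
      Small.orderOf_conj_eq, hr₀o]
  have hab : Commute b (a : Q) := ((memC1 _).1 a.2).2
  have hrb : r ≠ b := fun e => hr₀b (by
    calc r₀ = a * r * (a : Q)⁻¹ := by rw [hr]; group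
      _ = b := by rw [e, ← hab.eq, mul_inv_cancel_right])
  have hbr : Commute b r := (hab.inv_right.mul_right hbr₀).mul_right hab
  have hr1 : (⟨r, (memC1 r).2 ⟨mem_sup_left hrL, hbr⟩⟩ : C1) ∈ (W : Subgroup C1) := hr₀W
  set R : C1 := ⟨r, (memC1 r).2 ⟨mem_sup_left hrL, hbr⟩⟩
  set Z : C1 := ⟨z, hzC1⟩
  set v : Q := z * r with hv
  have hr2 := Small.mul_self_of_orderOf_two hro
  have hne4 : ∀ s : Q, orderOf s = 2 → Commute z s → Commute b s → s = z ∨ s = b ∨ s = z * b := by
    intro s hso hzs hbs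
    by_contra hs
    push Not at hs
    have hs2 := Small.mul_self_of_orderOf_two hso
    let E := closure ({z, b, s} : Set Q)
    have hcomm : IsMulCommutative E := by
      refine Subgroup.isMulCommutative_closure ?_
      rintro p (rfl | rfl | rfl) q (rfl | rfl | rfl)
      exacts [rfl, hzb, hzs, hzb.symm, rfl, hbs, hzs.symm, hbs.symm, rfl]
    have hsq : ∀ y ∈ E, y * y = 1 := by
      intro y hy
      induction hy using Subgroup.closure_induction with
      | mem y hy =>
        rcases hy with rfl | rfl | rfl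
        exacts [hz2, Small.mul_self_of_orderOf_two hb, hs2]
      | one => exact one_mul 1
      | mul p q hp hq hp2 hq2 =>
        have : q * p = p * q := congrArg Subtype.val (hcomm.is_comm.comm ⟨q, hq⟩ ⟨p, hp⟩)
        rw [mul_assoc, ← mul_assoc q, this, mul_assoc p q, hq2, mul_one, hp2]
      | inv p _ hp2 => rw [← mul_inv_rev, hp2, inv_one]
    have h4 := hQ.card_le_four E hsq
    have hVE : V ≤ E := by
      intro y hy
      rcases hVmem y hy with rfl | rfl | rfl | rfl
      exacts [one_mem _, subset_closure (by simp), subset_closure (by simp),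
        mul_mem (subset_closure (by simp)) (subset_closure (by simp))]
    have heq := Subgroup.eq_of_le_of_card_ge hVE (by omega)
    have hsV : s ∈ V := heq ▸ subset_closure (by simp)
    rcases hVmem s hsV with e | e | e | e
    exacts [Small.ne_one_of_orderOf_two hso e, hs.1 e, hs.2.1 e, hs.2.2 e]
  have hrz : ¬ Commute z r := fun h => by
    rcases hne4 r hro h hbr with e | e | e
    · exact hzL (e ▸ hrL)
    · exact hrb e
    · exact hzL (by
        have := mul_mem hrL hbL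
        rwa [e, mul_assoc, Small.mul_self_of_orderOf_two hb, mul_one] at this)
  have heven : Even (orderOf v) := by
    rw [← Nat.not_odd_iff_even]
    intro hodd
    obtain ⟨i, hi⟩ := Small.conj_pow_eq_of_odd hz hro hodd
    refine hzL ?_
    generalize (z * r) ^ i = c at hi
    have := (inferInstance : L.Normal).conj_mem r hrL c⁻¹
    rwa [← hi, inv_inv, show c⁻¹ * (c * z * c⁻¹) * c = z by group] at this
  obtain ⟨hco, hcz, hcr⟩ := Small.half_pow_spec hz hro heven
  have hbv : Commute b v := hzb.symm.mul_right hbr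
  have hceq : v ^ (orderOf v / 2) = b := by
    rcases hne4 _ hco hcz.symm (hbv.pow_right _) with e | e | e
    · exact absurd (e ▸ hcr : Commute z r) hrz
    · exact e
    · refine absurd ?_ hrz
      have h := (e ▸ hcr : Commute (z * b) r).mul_left hbr
      rwa [mul_assoc, Small.mul_self_of_orderOf_two hb, mul_one] at h
  obtain ⟨j, hj⟩ : Even (orderOf v / 2) := by
    rw [← Nat.not_odd_iff_even]
    rintro ⟨i, hi⟩
    rw [hi, pow_succ, pow_mul, pow_two] at hceq
    have hvv : v * v ∈ L := by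
      rw [hv, show z * r * (z * r) = (z * r * z⁻¹) * (z * z) * r by group, hz2, mul_one]
      exact mul_mem ((inferInstance : L.Normal).conj_mem r hrL z) hrL
    have hvL : v ∈ L := by
      have := mul_mem (inv_mem (pow_mem hvv i)) hbL
      rwa [← hceq, inv_mul_cancel_left] at this
    apply hzL
    have := mul_mem hvL hrL
    rwa [hv, mul_assoc, hr2, mul_one] at this
  have hsq : v ^ j * v ^ j = b := by rw [← pow_add, ← hj]; exact hceq
  -- `x` normalizes `W`, so centralizes `v`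
  have hxL' : x ∈ normalizer (L' : Set Q) := by
    have h1 : x ∈ normalizer (L : Set Q) := by rw [normalizer_eq_top]; exact mem_top x
    have h3 : ∀ g : Q, g ∈ normalizer (L : Set Q) → Commute g z → ∀ y ∈ L', g * y * g⁻¹ ∈ L' := by
      intro g hg hgz y hy
      obtain ⟨l, hl, w, hw, rfl⟩ := mem_sup_of_normal_left.1 hy
      obtain ⟨i, rfl⟩ := mem_powers_iff_mem_zpowers.2 hw
      show g * (l * z ^ i) * g⁻¹ ∈ L'
      rw [show g * (l * z ^ i) * g⁻¹ = g * l * g⁻¹ * (g * z ^ i * g⁻¹) by group,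
        (hgz.pow_right i).eq, mul_inv_cancel_right]
      exact mul_mem (mem_sup_left ((mem_normalizer_iff.1 hg l).1 hl))
        (pow_mem (mem_sup_right (mem_zpowers z)) i)
    refine mem_normalizer_iff.2 fun y => ⟨h3 x h1 hzx.symm y, fun h => ?_⟩
    have := h3 x⁻¹ (inv_mem h1) hzx.symm.inv_left _ h
    rwa [show x⁻¹ * (x * y * x⁻¹) * x⁻¹⁻¹ = y by group] at this
  have hxC1 : ∀ g ∈ C1, x * g * x⁻¹ ∈ C1 := by
    intro g hg
    rw [memC1] at hg ⊢
    exact ⟨(mem_normalizer_iff.1 hxL' g).1 hg.1, (hbx.mul_right hg.2).mul_right hbx.inv_right⟩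
  let ξ : C1 →* C1 :=
    { toFun := fun g => ⟨x * g * x⁻¹, hxC1 g g.2⟩
      map_one' := Subtype.ext (by simp)
      map_mul' := fun p q => Subtype.ext (by simp [mul_assoc]) }
  have hξinj : Function.Injective ξ := fun p q h =>
    Subtype.ext (mul_left_cancel (mul_right_cancel (congrArg Subtype.val h)))
  obtain ⟨W', hW'⟩ := (W.isPGroup'.map ξ).exists_le_sylow
  obtain ⟨c', hc'⟩ := MulAction.exists_smul_eq C1 W W'
  obtain ⟨a', ha', w', hw', hcaw'⟩ := hdecomp c'
  have ha'1 : a' = 1 := by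
    refine huniq a' ha' ?_
    have hzW' : Z ∈ (W' : Subgroup C1) :=
      hW' ⟨Z, hzW, Subtype.ext (show x * z * x⁻¹ = z by rw [← hzx.eq, mul_inv_cancel_right])⟩
    rw [← hc'] at hzW'
    obtain ⟨t, ht, hte⟩ := hzW'
    have hte' : c' * t * c'⁻¹ = Z := hte
    show a'⁻¹ * Z * a' ∈ _
    rw [← hte', hcaw', show a'⁻¹ * (a' * w' * t * (a' * w')⁻¹) * a' = w' * t * w'⁻¹ by group]
    exact mul_mem (mul_mem hw' ht) (inv_mem hw')
  have hξW : ∀ t ∈ (W : Subgroup C1), ξ t ∈ (W : Subgroup C1) := by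
    intro t ht
    have h1 : ξ t ∈ ((c' • W : Sylow 2 C1) : Subgroup C1) := hc' ▸ hW' ⟨t, ht, rfl⟩
    obtain ⟨s, hs, hse⟩ := h1
    rw [← (show c' * s * c'⁻¹ = ξ t from hse), hcaw', ha'1, one_mul]
    exact mul_mem (mul_mem hw' hs) (inv_mem hw')
  have hxv : Commute x v := by
    obtain ⟨l, f, hf⟩ := (hQ.subgroup C1) W W.isPGroup'
    let v1 : (W : Subgroup C1) := ⟨Z * R, mul_mem hzW hr1⟩
    let v2 : (W : Subgroup C1) := ⟨ξ (Z * R), hξW _ v1.2⟩
    have hrot : ∀ t : (W : Subgroup C1), t * t ≠ 1 → f t ∈ rot l := fun t ht => by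
      by_contra h
      exact ht (hf (by rw [map_mul, map_one]; exact mul_self_of_notMem_rot _ h))
    have hv4 : v * v ≠ 1 := fun h => hrz (by
      show z * r = r * z
      calc z * r = (z * r) * ((r * z) * (z * r))⁻¹ := by
            rw [show r * z * (z * r) = r * (z * z) * r by group, hz2, mul_one, hr2, inv_one, mul_one]
        _ = (v * v) * (z * r * (z * r))⁻¹ * (z * r) * ((r * z) * (z * r))⁻¹ := by rw [hv]; group
        _ = ((z * r) * (z * r))⁻¹ * (z * r) * ((r * z) * (z * r))⁻¹ := by rw [h, one_mul]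
        _ = (z * r)⁻¹ * (z * r)⁻¹ * (z * r) * (z * r)⁻¹ * (r * z)⁻¹ := by group
        _ = r * z := by
          rw [show (z * r)⁻¹ * (z * r)⁻¹ * (z * r) * (z * r)⁻¹ * (r * z)⁻¹ =
            (r⁻¹ * z⁻¹) * ((r⁻¹ * z⁻¹) * (z⁻¹ * r⁻¹)) by group,
            inv_eq_of_mul_eq_one_right hz2, inv_eq_of_mul_eq_one_right hr2,
            show r * z * (z * r) = r * (z * z) * r by group, hz2, mul_one, hr2, mul_one])
    have h11 : v1 * v1 ≠ 1 := fun h =>
      hv4 (congrArg (fun t : (W : Subgroup C1) => ((t : C1) : Q)) h)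
    have h22 : v2 * v2 ≠ 1 := fun h => by
      have h' : ξ (Z * R * (Z * R)) = 1 := by
        rw [map_mul]; exact congrArg Subtype.val h
      exact h11 (Subtype.ext (hξinj (h'.trans (map_one ξ).symm)))
    let Rot : Subgroup (W : Subgroup C1) := (rot l).comap f
    haveI : IsCyclic Rot := isCyclic_of_le_rot (f := f.comp Rot.subtype) (hf.comp Rot.subtype_injective)
      fun t => t.2
    have hm1 : v1 ∈ Rot := hrot v1 h11
    have hm2 : v2 ∈ Rot := hrot v2 h22
    have ho12 : orderOf (⟨v2, hm2⟩ : Rot) = orderOf (⟨v1, hm1⟩ : Rot) := by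
      rw [← Subgroup.orderOf_coe ⟨v2, hm2⟩, ← Subgroup.orderOf_coe ⟨v1, hm1⟩]
      show orderOf v2 = orderOf v1
      rw [← Subgroup.orderOf_coe v2, ← Subgroup.orderOf_coe v1]
      exact orderOf_injective ξ hξinj _
    obtain ⟨i, hi⟩ := mem_zpowers_iff.1 (CfsgLib.BGroups.mem_zpowers_of_orderOf_eq ho12)
    have hxvi : x * v * x⁻¹ = v ^ i := by
      have h' := congrArg (fun t : Rot => (((t : (W : Subgroup C1)) : C1) : Q)) hi
      simp only [SubgroupClass.coe_zpow] at h'
      exact h'.symm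
    have hvp : IsPGroup 2 (zpowers v) := by
      obtain ⟨i2, hi2⟩ := W.isPGroup' v1
      exact IsPGroup.of_card_dvd_pow (n := i2) (Nat.card_zpowers v ▸ orderOf_dvd_of_pow_eq_one
        (congrArg (fun t : (W : Subgroup C1) => ((t : C1) : Q)) hi2 :))
    have hxn : x ∈ normalizer (zpowers v : Set Q) := by
      rw [mem_normalizer_iff_map_conj_eq, MonoidHom.map_zpowers]
      show zpowers (x * v * x⁻¹) = zpowers v
      refine Subgroup.eq_of_le_of_card_ge (hxvi ▸ zpowers_le.2 (zpow_mem (mem_zpowers v) i)) ?_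
      rw [Nat.card_zpowers, Nat.card_zpowers, Small.orderOf_conj_eq]
    exact CfsgLib.Inv54.commute_of_odd_of_cyclic hvp hxo hxn (mem_zpowers v)
  have hxr : Commute x r := by
    have h := hzx.symm.inv_right.mul_right hxv
    rwa [hv, inv_mul_cancel_left] at h
  -- the cycling element
  set bl : L := ⟨b, hbL⟩
  set rl : L := ⟨r, hrL⟩
  have hue : m.e bl * m.e bl = 1 := by
    rw [← map_mul, show bl * bl = 1 from Subtype.ext (Small.mul_self_of_orderOf_two hb), map_one]
  have hwe : m.e rl * m.e rl = 1 := by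
    rw [← map_mul, show rl * rl = 1 from Subtype.ext hr2, map_one]
  have hu1 : m.e bl ≠ 1 := fun h =>
    Small.ne_one_of_orderOf_two hb (congrArg Subtype.val (m.e.map_eq_one_iff.1 h))
  have hw1 : m.e rl ≠ 1 := fun h =>
    Small.ne_one_of_orderOf_two hro (congrArg Subtype.val (m.e.map_eq_one_iff.1 h))
  have huw : m.e bl ≠ m.e rl := fun h => hrb (congrArg Subtype.val (m.e.injective h)).symm
  have hcuw : m.e bl * m.e rl = m.e rl * m.e bl := by
    rw [← map_mul, ← map_mul]; exact congrArg m.e (Subtype.ext hbr.eq)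
  obtain ⟨p, q, hp, hq, hpp, hqq, hqp⟩ :=
    Inv53.exists_quaternion_lift m.odd hue hwe hu1 hw1 huw hcuw
  have h2 := m.two_ne_zero
  let M : Matrix (Fin 2) (Fin 2) F := (2 : F)⁻¹ • ((1 + p.1) * (1 + q.1))
  have hdet1 : ∀ t : Matrix.SpecialLinearGroup (Fin 2) F, t * t = -1 → (1 + t.1).det = 2 := by
    intro t ht
    have ht' : t.1 * t.1 = (-1 : F) • 1 := by
      have := congrArg Subtype.val ht
      simpa using this
    have hns : NonSc t.1 := fun c hc => by
      have h' := congrArg Subtype.val ht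
      have hcenter : t * q = q * t := Subtype.ext (by simp [hc])
      have hcenter' : t * p = p * t := Subtype.ext (by simp [hc])
      have htc : t ∈ Subgroup.center (Matrix.SpecialLinearGroup (Fin 2) F) := by
        rw [Matrix.SpecialLinearGroup.mem_center_iff]
        refine ⟨c, ?_, ?_⟩
        · have hd := t.2
          rw [hc, Matrix.det_smul, Matrix.det_one, mul_one] at hd
          exact hd
        · rw [hc]; simp [Matrix.smul_one_eq_diagonal]
      rcases (SL2Trace.mem_center_iff_eq t).1 htc with e | e <;> rw [e] at ht <;>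
        exact Linear.neg_one_ne_one m.odd (by simpa using ht.symm)
    have htr := hns.trace_zero ht'
    have hd := t.2
    rw [Matrix.det_fin_two] at hd ⊢
    rw [Matrix.trace_fin_two] at htr
    simp
    linear_combination hd + htr
  have hMdet : M.det = 1 := by
    simp only [M]
    rw [Matrix.det_smul, Matrix.det_mul, hdet1 p hpp, hdet1 q hqq, Fintype.card_fin]
    field_simp
  let K : Matrix.SpecialLinearGroup (Fin 2) F := ⟨M, hMdet⟩
  have hqp' : q.1 * p.1 = -(p.1 * q.1) := congrArg Subtype.val hqp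
  have hp2 : p.1 * p.1 = -1 := congrArg Subtype.val hpp
  have hq2 : q.1 * q.1 = -1 := congrArg Subtype.val hqq
  have hqpX : ∀ X : Matrix (Fin 2) (Fin 2) F, q.1 * (p.1 * X) = -(p.1 * (q.1 * X)) := fun X => by
    rw [← mul_assoc, hqp', neg_mul, mul_assoc]
  have hp2X : ∀ X : Matrix (Fin 2) (Fin 2) F, p.1 * (p.1 * X) = -X := fun X => by
    rw [← mul_assoc, hp2, neg_one_mul]
  have hq2X : ∀ X : Matrix (Fin 2) (Fin 2) F, q.1 * (q.1 * X) = -X := fun X => by
    rw [← mul_assoc, hq2, neg_one_mul]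
  have hKp : K * p = q * K := by
    apply Subtype.ext
    show M * p.1 = q.1 * M
    simp only [M, smul_mul_assoc, mul_smul_comm, add_mul, mul_add, one_mul, mul_one, mul_assoc, hqp',
      hqpX, hp2, hp2X, hq2, mul_neg, neg_neg, smul_add, smul_neg]
    abel
  have hKq : K * q = (p * q) * K := by
    apply Subtype.ext
    show M * q.1 = p.1 * q.1 * M
    simp only [M, smul_mul_assoc, mul_smul_comm, add_mul, mul_add, one_mul, mul_one, mul_assoc, hqp',
      hqpX, hp2, hp2X, hq2, hq2X, mul_neg, neg_mul, neg_neg, neg_add_rev, smul_add, smul_neg]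
    abel
  set hh : L := m.e.symm (QuotientGroup.mk K)
  have hh1 : hh * bl * hh⁻¹ = rl := by
    apply m.e.injective
    rw [map_mul, map_mul, map_inv, MulEquiv.apply_symm_apply, ← hp, ← hq, mul_inv_eq_iff_eq_mul,
      ← QuotientGroup.mk_mul, ← QuotientGroup.mk_mul, hKp]
  have hh2 : hh * rl * hh⁻¹ = bl * rl := by
    apply m.e.injective
    rw [map_mul, map_mul, map_inv, map_mul, MulEquiv.apply_symm_apply, ← hp, ← hq,
      mul_inv_eq_iff_eq_mul, ← QuotientGroup.mk_mul, ← QuotientGroup.mk_mul, ← QuotientGroup.mk_mul, hKq]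
  have e1 : (hh : Q) * b * (hh : Q)⁻¹ = r := congrArg Subtype.val hh1
  have e2 : (hh : Q) * r * (hh : Q)⁻¹ = b * r := congrArg Subtype.val hh2
  have hxh : Commute x (hh : Q) := by
    set w := ⁅x, (hh : Q)⁆ with hwdef
    have hwL : w ∈ L := by
      rw [hwdef, commutatorElement_def]
      exact mul_mem ((inferInstance : L.Normal).conj_mem _ hh.2 x) (inv_mem hh.2)
    have hconj : ∀ s t : Q, Commute x s → Commute x t → (hh : Q) * s * (hh : Q)⁻¹ = t →
        Commute w t := by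
      intro s t hs ht hst
      show w * t = t * w
      have h1 : x * (hh : Q) * x⁻¹ * s * (x * (hh : Q) * x⁻¹)⁻¹ = t := by
        calc x * (hh : Q) * x⁻¹ * s * (x * (hh : Q) * x⁻¹)⁻¹
            = x * (hh : Q) * (x⁻¹ * s * x) * (hh : Q)⁻¹ * x⁻¹ := by group
          _ = x * t * x⁻¹ := by rw [hs.inv_left.eq, inv_mul_cancel_right, ← hst]; group
          _ = t := by rw [ht.eq, mul_inv_cancel_right]
      rw [← mul_inv_eq_iff_eq_mul, hwdef, commutatorElement_def]
      calc x * (hh : Q) * x⁻¹ * (hh : Q)⁻¹ * t * (x * (hh : Q) * x⁻¹ * (hh : Q)⁻¹)⁻¹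
          = x * (hh : Q) * x⁻¹ * ((hh : Q)⁻¹ * t * hh) * (x * (hh : Q) * x⁻¹)⁻¹ := by group
        _ = x * (hh : Q) * x⁻¹ * s * (x * (hh : Q) * x⁻¹)⁻¹ := by rw [← hst]; group
        _ = t := h1
    have hwr : Commute w r := hconj b r hbx.symm hxr e1
    have hwbr : Commute w (b * r) := hconj r (b * r) hxr (hbx.symm.mul_right hxr) e2
    have hwb : Commute w b := by
      have h := hwbr.mul_right hwr
      rwa [mul_assoc, hr2, mul_one] at h
    have hmem := Inv53.mem_four_of_commute m.odd hue hwe hu1 hw1 huw hcuw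
      (x := m.e ⟨w, hwL⟩)
      (by rw [← map_mul, ← map_mul]; exact congrArg m.e (Subtype.ext hwb.eq))
      (by rw [← map_mul, ← map_mul]; exact congrArg m.e (Subtype.ext hwr.eq))
    have hw4 : w = 1 ∨ w = b ∨ w = r ∨ w = b * r := by
      rcases hmem with h | h | h | h
      · exact Or.inl (congrArg Subtype.val (m.e.map_eq_one_iff.1 h))
      · exact Or.inr (Or.inl (congrArg Subtype.val (m.e.injective h)))
      · exact Or.inr (Or.inr (Or.inl (congrArg Subtype.val (m.e.injective h))))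
      · rw [← map_mul] at h
        exact Or.inr (Or.inr (Or.inr (congrArg Subtype.val (m.e.injective h))))
    have hxw : Commute x w := by
      rcases hw4 with e | e | e | e <;> rw [e]
      exacts [Commute.one_right x, hbx.symm, hxr, hbx.symm.mul_right hxr]
    have hw2 : w * w = 1 := by
      rcases hw4 with e | e | e | e <;> rw [e]
      · exact one_mul 1
      · exact Small.mul_self_of_orderOf_two hb
      · exact hr2
      · calc b * r * (b * r) = b * (r * b) * r := by group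
          _ = (b * b) * (r * r) := by rw [← hbr.eq]; group
          _ = 1 := by rw [Small.mul_self_of_orderOf_two hb, hr2, one_mul]
    exact OddOrder.Stab.commute_of_stab hxw ((Nat.coprime_two_right.2 hxo).coprime_dvd_right
      (orderOf_dvd_of_pow_eq_one (by rw [pow_two]; exact hw2)))
  exact ⟨r, hrL, (hh : Q), hh.2, j, hro, hrb, hbr, hxr, hxh, e1, e2, hsq⟩

end CfsgLib.GW.OS
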