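import Cfsg.Agent.BenderMethod.Symmetric
import Cfsg.Agent.CAGroups.Simple
import Cfsg.Agent.GW.OSType.Action
import Cfsg.Agent.GW.Setting
import Cfsg.Agent.S0205
import Cfsg.Agent.LocalStructure.Tools

/-!
# Gorenstein–Walter, odd-by-two type: the maximal overgroups of an involution centralizer

`Ctx z M`: `M` is maximal, contains `C(z)` properly, and all such overgroups are odd-by-two.
`piMinus z M` are the primes `u` with `z` not centralizing `O_u(M)`; `Good z M` makes them maximal.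
-/

set_option autoImplicit false
set_option linter.style.haveILetI false
set_option linter.unusedSectionVars false

open Subgroup
open CfsgLib.Signalizer CfsgLib.BenderMethod

namespace CfsgLib.GW.OS

universe u

variable {G : Type u} [Group G]

/-- Every maximal proper overgroup of an involution centralizer is odd-by-two. -/
def OSHyp (G : Type u) [Group G] : Prop :=
  ∀ z : G, orderOf z = 2 → ∀ M : Subgroup G, IsCoatom M → centralizer ({z} : Set G) < M →
    IsPGroup 2 (M ⧸ Cfsg.oddCore M)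

/-- The setting: a maximal subgroup above `C(z)`. -/
structure Ctx (z : G) (M : Subgroup G) : Prop where
  min : Minimal G
  os : OSHyp G
  inv : orderOf z = 2
  coatom : IsCoatom M
  lt : centralizer ({z} : Set G) < M

/-- `O(M)` inside the group. -/
abbrev oddOf (M : Subgroup G) : Subgroup G := (Cfsg.oddCore M).map M.subtype

/-- The primes `u` for which `z` does not centralize `O_u(M)`. -/
def piMinus (z : G) (M : Subgroup G) : Set ℕ :=
  {u | u.Prime ∧ ∃ x ∈ Cfsg.pCoreOf u M, ¬ Commute z x}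

/-- An overgroup with a maximal set of primes. -/
def Good (z : G) (M : Subgroup G) : Prop :=
  Ctx z M ∧ ∀ N, Ctx z N → piMinus z M ⊆ piMinus z N → piMinus z N ⊆ piMinus z M

theorem map_pCoreOf_conj (g : G) (p : ℕ) (L : Subgroup G) :
    (Cfsg.pCoreOf p L).map (MulAut.conj g).toMonoidHom =
      Cfsg.pCoreOf p (L.map (MulAut.conj g).toMonoidHom) := by
  let E : L ≃* ↥(L.map (MulAut.conj g).toMonoidHom) := (MulAut.conj g).subgroupMap L
  have hE : (L.map (MulAut.conj g).toMonoidHom).subtype.comp E.toMonoidHom =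
      (MulAut.conj g).toMonoidHom.comp L.subtype := MonoidHom.ext fun _ => rfl
  rw [Cfsg.pCoreOf, Cfsg.pCoreOf, map_map, ← hE,
    ← CfsgLib.PLocal.map_pCore_equiv (p := p) E, map_map]

theorem mem_map_conj {g x : G} {L : Subgroup G} :
    x ∈ L.map (MulAut.conj g).toMonoidHom ↔ g⁻¹ * x * g ∈ L := by
  constructor
  · rintro ⟨y, hy, rfl⟩
    simpa [mul_assoc] using hy
  · exact fun h => ⟨_, h, by simp [mul_assoc]⟩

theorem conj_mem_map {g x : G} {L : Subgroup G} (hx : x ∈ L) :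
    g * x * g⁻¹ ∈ L.map (MulAut.conj g).toMonoidHom := ⟨x, hx, rfl⟩

theorem isPGroup_pCoreOf (u : ℕ) (M : Subgroup G) : IsPGroup u (Cfsg.pCoreOf u M) :=
  LocalStructure.pCoreOf_isPGroup M

theorem exists_pow_pCoreOf {u : ℕ} {M : Subgroup G} {x : G} (hx : x ∈ Cfsg.pCoreOf u M) :
    ∃ k, x ^ u ^ k = 1 := by
  obtain ⟨k, hk⟩ := isPGroup_pCoreOf u M ⟨x, hx⟩
  exact ⟨k, by simpa using congrArg Subtype.val hk⟩

theorem coprime_orderOf_pCoreOf {u v : ℕ} (hu : u.Prime) (hv : v.Prime) (hne : u ≠ v)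
    {M : Subgroup G} {x : G} (hx : x ∈ Cfsg.pCoreOf u M) : (orderOf x).Coprime v := by
  obtain ⟨k, hk⟩ := exists_pow_pCoreOf hx
  exact Nat.Coprime.coprime_dvd_left (orderOf_dvd_of_pow_eq_one hk)
    (((Nat.coprime_primes hu hv).2 hne).pow_left k)

theorem commute_of_mem_centralizer_singleton {z c : G} (h : c ∈ centralizer ({z} : Set G)) :
    Commute z c :=
  (mem_centralizer_singleton_iff.1 h).symm

theorem mem_centralizer_of_commute {z c : G} (h : Commute z c) : c ∈ centralizer ({z} : Set G) :=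
  mem_centralizer_singleton_iff.2 h.symm.eq

theorem mem_normalizer_pCoreOf {u : ℕ} {M : Subgroup G} {m : G} (hm : m ∈ M) :
    m ∈ normalizer (Cfsg.pCoreOf u M : Set G) :=
  LocalStructure.le_normalizer_pCoreOf M hm

theorem conj_mem_oddOf {M : Subgroup G} {m o : G} (hm : m ∈ M) (ho : o ∈ oddOf M) :
    m * o * m⁻¹ ∈ oddOf M := by
  obtain ⟨o', ho', rfl⟩ := ho
  exact ⟨⟨m, hm⟩ * o' * ⟨m, hm⟩⁻¹,
    (inferInstance : (Cfsg.oddCore M).Normal).conj_mem o' ho' _, rfl⟩

variable [Finite G]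

theorem odd_card_oddOf (M : Subgroup G) : Odd (Nat.card (oddOf M)) := by
  rw [oddOf, card_map_of_injective M.subtype_injective]
  exact ExtremelyClosed.odd_card_oddCore' M

namespace Ctx

variable {z : G} {M : Subgroup G} (hc : Ctx z M)
include hc

theorem simple : IsSimpleGroup G := hc.min.simple

theorem z_sq : z * z = 1 := Small.mul_self_of_orderOf_two hc.inv

theorem mem_of_commute {c : G} (h : Commute z c) : c ∈ M :=
  hc.lt.le (mem_centralizer_of_commute h)

theorem mem_z : z ∈ M := hc.mem_of_commute (Commute.refl z)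

theorem quotient_two : IsPGroup 2 (M ⧸ Cfsg.oddCore M) := hc.os z hc.inv M hc.coatom hc.lt

/-- The elements of odd order lie in `O(M)`. -/
theorem mem_oddOf {x : G} (hx : x ∈ M) (ho : Odd (orderOf x)) : x ∈ oddOf M := by
  refine ⟨⟨x, hx⟩, ?_, rfl⟩
  obtain ⟨k, hk⟩ := hc.quotient_two (QuotientGroup.mk ⟨x, hx⟩)
  show (⟨x, hx⟩ : M) ∈ Cfsg.oddCore M
  rw [← QuotientGroup.eq_one_iff, ← orderOf_eq_one_iff]
  refine Nat.eq_one_of_dvd_coprimes ((Nat.coprime_two_right.2 ho).pow_right k) ?_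
    (orderOf_dvd_of_pow_eq_one hk)
  rw [← orderOf_mk x hx]
  exact orderOf_map_dvd (QuotientGroup.mk' (Cfsg.oddCore M)) ⟨x, hx⟩

theorem isSolvable : Group.IsSolvable M := by
  haveI : Group.IsSolvable (Cfsg.oddCore M) :=
    Cfsg.Agent.S0205.result (ExtremelyClosed.odd_card_oddCore' M)
  haveI : Fact (Nat.Prime 2) := ⟨Nat.prime_two⟩
  haveI := hc.quotient_two.isNilpotent
  exact Group.isSolvable_of_ker_le_range (Cfsg.oddCore M).subtype
    (QuotientGroup.mk' (Cfsg.oddCore M)) (by simp)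

theorem layer_eq_bot : Cfsg.layer M = ⊥ :=
  eq_bot_iff.2 (sSup_le fun _ hK => absurd
    (Components.isSolvable_mono (H := _) (K := ⊤)
      (by haveI := hc.isSolvable; infer_instance) le_top)
    (Components.IsComponent.not_isSolvable hK))

theorem layerOf_eq_bot : layerOf' M = ⊥ := by
  rw [layerOf', hc.layer_eq_bot, Subgroup.map_bot]

/-- `M` is `O(M)` times a Sylow 2-subgroup centralizing `z`. -/
theorem exists_decomp (S : Sylow 2 G) (hS : ∀ s ∈ (S : Subgroup G), s * z = z * s) {m : G}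
    (hm : m ∈ M) : ∃ o ∈ oddOf M, ∃ s ∈ (S : Subgroup G), m = o * s := by
  haveI : Fact (Nat.Prime 2) := ⟨Nat.prime_two⟩
  obtain ⟨k, hk⟩ := IsPGroup.iff_card.1 hc.quotient_two
  have hle : (S : Subgroup G) ≤ M := fun s hs => hc.mem_of_commute (hS s hs).symm
  have hodd : ¬ 2 ∣ ((S : Subgroup G).subgroupOf M).index := fun h =>
    S.not_dvd_index (h.trans (by rw [← relIndex_mul_index hle]; exact dvd_mul_right _ _))
  have htop : (⟨m, hm⟩ : M) ∈ Cfsg.oddCore M ⊔ (S : Subgroup G).subgroupOf M := by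
    rw [sup_eq_top_of_index _ _ (index_eq_card (Cfsg.oddCore M) ▸ hk) hodd]
    trivial
  obtain ⟨a, ha, b, hb, hab⟩ := mem_sup_of_normal_left.1 htop
  exact ⟨a, ⟨a, ha, rfl⟩, b, hb, (congrArg Subtype.val hab).symm⟩

theorem exists_decomp' {m : G} (hm : m ∈ M) : ∃ o ∈ oddOf M, ∃ c, Commute z c ∧ m = o * c := by
  obtain ⟨S, -, hS⟩ := hc.min.exists_sylow hc.inv
  obtain ⟨o, ho, s, hs, e⟩ := hc.exists_decomp S hS hm
  exact ⟨o, ho, s, (hS s hs).symm, e⟩

/-- An `M`-conjugate of `z` commuting with `z` equals `z`. -/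
theorem conj_eq {m : G} (hm : m ∈ M) (h : Commute (m * z * m⁻¹) z) : m * z * m⁻¹ = z := by
  obtain ⟨o, ho, c, hcz, rfl⟩ := hc.exists_decomp' hm
  have e : o * c * z * (o * c)⁻¹ = o * z * o⁻¹ := by
    calc o * c * z * (o * c)⁻¹ = o * (c * z) * c⁻¹ * o⁻¹ := by group
      _ = o * z * o⁻¹ := by rw [← hcz.eq]; group
  rw [e] at h ⊢
  have hd : o * z * o⁻¹ * z⁻¹ ∈ oddOf M := by
    rw [show o * z * o⁻¹ * z⁻¹ = o * (z * o⁻¹ * z⁻¹) by group]
    exact mul_mem ho (conj_mem_oddOf hc.mem_z (inv_mem ho))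
  have hzo := Small.mul_self_of_orderOf_two hc.inv
  have hi := inverts_comm hzo o
  have h1 : Commute z (o * z * o⁻¹ * z⁻¹) := h.symm.mul_right (Commute.refl z).inv_right
  exact mul_inv_eq_one.1 (hi.eq_one h1 (odd_orderOf_of_mem (odd_card_oddOf M) hd))

/-- `O₂(M) = 1`. -/
theorem pCoreOf_two : Cfsg.pCoreOf 2 M = ⊥ := by
  haveI : Fact (Nat.Prime 2) := ⟨Nat.prime_two⟩
  by_contra hne
  obtain ⟨S, -, hS⟩ := hc.min.exists_sylow hc.inv
  have hle : (S : Subgroup G) ≤ M := fun s hs => hc.mem_of_commute (hS s hs).symm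
  obtain ⟨x, hx, hx1, hxS⟩ := exists_fixed_ne_one (isPGroup_pCoreOf 2 M) S.isPGroup'
    (hle.trans (LocalStructure.le_normalizer_pCoreOf M)) hne
  obtain ⟨k, hk⟩ := exists_pow_pCoreOf hx
  obtain ⟨j, -, hj⟩ := (Nat.dvd_prime_pow Nat.prime_two).1 (orderOf_dvd_of_pow_eq_one hk)
  obtain ⟨i, rfl⟩ : ∃ i, j = i + 1 := Nat.exists_eq_succ_of_ne_zero fun e => hx1
    (orderOf_eq_one_iff.1 (by rw [hj, e, pow_zero]))
  set t := x ^ 2 ^ i with ht
  have hto : orderOf t = 2 := by
    rw [ht, orderOf_pow, hj, Nat.gcd_eq_right (pow_dvd_pow 2 (Nat.le_succ i)),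
      Nat.pow_div (Nat.le_succ i) two_pos, show i + 1 - i = 1 by omega, pow_one]
  have hMt : M ≤ centralizer ({t} : Set G) := by
    intro m hm
    obtain ⟨o, ho, s, hs, rfl⟩ := hc.exists_decomp S hS hm
    refine mem_centralizer_of_commute (((?_ : Commute x o).pow_left _).mul_right
      ((hxS s hs).symm.pow_left _))
    obtain ⟨a, ha, rfl⟩ := hx
    obtain ⟨o', ho', rfl⟩ := ho
    refine (Subgroup.commute_of_normal_of_disjoint _ _ (LocalStructure.pCore_normal)
      (inferInstance : (Cfsg.oddCore M).Normal) ?_ a o' ha ho').map M.subtype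
    exact disjoint_iff.2 (PLocal.disjoint_of_isPGroup_of_coprime LocalStructure.pCore_isPGroup
      (PLocal.coprime_card_pPrimeCore 2 M))
  obtain ⟨g, hg⟩ := isConj_iff.1 (hc.min.isConj hc.inv hto)
  have h1 : Nat.card M ≤ Nat.card (centralizer ({t} : Set G)) := card_le_of_le hMt
  rw [← hg, ← CAGroups.map_conj_centralizer,
    card_map_of_injective (MulAut.conj g).injective] at h1
  exact hc.lt.ne (eq_of_le_of_card_ge hc.lt.le h1)

theorem prime_ne_two {u : ℕ} (h : Cfsg.pCoreOf u M ≠ ⊥) : u ≠ 2 := by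
  rintro rfl
  exact h hc.pCoreOf_two

theorem odd_pCoreOf {u : ℕ} (hu : u.Prime) : Odd (Nat.card (Cfsg.pCoreOf u M)) := by
  haveI := Fact.mk hu
  by_cases h : Cfsg.pCoreOf u M = ⊥
  · rw [h, card_bot]; exact odd_one
  · obtain ⟨k, hk⟩ := IsPGroup.iff_card.1 (isPGroup_pCoreOf u M)
    rw [hk]
    exact (hu.odd_of_ne_two (hc.prime_ne_two h)).pow

theorem odd_orderOf_pCoreOf {u : ℕ} (hu : u.Prime) {x : G} (hx : x ∈ Cfsg.pCoreOf u M) :
    Odd (orderOf x) :=
  odd_orderOf_of_mem (hc.odd_pCoreOf hu) hx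

theorem odd_fitting : Odd (Nat.card (fittingOf M)) := by
  rw [← Nat.not_even_iff_odd, even_iff_two_dvd]
  intro h
  haveI : Fact (Nat.Prime 2) := ⟨Nat.prime_two⟩
  rw [card_map_of_injective M.subtype_injective] at h
  exact (dvd_card_fitting_iff M 2).1 h hc.pCoreOf_two

/-- `C_M(F(M)) ≤ F(M)`. -/
theorem mem_fitting {x : G} (hx : x ∈ M)
    (h : ∀ u : ℕ, u.Prime → ∀ y ∈ Cfsg.pCoreOf u M, Commute y x) : x ∈ fittingOf M :=
  mem_fittingOf_of_commute hc.layer_eq_bot hx fun r => h r r.2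

theorem piMinus_nonempty : ∃ u, u ∈ piMinus z M := by
  by_contra h
  have hz : z ∈ fittingOf M := hc.mem_fitting hc.mem_z fun u hu y hy => by
    by_contra hy'
    exact h ⟨u, hu, y, hy, fun e => hy' e.symm⟩
  have := odd_orderOf_of_mem hc.odd_fitting hz
  rw [hc.inv] at this
  exact absurd this (by decide)

theorem ne_bot_of_piMinus {u : ℕ} (h : u ∈ piMinus z M) : Cfsg.pCoreOf u M ≠ ⊥ := by
  obtain ⟨-, x, hx, hne⟩ := h
  intro e
  rw [e, mem_bot] at hx
  exact hne (hx ▸ Commute.one_right z)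

theorem z_normalizes (u : ℕ) : z ∈ normalizer (Cfsg.pCoreOf u M : Set G) :=
  mem_normalizer_pCoreOf hc.mem_z

/-- A nontrivial normal subgroup of `M` has normalizer in `M`. -/
theorem normalizer_le {W : Subgroup G} (hW : W ≤ M) (hn : M ≤ normalizer (W : Set G)) (h : W ≠ ⊥) :
    normalizer (W : Set G) ≤ M := by
  haveI := hc.simple
  exact normalizer_le_of_coatom hc.coatom hW hn h

/-- Conjugating the setting. -/
theorem conj (g : G) : Ctx (g * z * g⁻¹) (M.map (MulAut.conj g).toMonoidHom) where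
  min := hc.min
  os := hc.os
  inv := by rw [Small.orderOf_conj_eq, hc.inv]
  coatom := ((MulAut.conj g).mapSubgroup.isCoatom_iff M).2 hc.coatom
  lt := by
    rw [← CAGroups.map_conj_centralizer]
    exact (MulAut.conj g).mapSubgroup.lt_iff_lt.2 hc.lt

end Ctx

theorem piMinus_conj (g z : G) (M : Subgroup G) :
    piMinus (g * z * g⁻¹) (M.map (MulAut.conj g).toMonoidHom) = piMinus z M := by
  ext u
  refine and_congr_right fun _ => ?_
  rw [← map_pCoreOf_conj]
  have key : ∀ x : G, Commute (g * z * g⁻¹) (g * x * g⁻¹) ↔ Commute z x := fun x => by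
    constructor
    · intro h
      simpa [mul_assoc] using h.map (MulAut.conj g⁻¹).toMonoidHom
    · intro h
      simpa using h.map (MulAut.conj g).toMonoidHom
  constructor
  · rintro ⟨_, ⟨x, hx, rfl⟩, h⟩
    exact ⟨x, hx, fun h' => h ((key x).2 h')⟩
  · rintro ⟨x, hx, h⟩
    exact ⟨_, conj_mem_map hx, fun h' => h ((key x).1 h')⟩

theorem Good.conj {z : G} {M : Subgroup G} (h : Good z M) (g : G) :
    Good (g * z * g⁻¹) (M.map (MulAut.conj g).toMonoidHom) := by
  refine ⟨h.1.conj g, fun N hN hsub => ?_⟩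
  have hN' := hN.conj g⁻¹
  rw [show g⁻¹ * (g * z * g⁻¹) * g⁻¹⁻¹ = z by group] at hN'
  have e := piMinus_conj g⁻¹ (g * z * g⁻¹) N
  rw [show g⁻¹ * (g * z * g⁻¹) * g⁻¹⁻¹ = z by group] at e
  rw [piMinus_conj] at hsub ⊢
  rw [← e] at hsub ⊢
  exact h.2 _ hN' hsub

theorem exists_good {z : G} {M : Subgroup G} (hc : Ctx z M) : ∃ M₀, Good z M₀ := by
  obtain ⟨M₀, hM₀, hmax⟩ := (Set.toFinite {N : Subgroup G | Ctx z N}).exists_maximalFor
    (piMinus z) _ ⟨M, hc⟩
  exact ⟨M₀, hM₀, fun N hN hsub => hmax hN hsub⟩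

end CfsgLib.GW.OS
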