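import Cfsg.Agent.GW.DihedralType
import Cfsg.Agent.GW.OSType.Action
import Cfsg.Agent.AutPSL.FieldCentralizer
import Cfsg.Agent.AutPSL.GraphField
import Cfsg.Agent.AutPSL.Involution
import Cfsg.Agent.Inv53.PSLTwoAbelian

/-!
# Gorenstein–Walter, odd-by-two type: groups with `PSL₂` as self-centralizing normal subgroup

`Rep g M`: the element `g` acts on `L ≅ PSL₂(F)` as conjugation by the matrix `M`; the elements
having such a matrix form the normal subgroup `diagPart`, which contains every involution.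
-/

set_option autoImplicit false
set_option linter.style.haveILetI false
set_option linter.unusedSectionVars false

open Subgroup
open scoped MatrixGroups

namespace CfsgLib.GW.OS

variable {Q : Type*} [Group Q] [Finite Q] {L : Subgroup Q} [L.Normal] {F : Type} [Field F] [Fintype F]

local notation "PST" => Matrix.ProjectiveSpecialLinearGroup (Fin 2) F
local notation "SLT" => Matrix.SpecialLinearGroup (Fin 2) F
local notation "GLT" => GL (Fin 2) F

/-- A self-centralizing normal `PSL₂(F)`, `q` odd. -/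
structure Model (L : Subgroup Q) (F : Type) [Field F] [Fintype F] where
  e : L ≃* Matrix.ProjectiveSpecialLinearGroup (Fin 2) F
  cent : centralizer (L : Set Q) = ⊥
  odd : Odd (Fintype.card F)
  large : 3 < Fintype.card F
  dih : DihType Q

namespace Model

variable (m : Model L F)

/-- The action on `PSL₂(F)`. -/
def act : Q →* MulAut PST := (MulAut.congr m.e).toMonoidHom.comp MulAut.conjNormal

theorem act_apply (g : Q) (l : L) : m.act g (m.e l) = m.e (MulAut.conjNormal g l) := by
  simp [act, MulAut.congr]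

theorem act_injective : Function.Injective m.act := by
  intro g h hgh
  have hmem : g⁻¹ * h ∈ centralizer (L : Set Q) := by
    refine mem_centralizer_iff.2 fun l hl => ?_
    have h1 := DFunLike.congr_fun hgh (m.e ⟨l, hl⟩)
    rw [act_apply, act_apply] at h1
    have h2 : g * l * g⁻¹ = h * l * h⁻¹ := congrArg Subtype.val (m.e.injective h1)
    calc l * (g⁻¹ * h) = g⁻¹ * (g * l * g⁻¹) * h := by group
      _ = g⁻¹ * (h * l * h⁻¹) * h := by rw [h2]
      _ = g⁻¹ * h * l := by group
  rw [m.cent, mem_bot, inv_mul_eq_one] at hmem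
  exact hmem

theorem act_coe (l : L) : m.act (l : Q) = MulAut.conj (m.e l) := by
  ext1 y
  obtain ⟨x, rfl⟩ := m.e.surjective y
  rw [act_apply, MulAut.conj_apply, ← map_inv, ← map_mul, ← map_mul]
  exact congrArg m.e (Subtype.ext rfl)

/-- `g` acts as the matrix `M`. -/
def Rep (g : Q) (M : GLT) : Prop := m.act g = AutPSL.toPSLAut (AutPSL.conjSL M)

/-- The elements acting as matrices. -/
def diagPart : Subgroup Q :=
  ((AutPSL.toPSLAut (ι := Fin 2) (F := F)).comp AutPSL.conjSL).range.comap m.act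

variable {m}

theorem mem_diagPart {g : Q} : g ∈ m.diagPart ↔ ∃ M, m.Rep g M :=
  ⟨fun ⟨M, h⟩ => ⟨M, h.symm⟩, fun ⟨M, h⟩ => ⟨M, h.symm⟩⟩

theorem Rep.mul {g h : Q} {M N : GLT} (hg : m.Rep g M) (hh : m.Rep h N) :
    m.Rep (g * h) (M * N) := by
  simp only [Rep, map_mul] at hg hh ⊢; rw [hg, hh]

theorem rep_one : m.Rep 1 1 := by simp [Rep]

theorem Rep.inv {g : Q} {M : GLT} (hg : m.Rep g M) : m.Rep g⁻¹ M⁻¹ := by
  simp only [Rep, map_inv] at hg ⊢; rw [hg]

theorem Rep.pow {g : Q} {M : GLT} (hg : m.Rep g M) (k : ℕ) : m.Rep (g ^ k) (M ^ k) := by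
  simp only [Rep, map_pow] at hg ⊢; rw [hg]

theorem Rep.unique {g : Q} {M N : GLT} (hM : m.Rep g M) (hN : m.Rep g N) :
    ∃ u : Fˣ, M = Matrix.GeneralLinearGroup.scalar (Fin 2) u * N := by
  obtain ⟨p, hp⟩ := CharP.exists F
  have : Fact p.Prime := ⟨CharP.char_is_prime F p⟩
  have h : AutPSL.conjSL M = AutPSL.conjSL N := AutPSL.toPSLAut_injective p (hM.symm.trans hN)
  obtain ⟨u, hu⟩ := AutPSL.conjSL_eq_one_iff.1
    (show AutPSL.conjSL (M * N⁻¹) = 1 by rw [map_mul, map_inv, h, mul_inv_cancel])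
  exact ⟨u, mul_inv_eq_iff_eq_mul.1 hu⟩

theorem eq_one_of_rep_scalar {g : Q} {u : Fˣ}
    (h : m.Rep g (Matrix.GeneralLinearGroup.scalar (Fin 2) u)) : g = 1 := by
  apply m.act_injective
  rw [h, AutPSL.conjSL_scalar, map_one, map_one]

theorem rep_coe (s : SLT) :
    m.Rep ((m.e.symm (QuotientGroup.mk s) : L) : Q) (Matrix.SpecialLinearGroup.toGL s) := by
  show m.act _ = _
  rw [act_coe, MulEquiv.apply_symm_apply, AutPSL.conjSL_toGL, AutPSL.toPSLAut_conj]

theorem rep_scalar_mul {g : Q} {M : GLT} (u : Fˣ) (h : m.Rep g M) :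
    m.Rep g (Matrix.GeneralLinearGroup.scalar (Fin 2) u * M) := by
  simp only [Rep, map_mul, AutPSL.conjSL_scalar, map_one, one_mul] at h ⊢
  exact h

theorem exists_form (g : Q) :
    ∃ (M : GLT) (σ : F ≃+* F), m.act g = AutPSL.toPSLAut (AutPSL.conjSL M * AutPSL.fieldSL σ) := by
  rcases AutPSL.form_cases le_rfl (m.act g) with h | ⟨h, -⟩
  · exact h
  · omega

theorem commutator_mem (g h : Q) : g * h * g⁻¹ * h⁻¹ ∈ m.diagPart := by
  obtain ⟨A, σ, hA⟩ := exists_form (m := m) g
  obtain ⟨B, τ, hB⟩ := exists_form (m := m) h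
  refine mem_diagPart.2 ⟨A * AutPSL.mapGL σ B * (B * AutPSL.mapGL τ A)⁻¹, ?_⟩
  show m.act (g * h * g⁻¹ * h⁻¹) = _
  have h1 : (AutPSL.conjSL A * AutPSL.fieldSL σ : MulAut SLT) * (AutPSL.conjSL B * AutPSL.fieldSL τ) =
      AutPSL.conjSL (A * AutPSL.mapGL σ B) * AutPSL.fieldSL (σ * τ) := by
    rw [mul_assoc, ← mul_assoc (AutPSL.fieldSL σ), AutPSL.fieldSL_mul_conjSL, map_mul, map_mul]
    group
  have h2 : (AutPSL.conjSL B * AutPSL.fieldSL τ : MulAut SLT) * (AutPSL.conjSL A * AutPSL.fieldSL σ) =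
      AutPSL.conjSL (B * AutPSL.mapGL τ A) * AutPSL.fieldSL (σ * τ) := by
    rw [mul_assoc, ← mul_assoc (AutPSL.fieldSL τ), AutPSL.fieldSL_mul_conjSL,
      AutPSL.ringEquiv_comm σ τ, map_mul, map_mul]
    group
  have e : g * h * g⁻¹ * h⁻¹ = (g * h) * (h * g)⁻¹ := by group
  rw [e, map_mul, map_inv, map_mul, map_mul, hA, hB, ← map_mul, ← map_mul, h1, h2, ← map_inv,
    ← map_mul]
  congr 1
  rw [map_mul AutPSL.conjSL (A * AutPSL.mapGL σ B), map_inv AutPSL.conjSL]
  group

theorem diagPart_normal : m.diagPart.Normal := ⟨fun x hx g => by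
  have := mul_mem (commutator_mem (m := m) g x) hx
  rwa [inv_mul_cancel_right] at this⟩

theorem coe_mem_diagPart {l : Q} (hl : l ∈ L) : l ∈ m.diagPart := by
  obtain ⟨s, hs⟩ := QuotientGroup.mk_surjective (m.e ⟨l, hl⟩)
  refine mem_diagPart.2 ⟨Matrix.SpecialLinearGroup.toGL s, ?_⟩
  have h := rep_coe (m := m) s
  rw [hs, MulEquiv.symm_apply_apply] at h
  exact h

theorem Inverts.mem_diagPart {z d : Q} (h : Inverts z d) (ho : Odd (orderOf d)) :
    d ∈ m.diagPart := by
  obtain ⟨a, -, e⟩ := h.exists_comm_eq ho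
  exact e ▸ commutator_mem a z

/-- An element of `diagPart` lies in `L` when its determinant is a square. -/
theorem mem_of_det {g : Q} {M : GLT} (h : m.Rep g M) (hd : IsSquare (M.1.det)) : g ∈ L := by
  obtain ⟨c, hc⟩ := hd
  have hc0 : c ≠ 0 := fun e => M.det.ne_zero (by
    rw [Matrix.GeneralLinearGroup.val_det_apply, hc, e, mul_zero])
  let s : SLT := ⟨c⁻¹ • M.1, by rw [Matrix.det_smul, hc, Fintype.card_fin]; field_simp⟩
  have hs : Matrix.SpecialLinearGroup.toGL s =
      Matrix.GeneralLinearGroup.scalar (Fin 2) (Units.mk0 c⁻¹ (inv_ne_zero hc0)) * M := by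
    apply Units.ext
    show c⁻¹ • M.1 = _ * M.1
    simp [Matrix.smul_eq_diagonal_mul]
  have : g = ((m.e.symm (QuotientGroup.mk s) : L) : Q) := by
    apply m.act_injective
    rw [(rep_scalar_mul _ h : m.Rep g _), (rep_coe (m := m) s : m.act _ = _), hs]
  exact this ▸ SetLike.coe_mem _

theorem det_of_mem {g : Q} {M : GLT} (hg : g ∈ L) (h : m.Rep g M) : IsSquare (M.1.det) := by
  obtain ⟨s, hs⟩ := QuotientGroup.mk_surjective (m.e ⟨g, hg⟩)
  have h' := rep_coe (m := m) s
  rw [hs, MulEquiv.symm_apply_apply] at h'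
  obtain ⟨u, hu⟩ := Rep.unique h h'
  refine ⟨(u : F), ?_⟩
  rw [hu, Units.val_mul, Matrix.det_mul]
  simp [pow_two]

/-- Every involution acts as a matrix. -/
theorem involution_mem {z : Q} (hz : orderOf z = 2) : z ∈ m.diagPart := by
  classical
  obtain ⟨p, hp⟩ := CharP.exists F
  have hpF : Fact p.Prime := ⟨CharP.char_is_prime F p⟩
  obtain ⟨M, σ, hM⟩ := exists_form (m := m) z
  have hz2 := Small.mul_self_of_orderOf_two hz
  have hpow : (AutPSL.toPSLAut (AutPSL.conjSL M * AutPSL.fieldSL σ)) ^ 2 = 1 := by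
    rw [← hM, ← map_pow, pow_two, hz2, map_one]
  by_cases hσ : σ = 1
  · exact mem_diagPart.2 ⟨M, by rw [Rep, hM, hσ, map_one, mul_one]⟩
  have hσ2 : orderOf σ = 2 :=
    orderOf_eq_prime ((AutPSL.mul_field_pow_eq_one_iff p σ M 2).1 hpow).1 hσ
  obtain ⟨h, hh⟩ := AutPSL.isConj_field_of_pow_eq_one le_rfl hσ2 two_pos M hpow
  exfalso
  -- a quaternion pair over the prime field
  obtain ⟨a, c, hac⟩ := ZMod.sq_add_sq p (-1)
  let φ : ZMod p →+* F := ZMod.castHom dvd_rfl F
  have hφ : ∀ x, σ (φ x) = φ x := fun x =>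
    RingHom.congr_fun (Subsingleton.elim ((σ : F →+* F).comp φ) φ) x
  set a' := φ a
  set c' := φ c
  have hac' : a' * a' + c' * c' = -1 := by
    have := congrArg φ hac
    simpa [pow_two] using this
  let i : SLT := ⟨!![0, 1; -1, 0], by simp [Matrix.det_fin_two]⟩
  let j : SLT := ⟨!![a', c'; c', -a'], by
    rw [Matrix.det_fin_two]; simp; linear_combination -hac'⟩
  have hfi : AutPSL.fieldSL σ i = i := by
    apply Subtype.ext
    rw [AutPSL.fieldSL_coe]
    ext r s
    fin_cases r <;> fin_cases s <;> simp [i]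
  have hfj : AutPSL.fieldSL σ j = j := by
    apply Subtype.ext
    rw [AutPSL.fieldSL_coe]
    ext r s
    fin_cases r <;> fin_cases s <;> simp [j, a', c', hφ]
  set α := AutPSL.toPSLAut (AutPSL.conjSL h) with hα
  set u : Q := ((m.e.symm (α (QuotientGroup.mk i)) : L) : Q) with hu
  set w : Q := ((m.e.symm (α (QuotientGroup.mk j)) : L) : Q) with hw
  have h2 : (2 : F) ≠ 0 := Linear.two_ne_zero_of_odd m.odd
  have hii : i * i = -1 := by
    apply Subtype.ext
    simp only [Matrix.SpecialLinearGroup.coe_mul, Matrix.SpecialLinearGroup.coe_neg,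
      Matrix.SpecialLinearGroup.coe_one]
    ext r s
    fin_cases r <;> fin_cases s <;> simp [i, Matrix.mul_apply, Fin.sum_univ_two]
  have hjj : j * j = -1 := by
    apply Subtype.ext
    simp only [Matrix.SpecialLinearGroup.coe_mul, Matrix.SpecialLinearGroup.coe_neg,
      Matrix.SpecialLinearGroup.coe_one]
    ext r s
    fin_cases r <;> fin_cases s <;> simp [j, Matrix.mul_apply, Fin.sum_univ_two] <;>
      first
        | linear_combination hac'
        | linear_combination -hac'
        | ring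
  have hji : j * i = -(i * j) := by
    apply Subtype.ext
    simp only [Matrix.SpecialLinearGroup.coe_mul, Matrix.SpecialLinearGroup.coe_neg,
      Matrix.SpecialLinearGroup.coe_one]
    ext r s
    fin_cases r <;> fin_cases s <;> simp [i, j, Matrix.mul_apply, Fin.sum_univ_two]
  have hmk : ∀ x y : SLT, y = x ∨ y = -x →
      (QuotientGroup.mk x : PST) = QuotientGroup.mk y := fun x y => Inv53.psl2_mk_eq_iff.2
  have hu2 : (QuotientGroup.mk i : PST) * QuotientGroup.mk i = 1 := by
    rw [← QuotientGroup.mk_mul, hii, Inv53.psl2_mk_neg, QuotientGroup.mk_one]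
  have hw2 : (QuotientGroup.mk j : PST) * QuotientGroup.mk j = 1 := by
    rw [← QuotientGroup.mk_mul, hjj, Inv53.psl2_mk_neg, QuotientGroup.mk_one]
  have huw : (QuotientGroup.mk i : PST) * QuotientGroup.mk j =
      QuotientGroup.mk j * QuotientGroup.mk i := by
    rw [← QuotientGroup.mk_mul, ← QuotientGroup.mk_mul, hji, Inv53.psl2_mk_neg]
  have hu1 : (QuotientGroup.mk i : PST) ≠ 1 := by
    rw [← QuotientGroup.mk_one, Ne, Inv53.psl2_mk_eq_iff]
    rintro (e | e) <;>
      · have := congrArg (fun M : SLT => M.1 0 1) e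
        simp only [Matrix.SpecialLinearGroup.coe_neg, Matrix.SpecialLinearGroup.coe_one, Matrix.neg_apply] at this
        simp [i] at this
  have hw1 : (QuotientGroup.mk j : PST) ≠ 1 := by
    rw [← QuotientGroup.mk_one, Ne, Inv53.psl2_mk_eq_iff]
    rintro (e | e)
    · have := congrArg (fun M : SLT => M.1 0 0 + M.1 1 1) e
      simp only [Matrix.SpecialLinearGroup.coe_neg, Matrix.SpecialLinearGroup.coe_one, Matrix.neg_apply] at this
      simp [j] at this
      first
        | exact h2 (by linear_combination this)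
        | exact h2 (by linear_combination -this)
    · have := congrArg (fun M : SLT => M.1 0 0 + M.1 1 1) e
      simp only [Matrix.SpecialLinearGroup.coe_neg, Matrix.SpecialLinearGroup.coe_one, Matrix.neg_apply] at this
      simp [j] at this
      first
        | exact h2 (by linear_combination this)
        | exact h2 (by linear_combination -this)
  have hne : (QuotientGroup.mk i : PST) ≠ QuotientGroup.mk j := by
    rw [Ne, Inv53.psl2_mk_eq_iff]
    rintro (e | e)
    · have e1 := congrArg (fun M : SLT => M.1 0 1) e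
      have e2 := congrArg (fun M : SLT => M.1 1 0) e
      simp [i, j] at e1 e2
      exact h2 (by linear_combination e2 - e1)
    · have e1 := congrArg (fun M : SLT => M.1 0 1) e
      have e2 := congrArg (fun M : SLT => M.1 1 0) e
      simp only [Matrix.SpecialLinearGroup.coe_neg, Matrix.SpecialLinearGroup.coe_one, Matrix.neg_apply] at e1 e2
      simp [i, j] at e1 e2
      exact h2 (by linear_combination e1 - e2)
  have hzact : ∀ x : SLT, AutPSL.fieldSL σ x = x →
      Commute z ((m.e.symm (α (QuotientGroup.mk x)) : L) : Q) := by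
    intro x hx
    show z * _ = _ * z
    rw [← mul_inv_eq_iff_eq_mul]
    have h1 : m.act z (α (QuotientGroup.mk x)) = α (QuotientGroup.mk x) := by
      rw [hM, hh]
      simp only [MulAut.mul_apply]
      rw [show α⁻¹ (α (QuotientGroup.mk x)) = QuotientGroup.mk x from α.symm_apply_apply _,
        AutPSL.toPSLAut_mk, hx]
    have h2 := act_apply m z (m.e.symm (α (QuotientGroup.mk x)))
    rw [MulEquiv.apply_symm_apply, h1] at h2
    have h3 := congrArg m.e.symm h2
    rw [MulEquiv.symm_apply_apply] at h3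
    exact (congrArg Subtype.val h3).symm
  have hzu : Commute z u := hzact i hfi
  have hzw : Commute z w := hzact j hfj
  let ψ : PST →* Q := L.subtype.comp (m.e.symm.toMonoidHom.comp α.toMonoidHom)
  have hψ : Function.Injective ψ :=
    L.subtype_injective.comp (m.e.symm.injective.comp α.injective)
  have hu' : u = ψ (QuotientGroup.mk i) := rfl
  have hw' : w = ψ (QuotientGroup.mk j) := rfl
  have huo : orderOf u = 2 := by
    rw [hu', orderOf_injective ψ hψ]
    exact Small.orderOf_eq_two_iff_sq.2 ⟨hu1, hu2⟩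
  have hwo : orderOf w = 2 := by
    rw [hw', orderOf_injective ψ hψ]
    exact Small.orderOf_eq_two_iff_sq.2 ⟨hw1, hw2⟩
  have hcuw : Commute u w := (show Commute (QuotientGroup.mk i : PST) (QuotientGroup.mk j) from huw).map ψ
  have hzL : z ∉ L := by
    intro hzL
    obtain ⟨N, hN⟩ := mem_diagPart.1 (coe_mem_diagPart (m := m) hzL)
    have h1 : AutPSL.conjSL N = AutPSL.conjSL M * AutPSL.fieldSL σ :=
      AutPSL.toPSLAut_injective p (hN.symm.trans hM)
    have h2' : AutPSL.conjSL (N⁻¹ * M) * AutPSL.fieldSL σ = 1 := by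
      rw [map_mul, mul_assoc, ← h1, ← map_mul, inv_mul_cancel, map_one]
    exact hσ (AutPSL.eq_one_of_conjSL_mul_fieldSL h2').1
  obtain ⟨V, hV, -, hV4, hVmem, -, -⟩ := exists_fourGroup huo hwo hcuw
    (fun e => hne (hψ (by rw [← hu', ← hw', e])))
  -- `V` and `z` give an elementary group of order at least eight
  have hzV : z ∉ V := fun hh' => by
    rcases hVmem z hh' with e | e | e | e
    · exact hzL (e ▸ one_mem L)
    · exact hzL (e ▸ SetLike.coe_mem _)
    · exact hzL (e ▸ SetLike.coe_mem _)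
    · exact hzL (e ▸ mul_mem (SetLike.coe_mem _) (SetLike.coe_mem _))
  have hVz : ∀ v ∈ V, Commute z v := by
    intro v hv
    rcases hVmem v hv with rfl | rfl | rfl | rfl
    exacts [Commute.one_right z, hzu, hzw, hzu.mul_right hzw]
  have hVsq : ∀ v ∈ V, v * v = 1 := by
    intro v hv
    rcases hVmem v hv with rfl | rfl | rfl | rfl
    · exact one_mul 1
    · exact Small.mul_self_of_orderOf_two huo
    · exact Small.mul_self_of_orderOf_two hwo
    · calc u * w * (u * w) = u * (w * u) * w := by group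
        _ = (u * u) * (w * w) := by rw [← hcuw.eq]; group
        _ = 1 := by rw [Small.mul_self_of_orderOf_two huo, Small.mul_self_of_orderOf_two hwo,
          one_mul]
  let E := V ⊔ zpowers z
  have hcl : ∀ x ∈ E, x * x = 1 := by
    intro x hx
    have hsup : E = closure ((V : Set Q) ∪ {z}) := by
      rw [Subgroup.closure_union, Subgroup.closure_eq, ← zpowers_eq_closure]
    have hcomm : IsMulCommutative (closure ((V : Set Q) ∪ {z})) := by
      refine Subgroup.isMulCommutative_closure ?_
      rintro a (ha | rfl) b (hb | rfl)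
      exacts [congrArg Subtype.val (hV.is_comm.comm ⟨a, ha⟩ ⟨b, hb⟩), (hVz a ha).eq.symm,
        (hVz b hb).eq, rfl]
    rw [hsup] at hx
    induction hx using Subgroup.closure_induction with
    | mem y hy => rcases hy with hy | rfl; exacts [hVsq y hy, hz2]
    | one => exact one_mul 1
    | mul a b ha hb ha2 hb2 =>
      have : b * a = a * b := congrArg Subtype.val (hcomm.is_comm.comm ⟨b, hb⟩ ⟨a, ha⟩)
      rw [mul_assoc, ← mul_assoc b, this, mul_assoc a b, hb2, mul_one, ha2]
    | inv a _ ha2 => rw [← mul_inv_rev, ha2, inv_one]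
  have hlt : V < E := lt_of_le_of_ne le_sup_left fun e =>
    hzV (e ▸ mem_sup_right (mem_zpowers z))
  have h5 : Nat.card V < Nat.card E := lt_of_le_of_ne (Nat.le_of_dvd Nat.card_pos
    (card_dvd_of_le hlt.le)) fun e => hlt.ne (Subgroup.eq_of_le_of_card_ge hlt.le e.ge)
  have := m.dih.card_le_four E hcl
  omega

end Model

end CfsgLib.GW.OS
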