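import Cfsg.Agent.GW.OSType.LinearFacts
import Cfsg.Agent.GW.OSType.OnePrime

/-!
# Gorenstein–Walter, odd-by-two type: a maximal subgroup `H` with `M ⇝ H`

`Pair z M H`.  The elements of `F(M) ∩ H` inverted by `z` centralize the layer of `H` and every
`O_s(H)` with `O_s(M) = 1`; `false_of` is the resulting criterion for `H = M`.
-/

set_option autoImplicit false
set_option linter.style.haveILetI false
set_option linter.unusedSectionVars false

open Subgroup
open CfsgLib.Signalizer CfsgLib.BenderMethod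

namespace CfsgLib.GW.OS

universe u

variable {G : Type u} [Group G] [Finite G]

/-- Elements of cores for different primes commute when each lies in the other subgroup. -/
theorem commute_of_cores {p q : ℕ} (hp : p.Prime) (hq : q.Prime) (hne : p ≠ q) {M N : Subgroup G}
    {x y : G} (hx : x ∈ Cfsg.pCoreOf p M) (hy : y ∈ Cfsg.pCoreOf q N) (hxN : x ∈ N) (hyM : y ∈ M) :
    Commute x y := by
  haveI := Fact.mk hp
  haveI := Fact.mk hq
  refine commute_elem_of_disjoint
    (IsPGroup.disjoint_of_ne _ _ hne _ _ (isPGroup_pCoreOf p M) (isPGroup_pCoreOf q N)) ?_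
    (mul_mem (conj_mem_pCoreOf hxN hy) (inv_mem hy))
  rw [show x * y * x⁻¹ * y⁻¹ = x * (y * x⁻¹ * y⁻¹) by group]
  exact mul_mem hx (conj_mem_pCoreOf hyM (inv_mem hx))

theorem isSimpleGroup_of_psl {L : Type*} [Group L] (h : IsPSLOrAltSeven L) : IsSimpleGroup L := by
  rcases h with ⟨F, iF, fF, -, hlarge, ⟨e⟩⟩ | ⟨⟨e⟩⟩
  · haveI := CfsgLib.Linear.isSimpleGroup_PSL_of (F := F) 2 le_rfl (fun _ => hlarge)
    haveI : Nontrivial L := e.toEquiv.nontrivial
    exact IsSimpleGroup.isSimpleGroup_of_surjective e.symm.toMonoidHom e.symm.surjective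
  · haveI := alternatingGroup.isSimpleGroup (α := Fin 7) (by simp)
    haveI : Nontrivial L := e.toEquiv.nontrivial
    exact IsSimpleGroup.isSimpleGroup_of_surjective e.symm.toMonoidHom e.symm.surjective

/-- The layer centralizes the odd core. -/
theorem commute_layer_oddCore {X : Type*} [Group X] [Finite X] {k o : X} (hk : k ∈ Cfsg.layer X)
    (ho : o ∈ Cfsg.oddCore X) : Commute k o := by
  have hle : Cfsg.layer X ≤ centralizer (Cfsg.oddCore X : Set X) := sSup_le fun L hL =>
    commutator_eq_bot_iff_le_centralizer.1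
      (Components.IsComponent.commutator_eq_bot_of_isSolvable hL
        (Cfsg.Agent.S0205.result (ExtremelyClosed.odd_card_oddCore' X))
        (by rw [normalizer_eq_top]; exact le_top))
  exact (mem_centralizer_iff.1 (hle hk) o ho).symm

theorem Ctx.fstar {z : G} {M : Subgroup G} (hc : Ctx z M) :
    (Cfsg.generalizedFittingSubgroup M).map M.subtype = fittingOf M := by
  rw [fstar_eq, hc.layerOf_eq_bot, bot_sup_eq]

/-- `M` is the only maximal subgroup in symmetric relation with `M`. -/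
theorem Ctx.eq_of_leadsTo {z : G} {M H : Subgroup G} (hc : Ctx z M) (hH : IsCoatom H)
    (h1 : Cfsg.leadsTo M H) (h2 : Cfsg.leadsTo H M) : M = H := by
  haveI := hc.simple
  refine (symmetric hc.coatom hH h1 h2).resolve_right ?_
  rintro ⟨p, hp, hpM, -⟩
  obtain ⟨v, hv, hvp, hne⟩ := hc.exists_second p
  haveI := Fact.mk hv
  haveI := Fact.mk hp
  have hle : Cfsg.pCoreOf v M ≤ (Cfsg.generalizedFittingSubgroup M).map M.subtype :=
    hc.fstar ▸ pCoreOf_le_fittingOf M v
  exact hne ((IsPGroup.disjoint_of_ne _ _ hvp _ _ (isPGroup_pCoreOf v M)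
    ((hpM.map _).to_le hle)).eq_bot_of_self)

/-- `M ⇝ H`. -/
structure Pair (z : G) (M H : Subgroup G) : Prop where
  ctx : Ctx z M
  coatom : IsCoatom H
  ne : H ≠ M
  mem : z ∈ H
  leads : Cfsg.leadsTo M H

/-- The criterion for a normalizer to lie in `M`. -/
theorem Ctx.normalizer_le_of {z : G} {M Q : Subgroup G} (hc : Ctx z M) (hQ : Q ≠ ⊥)
    (hQF : Q ≤ fittingOf M) (hzQ : z ∈ normalizer (Q : Set G))
    (h : ∀ H, Pair z M H → normalizer (Q : Set G) ≤ H → False) : normalizer (Q : Set G) ≤ M := by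
  haveI := hc.simple
  rcases eq_top_or_exists_le_coatom (normalizer (Q : Set G)) with htop | ⟨H, hH, hle⟩
  · haveI : Q.Normal := normalizer_eq_top_iff.1 htop
    rcases (inferInstance : Q.Normal).eq_bot_or_eq_top with h' | h'
    · exact absurd h' hQ
    · exact absurd (top_unique (h' ▸ hQF.trans (map_subtype_le _))) hc.coatom.1
  by_contra hne
  refine h H ⟨hc, hH, fun e => hne (e ▸ hle), hle hzQ, Q, hQ, hQF, ?_⟩ hle
  exact inf_le_right.trans hle

namespace Pair

variable {z : G} {M H : Subgroup G} (hp : Pair z M H)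
include hp

/-- `O_u(H) ≤ M` for the primes of `F(M)`. -/
theorem core_le {u : ℕ} (hu : u.Prime) (h : Cfsg.pCoreOf u M ≠ ⊥) : Cfsg.pCoreOf u H ≤ M := by
  haveI := hp.ctx.simple
  haveI := Fact.mk hu
  obtain ⟨v, hv, hvu, hvne⟩ := hp.ctx.exists_second u
  haveI := Fact.mk hv
  exact pCoreOf_le_of_two hp.ctx.coatom hp.leads hvu.symm h hvne

theorem eq_one_of_mem {s : ℕ} (hs : s.Prime) (h : Cfsg.pCoreOf s M = ⊥) {y : G}
    (hy : y ∈ Cfsg.pCoreOf s H) (hyM : y ∈ M) : y = 1 := by
  haveI := hp.ctx.simple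
  haveI := Fact.mk hs
  exact mem_bot.1 ((pCoreOf_inf_eq_bot hp.leads h).le ⟨hy, hyM⟩)

/-- `z` inverts `O_s(H)` for the other primes. -/
theorem inverts_core {s : ℕ} (hs : s.Prime) (h : Cfsg.pCoreOf s M = ⊥) :
    ∀ y ∈ Cfsg.pCoreOf s H, Inverts z y :=
  inverts_of_fixedPointFree hp.ctx.z_sq (mem_normalizer_pCoreOf hp.mem) fun _ hy hzy =>
    hp.eq_one_of_mem hs h hy (hp.ctx.mem_of_commute hzy)

theorem commute_core {s : ℕ} (hs : s.Prime) (h : Cfsg.pCoreOf s M = ⊥) {d : G} (hd : d ∈ H)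
    (hi : Inverts z d) (ho : Odd (orderOf d)) : ∀ y ∈ Cfsg.pCoreOf s H, Commute d y :=
  commute_of_scalar hi ho (mem_normalizer_pCoreOf hd) (Or.inl (hp.inverts_core hs h))

/-- `O₂(H) = 1`. -/
theorem core_two : Cfsg.pCoreOf 2 H = ⊥ := by
  haveI : Fact (Nat.Prime 2) := ⟨Nat.prime_two⟩
  by_contra hne
  obtain ⟨x, hx, hx1, hxz⟩ := exists_fixed_ne_one (isPGroup_pCoreOf 2 H)
    (IsPGroup.of_card (n := 1) (by rw [Nat.card_zpowers, hp.ctx.inv, pow_one]) :
      IsPGroup 2 (zpowers z)) (zpowers_le.2 (mem_normalizer_pCoreOf hp.mem)) hne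
  exact hx1 (hp.eq_one_of_mem Nat.prime_two hp.ctx.pCoreOf_two hx
    (hp.ctx.mem_of_commute (hxz z (mem_zpowers z))))

theorem prime_ne_two {s : ℕ} (h : Cfsg.pCoreOf s H ≠ ⊥) : s ≠ 2 := by
  rintro rfl
  exact h hp.core_two

/-- The Fitting subgroup of `H` is not in `M` unless `H` has components. -/
theorem false_of_fitting (hlayer : Cfsg.layer H = ⊥)
    (h : ∀ s : ℕ, s.Prime → Cfsg.pCoreOf s H ≤ M) : False := by
  have hF : fittingOf H ≤ M := by
    rw [fittingOf_eq_iSup]
    exact iSup_le fun s => h s s.2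
  have hne : fittingOf H ≠ ⊥ := by
    intro hbot
    have hz : z ∈ fittingOf H := mem_fittingOf_of_commute hlayer hp.mem fun r y hy => by
      haveI := Fact.mk r.2
      have := pCoreOf_le_fittingOf H (r : ℕ) hy
      rw [hbot, mem_bot] at this
      exact this ▸ Commute.one_left z
    rw [hbot, mem_bot] at hz
    exact Small.ne_one_of_orderOf_two hp.ctx.inv hz
  refine hp.ne (hp.ctx.eq_of_leadsTo hp.coatom hp.leads ⟨fittingOf H, hne, le_rfl, ?_⟩).symm
  refine inf_le_left.trans ?_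
  rw [fstar_eq, layerOf', hlayer, Subgroup.map_bot, bot_sup_eq]
  exact hF

theorem dihType_top : DihType (H ⧸ Cfsg.oddCore H) :=
  (hp.ctx.min.dihType.subgroup H).quotient _ (PLocal.coprime_card_pPrimeCore 2 H)

/-- The linear top of `H`. -/
theorem exists_top (hlayer : Cfsg.layer H ≠ ⊥) :
    ∃ L : Subgroup (H ⧸ Cfsg.oddCore H), L.Normal ∧ IsPSLOrAltSeven L ∧
      centralizer (L : Set (H ⧸ Cfsg.oddCore H)) = ⊥ ∧
      L ≤ (Cfsg.layer H).map (QuotientGroup.mk' (Cfsg.oddCore H)) := by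
  haveI : Group.IsSolvable (Cfsg.oddCore H) :=
    Cfsg.Agent.S0205.result (ExtremelyClosed.odd_card_oddCore' H)
  have hns : ¬ Group.IsSolvable H := fun hs => hlayer (eq_bot_iff.2 (sSup_le fun K hK =>
    absurd (Components.isSolvable_mono (H := K) (K := ⊤) (by haveI := hs; infer_instance) le_top)
      (Components.IsComponent.not_isSolvable hK)))
  have hnsQ : ¬ Group.IsSolvable (H ⧸ Cfsg.oddCore H) := fun hs => hns
    (Group.isSolvable_of_ker_le_range (Cfsg.oddCore H).subtype
      (QuotientGroup.mk' (Cfsg.oddCore H)) (by simp))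
  haveI : Group.IsSolvable (Equiv.Perm (Fin 4)) := isSolvable_perm_four
  have hk : Known ↥H := hp.ctx.min.known H hp.coatom.1
  rcases hk with h2 | ⟨⟨e⟩⟩ | ⟨⟨e⟩⟩ | ⟨L, hLn, hL, hLc⟩
  · haveI : Fact (Nat.Prime 2) := ⟨Nat.prime_two⟩
    haveI := h2.isNilpotent
    exact (hnsQ inferInstance).elim
  · exact absurd (Group.isSolvable_of_isSolvable_injective
      (f := (alternatingGroup (Fin 4)).subtype.comp e.toMonoidHom)
      ((alternatingGroup (Fin 4)).subtype_injective.comp e.injective)) hnsQ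
  · exact absurd (Group.isSolvable_of_isSolvable_injective (f := e.toMonoidHom) e.injective) hnsQ
  refine ⟨L, hLn, hL, hLc, ?_⟩
  haveI := isSimpleGroup_of_psl hL
  haveI := hLn
  set π := QuotientGroup.mk' (Cfsg.oddCore H)
  haveI : (Cfsg.layer H).Normal := Components.layer_normal
  haveI hKn : ((Cfsg.layer H).map π).Normal :=
    (inferInstance : (Cfsg.layer H).Normal).map π (QuotientGroup.mk'_surjective _)
  have hKne : (Cfsg.layer H).map π ≠ ⊥ := by
    rw [Ne, Subgroup.map_eq_bot_iff, QuotientGroup.ker_mk']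
    intro hle
    exact hlayer (eq_bot_iff.2 (sSup_le fun K hK => absurd
      (Components.isSolvable_mono (H := K) inferInstance
        ((Components.IsComponent.le_layer hK).trans hle))
      (Components.IsComponent.not_isSolvable hK)))
  rcases IsSimpleGroup.eq_bot_or_eq_top_of_normal (((Cfsg.layer H).map π).subgroupOf L)
    inferInstance with h' | h'
  · exfalso
    refine hKne (le_bot_iff.1 (hLc ▸ fun k hk => mem_centralizer_iff.2 fun l hl => ?_))
    exact (Subgroup.commute_of_normal_of_disjoint _ _ hLn hKn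
      (disjoint_comm.1 (subgroupOf_eq_bot.1 h')) l k hl hk).eq
  · exact subgroupOf_eq_top.1 h'

theorem orderOf_top {v : G} (hv : orderOf v = 2) (hvH : v ∈ H) :
    orderOf (QuotientGroup.mk' (Cfsg.oddCore H) ⟨v, hvH⟩) = 2 := by
  have h1 : orderOf (QuotientGroup.mk' (Cfsg.oddCore H) ⟨v, hvH⟩) ∣ 2 := by
    exact (orderOf_map_dvd (QuotientGroup.mk' (Cfsg.oddCore H)) ⟨v, hvH⟩).trans
      (dvd_of_eq (by rw [orderOf_mk, hv]))
  refine ((Nat.dvd_prime Nat.prime_two).1 h1).resolve_left fun h => ?_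
  have := odd_orderOf_of_mem (ExtremelyClosed.odd_card_oddCore' H)
    ((QuotientGroup.eq_one_iff _).1 (orderOf_eq_one_iff.1 h))
  rw [orderOf_mk, hv] at this
  exact absurd this (by decide)

/-- An element of `F(M) ∩ H` inverted by `z` lies in `O(H)` if `H` has components. -/
theorem mem_oddCore (hlayer : Cfsg.layer H ≠ ⊥) {d : G} (hdF : d ∈ fittingOf M) (hdH : d ∈ H)
    (hi : Inverts z d) : (⟨d, hdH⟩ : H) ∈ Cfsg.oddCore H := by
  obtain ⟨L, hLn, hL, hLc, -⟩ := hp.exists_top hlayer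
  haveI := hLn
  set π := QuotientGroup.mk' (Cfsg.oddCore H)
  set W := (fittingOf M ⊓ H).subgroupOf H
  have hnil : Group.IsNilpotent (fittingOf M) := by
    haveI := Solvable.fittingSubgroup_isNilpotent (G := M)
    exact (Group.isNilpotent_congr ((Cfsg.fittingSubgroup M).equivMapOfInjective M.subtype
      M.subtype_injective)).1 inferInstance
  have hWn : Group.IsNilpotent W := by
    haveI := hnil
    haveI : Group.IsNilpotent ((fittingOf M ⊓ H).subgroupOf (fittingOf M)) := inferInstance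
    exact (Group.isNilpotent_congr
      ((subgroupOfEquivOfLe (inf_le_left : fittingOf M ⊓ H ≤ fittingOf M)).trans
        (subgroupOfEquivOfLe (inf_le_right : fittingOf M ⊓ H ≤ H)).symm)).1 inferInstance
  have hXn : Group.IsNilpotent (W.map π) :=
    Group.nilpotent_of_surjective (h := hWn) (π.subgroupMap W) (π.subgroupMap_surjective W)
  have hWdvd : Nat.card W ∣ Nat.card (fittingOf M) :=
    (dvd_of_eq (Nat.card_congr
      (subgroupOfEquivOfLe (inf_le_right : fittingOf M ⊓ H ≤ H)).toEquiv)).trans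
      (card_dvd_of_le (inf_le_left : fittingOf M ⊓ H ≤ fittingOf M))
  have hXo : Odd (Nat.card (W.map π)) :=
    hp.ctx.odd_fitting.of_dvd_nat ((Subgroup.card_map_dvd W π).trans hWdvd)
  have hnorm : ∀ h : H, (h : G) ∈ M → π h ∈ normalizer (W.map π : Set (H ⧸ Cfsg.oddCore H)) := by
    intro h hh
    refine le_normalizer_map π ⟨h, mem_normalizer_iff.2 fun x => ?_, rfl⟩
    have hn : ∀ m ∈ M, ∀ y ∈ fittingOf M, m * y * m⁻¹ ∈ fittingOf M := by
      rintro m hm _ ⟨y, hy, rfl⟩
      exact ⟨⟨m, hm⟩ * y * ⟨m, hm⟩⁻¹, Solvable.fittingSubgroup_normal.conj_mem y hy _, rfl⟩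
    have h1 : (x : G) ∈ fittingOf M ↔ (h : G) * x * (h : G)⁻¹ ∈ fittingOf M :=
      ⟨hn _ hh _, fun hx => by simpa [mul_assoc] using hn _ (inv_mem hh) _ hx⟩
    simp only [W, mem_subgroupOf, mem_inf, coe_mul, coe_inv, h1]
    exact and_congr_right fun _ =>
      ⟨fun hx => mul_mem (mul_mem h.2 hx) (inv_mem h.2), fun _ => x.2⟩
  have hzi : Inverts (π ⟨z, hp.mem⟩) (π ⟨d, hdH⟩) :=
    (show Inverts (⟨z, hp.mem⟩ : H) ⟨d, hdH⟩ from Subtype.ext hi).map π
  have hdX : π ⟨d, hdH⟩ ∈ W.map π := mem_map_of_mem π (mem_subgroupOf.2 ⟨hdF, hdH⟩)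
  have hzo : orderOf (π ⟨z, hp.mem⟩) = 2 := hp.orderOf_top hp.ctx.inv hp.mem
  have hzn := hnorm ⟨z, hp.mem⟩ hp.ctx.mem_z
  suffices hC : ∀ g ∈ L, Commute (π ⟨z, hp.mem⟩) g →
      g ∈ normalizer (W.map π : Set (H ⧸ Cfsg.oddCore H)) by
    have h1 : π ⟨d, hdH⟩ = 1 :=
      eq_one_of_normalized_top hp.dihType_top hLc hL hzo hXn hXo hzn hC hdX hzi
    exact (QuotientGroup.eq_one_iff _).1 h1
  intro g _ hzg
  obtain ⟨h, rfl⟩ := QuotientGroup.mk'_surjective (Cfsg.oddCore H) g
  set zH : H := ⟨z, hp.mem⟩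
  have hmem : h⁻¹ * zH * h * zH⁻¹ ∈ Cfsg.oddCore H := by
    refine (QuotientGroup.eq_one_iff _).1 ?_
    show π (h⁻¹ * zH * h * zH⁻¹) = 1
    have e : π zH * π h = π h * π zH := hzg.eq
    rw [map_mul, map_mul, map_mul, map_inv, map_inv, mul_assoc (π h)⁻¹, e, inv_mul_cancel_left,
      mul_inv_cancel]
  obtain ⟨r, hr, hc⟩ := exists_fixed_mul (z := zH) (n := h) (Subtype.ext hp.ctx.z_sq)
    (odd_orderOf_of_mem (ExtremelyClosed.odd_card_oddCore' H) hmem)
  have h2 := hnorm (h * r) (hp.ctx.mem_of_commute (hc.map H.subtype))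
  have hr1 : π r = 1 := (QuotientGroup.eq_one_iff _).2 (zpowers_le.2 hmem hr)
  rwa [map_mul, hr1, mul_one] at h2

theorem commute_layer {d : G} (hdF : d ∈ fittingOf M) (hdH : d ∈ H) (hi : Inverts z d) :
    ∀ k ∈ layerOf' H, Commute d k := by
  rintro _ ⟨k, hk, rfl⟩
  by_cases hlayer : Cfsg.layer H = ⊥
  · rw [hlayer] at hk
    rw [show k = 1 from mem_bot.1 hk, map_one]
    exact Commute.one_right d
  · exact ((commute_layer_oddCore hk (hp.mem_oddCore hlayer hdF hdH hi)).map H.subtype).symm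

theorem layer_eq_bot_of_le (h : layerOf' H ≤ M) : Cfsg.layer H = ⊥ := by
  haveI := hp.ctx.isSolvable
  have hs : Group.IsSolvable (layerOf' H) :=
    Group.isSolvable_of_isSolvable_injective (f := Subgroup.inclusion h)
      (Subgroup.inclusion_injective h)
  refine eq_bot_iff.2 (sSup_le fun K hK => absurd (Components.isSolvable_mono (H := K) ?_
    (Components.IsComponent.le_layer hK)) (Components.IsComponent.not_isSolvable hK))
  exact Group.isSolvable_of_isSolvable_injective
    (f := ((Cfsg.layer H).equivMapOfInjective H.subtype H.subtype_injective).toMonoidHom)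
    (MulEquiv.injective _)

/-- The criterion: what centralizes the inverted elements of `F(M) ∩ H` lies in `M`. -/
theorem false_of
    (h : ∀ y ∈ H, (∀ d ∈ fittingOf M, d ∈ H → Inverts z d → Commute d y) → y ∈ M) : False := by
  refine hp.false_of_fitting (hp.layer_eq_bot_of_le fun k hk =>
    h k (map_subtype_le _ hk) fun d hdF hdH hi => hp.commute_layer hdF hdH hi k hk) fun s hs => ?_
  by_cases hsM : Cfsg.pCoreOf s M = ⊥
  · exact fun y hy => h y (LocalStructure.pCoreOf_le H hy) fun d hdF hdH hi =>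
      hp.commute_core hs hsM hdH hi (odd_orderOf_of_mem hp.ctx.odd_fitting hdF) y hy
  · exact hp.core_le hs hsM

end Pair

end CfsgLib.GW.OS
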