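import Cfsg.Agent.GW.OSType.LinearModel

/-!
# Gorenstein–Walter, odd-by-two type: tori and involutions in the matrix model
-/

set_option autoImplicit false
set_option linter.style.haveILetI false
set_option linter.unusedSectionVars false

open Subgroup
open scoped MatrixGroups

namespace CfsgLib.GW.OS

section Mat

variable {F : Type} [Field F]

local notation "M₂" => Matrix (Fin 2) (Fin 2) F

/-- Not a scalar matrix. -/
def NonSc (A : M₂) : Prop := ∀ c : F, A ≠ c • 1

theorem NonSc.entries {A : M₂} (hA : NonSc A) : A 0 1 ≠ 0 ∨ A 1 0 ≠ 0 ∨ A 0 0 ≠ A 1 1 := by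
  by_contra h
  push Not at h
  obtain ⟨h1, h2, h3⟩ := h
  refine hA (A 0 0) ?_
  ext i j
  fin_cases i <;> fin_cases j <;> simp [h1, h2, h3]

theorem NonSc.exists_coord {A Y : M₂} (hA : NonSc A) (h : A * Y = Y * A) :
    ∃ a b : F, Y = a • 1 + b • A := Linear.exists_coord hA.entries h

theorem NonSc.coord_eq_zero {A : M₂} (hA : NonSc A) {a b : F} (h : a • (1 : M₂) + b • A = 0) :
    a = 0 ∧ b = 0 := by
  by_cases hb : b = 0
  · rw [hb, zero_smul, add_zero] at h
    exact ⟨by simpa using congrFun (congrFun h 0) 0, hb⟩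
  · refine absurd ?_ (hA (-a / b))
    have h' : A = b⁻¹ • (b • A) := by rw [smul_smul, inv_mul_cancel₀ hb, one_smul]
    rw [h', eq_neg_of_add_eq_zero_right h, smul_neg, smul_smul, ← neg_smul]
    congr 1
    field_simp

theorem sq_eq_trace_smul (A : M₂) : A * A = A.trace • A - A.det • 1 := by
  rw [Matrix.trace_fin_two, Matrix.det_fin_two]
  ext i j
  fin_cases i <;> fin_cases j <;> simp [Matrix.mul_apply, Fin.sum_univ_two] <;> ring

theorem sq_of_trace_zero {A : M₂} (h : A.trace = 0) : A * A = (-A.det) • 1 := by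
  rw [sq_eq_trace_smul, h, zero_smul, zero_sub, neg_smul]

theorem NonSc.trace_zero {A : M₂} (hA : NonSc A) {a : F} (h : A * A = a • 1) : A.trace = 0 := by
  rw [sq_eq_trace_smul] at h
  exact (hA.coord_eq_zero (a := -A.det - a) (b := A.trace)
    (by rw [sub_smul, neg_smul, ← h]; abel)).2

theorem NonSc.det_eq {A : M₂} (hA : NonSc A) {a : F} (h : A * A = a • 1) : A.det = -a := by
  have h' := sq_of_trace_zero (hA.trace_zero h)
  rw [h] at h'
  have := congrFun (congrFun h' 0) 0
  simp at this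
  rw [this, neg_neg]

variable [Fintype F]

theorem pow_card_coord {A : M₂} {α : F} (hA : A * A = α • 1) (hF : Odd (Fintype.card F)) (a b : F) :
    (a • (1 : M₂) + b • A) ^ Fintype.card F =
      a • 1 + (b * α ^ (Fintype.card F / 2)) • A := by
  obtain ⟨p, hp⟩ := CharP.exists F
  haveI : Fact p.Prime := ⟨CharP.char_is_prime F p⟩
  obtain ⟨n, -, hn⟩ := FiniteField.card F p
  have hcomm : Commute (a • (1 : M₂)) (b • A) := ((Commute.one_left A).smul_left a).smul_right b
  have hAq : A ^ Fintype.card F = α ^ (Fintype.card F / 2) • A := by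
    obtain ⟨k, hk⟩ := hF
    rw [hk, show (2 * k + 1) / 2 = k by omega, pow_succ, pow_mul, pow_two, hA, smul_pow, one_pow,
      smul_mul_assoc, one_mul]
  conv_lhs => rw [hn]
  rw [add_pow_char_pow_of_commute (p := p) (n := (n : ℕ)) hcomm, ← hn, smul_pow, one_pow, smul_pow, hAq,
    FiniteField.pow_card, FiniteField.pow_card, smul_smul]

end Mat

namespace Model

variable {Q : Type*} [Group Q] [Finite Q] {L : Subgroup Q} [L.Normal] {F : Type} [Field F] [Fintype F]
variable {m : Model L F}

local notation "GLT" => GL (Fin 2) F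
local notation "M₂" => Matrix (Fin 2) (Fin 2) F

theorem two_ne_zero (m : Model L F) : (2 : F) ≠ 0 := Linear.two_ne_zero_of_odd m.odd

theorem smul_one_mul_units (u : Fˣ) (M : GLT) :
    ((Matrix.GeneralLinearGroup.scalar (Fin 2) u * M : GLT) : M₂) = (u : F) • M.1 := by
  simp [Matrix.smul_eq_diagonal_mul]

theorem Rep.eq_one_of_scalar {g : Q} {M : GLT} (h : m.Rep g M) {c : F} (hc : M.1 = c • 1) :
    g = 1 := by
  have hc0 : c ≠ 0 := fun e => M.det.ne_zero (by
    rw [Matrix.GeneralLinearGroup.val_det_apply, hc, e, zero_smul, Matrix.det_zero])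
  have : M = Matrix.GeneralLinearGroup.scalar (Fin 2) (Units.mk0 c hc0) := by
    apply Units.ext
    rw [hc]
    simp [Matrix.smul_one_eq_diagonal]
  exact eq_one_of_rep_scalar (this ▸ h)

theorem Rep.nonSc {g : Q} {M : GLT} (h : m.Rep g M) (hg : g ≠ 1) : NonSc M.1 :=
  fun _ hc => hg (h.eq_one_of_scalar hc)

theorem exists_rep_involution {z : Q} (hz : orderOf z = 2) :
    ∃ (A : GLT) (α : F), m.Rep z A ∧ A.1 * A.1 = α • 1 ∧ α ≠ 0 ∧ NonSc A.1 := by
  obtain ⟨A, hA⟩ := mem_diagPart.1 (involution_mem (m := m) hz)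
  have h2 : m.Rep 1 (A * A) := by
    have := hA.mul hA
    rwa [Small.mul_self_of_orderOf_two hz] at this
  obtain ⟨u, hu⟩ := Rep.unique h2 rep_one
  refine ⟨A, u, hA, ?_, u.ne_zero, hA.nonSc (Small.ne_one_of_orderOf_two hz)⟩
  have := congrArg Units.val hu
  rw [Units.val_mul, smul_one_mul_units] at this
  exact this

theorem involution_mem_iff {z : Q} {A : GLT} {α : F} (h : m.Rep z A) (hA : A.1 * A.1 = α • 1)
    (hn : NonSc A.1) : z ∈ L ↔ IsSquare (-α) := by
  rw [← hn.det_eq hA]
  exact ⟨fun hz => det_of_mem hz h, mem_of_det h⟩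

theorem rep_commute {g h : Q} {M N : GLT} (hg : m.Rep g M) (hh : m.Rep h N) (hc : Commute g h) :
    ∃ l : F, (l = 1 ∨ l = -1) ∧ M.1 * N.1 = l • (N.1 * M.1) := by
  obtain ⟨u, hu⟩ := Rep.unique (hc.eq ▸ hg.mul hh : m.Rep (h * g) (M * N)) (hh.mul hg)
  have h1 : M.1 * N.1 = (u : F) • (N.1 * M.1) := by
    have := congrArg Units.val hu
    rw [Units.val_mul, smul_one_mul_units] at this
    exact this
  refine ⟨u, ?_, h1⟩
  have h2 := congrArg Matrix.det h1
  rw [Matrix.det_smul, Matrix.det_mul, Matrix.det_mul, Fintype.card_fin, mul_comm N.1.det] at h2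
  have h0 : M.1.det * N.1.det ≠ 0 :=
    mul_ne_zero (fun e => M.det.ne_zero e) fun e => N.det.ne_zero e
  have h3 : ((u : F)) ^ 2 = 1 := mul_right_cancel₀ h0 (by rw [one_mul]; exact h2.symm)
  exact sq_eq_one_iff.1 h3

theorem rep_commute_odd {g h : Q} {M N : GLT} (hg : m.Rep g M) (hh : m.Rep h N) (hc : Commute g h)
    (ho : Odd (orderOf h)) : M.1 * N.1 = N.1 * M.1 := by
  obtain ⟨l, hl, h1⟩ := rep_commute hg hh hc
  have hpow : ∀ k : ℕ, M.1 * N.1 ^ k = l ^ k • (N.1 ^ k * M.1) := by
    intro k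
    induction k with
    | zero => simp
    | succ k ih =>
      rw [pow_succ N.1, ← mul_assoc, ih, smul_mul_assoc, mul_assoc, h1, mul_smul_comm, smul_smul,
        ← mul_assoc, pow_succ]
  obtain ⟨u, hu⟩ := Rep.unique (pow_orderOf_eq_one h ▸ hh.pow (orderOf h) : m.Rep 1 (N ^ orderOf h))
    rep_one
  have hu' : N.1 ^ orderOf h = (u : F) • 1 := by
    have := congrArg Units.val hu
    rwa [Units.val_pow_eq_pow_val, smul_one_mul_units] at this
  have h2 := hpow (orderOf h)
  rw [hu', mul_smul_comm, smul_mul_assoc, mul_one, one_mul, smul_smul] at h2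
  rcases hl with rfl | rfl
  · rwa [one_smul] at h1
  · exfalso
    rw [Odd.neg_one_pow ho, neg_one_mul, ← sub_eq_zero, ← sub_smul, sub_neg_eq_add,
      smul_eq_zero] at h2
    rcases h2 with h2 | h2
    · exact mul_ne_zero m.two_ne_zero u.ne_zero (by linear_combination h2)
    · exact M.ne_zero h2

/-- An odd element commuting with an involution lies in its torus. -/
theorem coord_of_commute {z x : Q} {A X : GLT} (hz : m.Rep z A) (hn : NonSc A.1) (hx : m.Rep x X)
    (hc : Commute z x) (ho : Odd (orderOf x)) : ∃ a b : F, X.1 = a • 1 + b • A.1 :=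
  hn.exists_coord (rep_commute_odd hz hx hc ho)

theorem anticomm {z b : Q} {A B : GLT} {β : F} (hz : m.Rep z A) (hb : m.Rep b B) (hnA : NonSc A.1)
    (hzA : A.1.trace = 0) (hB : B.1 * B.1 = β • 1) (hnB : NonSc B.1) (hc : Commute z b)
    (hne : b ≠ z) : A.1 * B.1 = -(B.1 * A.1) := by
  obtain ⟨l, hl | hl, h⟩ := rep_commute hz hb hc <;> subst hl
  · exfalso
    rw [one_smul] at h
    obtain ⟨a, c, hac⟩ := hnA.exists_coord h
    have ht := hnB.trace_zero hB
    rw [hac, Matrix.trace_add, Matrix.trace_smul, Matrix.trace_smul, hzA, smul_zero, add_zero,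
      Matrix.trace_one, smul_eq_mul, Fintype.card_fin] at ht
    have ha : a = 0 := (mul_eq_zero.1 ht).resolve_right (by exact_mod_cast m.two_ne_zero)
    rw [ha, zero_smul, zero_add] at hac
    have hc0 : c ≠ 0 := fun e => hnB 0 (by rw [hac, e, zero_smul, zero_smul])
    apply hne
    refine m.act_injective ?_
    have : B = Matrix.GeneralLinearGroup.scalar (Fin 2) (Units.mk0 c hc0) * A :=
      Units.ext (by rw [smul_one_mul_units]; exact hac)
    rw [hb, this]
    exact (rep_scalar_mul _ hz).symm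
  · rwa [neg_one_smul] at h

/-- The centralizer of a four-group in `diagPart` has no odd elements. -/
theorem eq_one_of_commute_both {z b y : Q} (hz : orderOf z = 2) (hb : orderOf b = 2)
    (hc : Commute z b) (hne : b ≠ z) (hy : y ∈ m.diagPart) (hyz : Commute z y) (hyb : Commute b y)
    (ho : Odd (orderOf y)) : y = 1 := by
  obtain ⟨A, α, hA, hA2, hα, hnA⟩ := exists_rep_involution (m := m) hz
  obtain ⟨B, β, hB, hB2, -, hnB⟩ := exists_rep_involution (m := m) hb
  obtain ⟨Y, hY⟩ := mem_diagPart.1 hy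
  obtain ⟨a, c, hac⟩ := coord_of_commute hA hnA hY hyz ho
  have h := rep_commute_odd hB hY hyb ho
  have hanti := anticomm hA hB hnA (hnA.trace_zero hA2) hB2 hnB hc hne
  rw [hac, mul_add, add_mul, mul_smul_comm, mul_smul_comm, smul_mul_assoc, smul_mul_assoc, mul_one,
    one_mul, hanti, smul_neg, add_right_inj, eq_neg_iff_add_eq_zero, ← add_smul, smul_eq_zero] at h
  rcases h with h | h
  · refine hY.eq_one_of_scalar (c := a) ?_
    have : c = 0 := (mul_eq_zero.1 (show (2 : F) * c = 0 by linear_combination h)).resolve_left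
      m.two_ne_zero
    rw [hac, this, zero_smul, add_zero]
  · exact absurd h ((B * A : GLT).ne_zero)

/-- Orders in a torus. -/
theorem pow_eq_one_of_coord {x : Q} {X : GLT} {A : M₂} {α a b : F} (hx : m.Rep x X)
    (hA : A * A = α • 1) (hX : X.1 = a • 1 + b • A) :
    (α ^ (Fintype.card F / 2) = 1 → x ^ (Fintype.card F - 1) = 1) ∧
      (α ^ (Fintype.card F / 2) = -1 → x ^ (Fintype.card F + 1) = 1) := by
  have hpos : 0 < Fintype.card F := Fintype.card_pos
  have hq := hx.pow (Fintype.card F)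
  have hval : (X ^ Fintype.card F).1 = a • 1 + (b * α ^ (Fintype.card F / 2)) • A := by
    rw [Units.val_pow_eq_pow_val, hX, pow_card_coord hA m.odd]
  constructor
  · intro h1
    rw [h1, mul_one, ← hX] at hval
    have e : x ^ Fintype.card F = x := m.act_injective (by
      rw [hq, Units.ext hval]; exact hx.symm)
    conv_lhs at e => rw [← Nat.sub_add_cancel hpos, pow_succ]
    exact mul_eq_right.1 e
  · intro h1
    rw [h1, mul_neg_one, neg_smul] at hval
    refine (hq.mul hx |> fun h => (?_ : x ^ (Fintype.card F + 1) = 1))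
    rw [pow_succ]
    refine h.eq_one_of_scalar (c := a * a - b * b * α) ?_
    rw [Units.val_mul, hval, hX]
    simp only [add_mul, mul_add, neg_mul, smul_mul_assoc, mul_smul_comm, one_mul, mul_one, hA,
      smul_smul, sub_smul]
    module

end Model

end CfsgLib.GW.OS
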