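import Cfsg.Agent.AutPSL.FieldAut
import Cfsg.Agent.GW.OuterTorus
import Mathlib.LinearAlgebra.Matrix.GeneralLinearGroup.Card
import Mathlib.NumberTheory.Multiplicity

/-!
# Gorenstein–Walter: field automorphisms and the torus of an involution

An element of odd prime power order commuting with an involution `z` and with the elements of
coprime odd order of `C_L(z)` is inner: a field automorphism would fix the projective invariant
`tr²/det` of a torus element whose order does not divide `|GL₂|` of the fixed field.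
-/

set_option autoImplicit false
set_option linter.style.haveILetI false
set_option linter.unusedSectionVars false

open Subgroup
open scoped MatrixGroups

namespace CfsgLib.GW.OS

/-- A primitive divisor of `x ^ q - 1` for `x = ± q₀`. -/
theorem exists_prime_geom {q₀ q : ℕ} (h3 : 3 ≤ q₀) (ho : Odd q₀) (hq : q.Prime) (hq2 : q ≠ 2)
    {x : ℤ} (hx : x = q₀ ∨ x = -q₀) :
    ∃ l : ℕ, l.Prime ∧ l ≠ 2 ∧ l ≠ q ∧ (l : ℤ) ∣ x ^ q - 1 ∧
      ¬ l ∣ q₀ ∧ ¬ l ∣ q₀ - 1 ∧ ¬ l ∣ q₀ + 1 := by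
  have hqo : Odd q := hq.odd_of_ne_two hq2
  set S : ℤ := ∑ i ∈ Finset.range q, x ^ i with hS
  have hgs : S * (x - 1) = x ^ q - 1 := geom_sum_mul x q
  -- the sum is larger than `q`
  have hbig : q < S.natAbs := by
    by_contra hle
    push Not at hle
    have h1 : (x ^ q - 1).natAbs ≤ q * (q₀ + 1) := by
      rw [← hgs, Int.natAbs_mul]
      exact Nat.mul_le_mul hle (by rcases hx with rfl | rfl <;> omega)
    have h2 : q₀ ^ q ≤ (x ^ q - 1).natAbs + 1 := by
      have hxq : (x ^ q).natAbs = q₀ ^ q := by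
        rw [Int.natAbs_pow]
        rcases hx with rfl | rfl <;> simp
      omega
    have h4 : ∀ k : ℕ, 3 * (k + 3) ≤ 3 ^ (k + 2) := by
      intro k
      induction k with
      | zero => norm_num
      | succ k ih => rw [pow_succ]; omega
    obtain ⟨k, rfl⟩ : ∃ k, q = k + 3 := ⟨q - 3, by have := hq.two_le; omega⟩
    have h5 : 3 * (k + 3) * q₀ ≤ q₀ ^ (k + 3) := by
      rw [pow_succ q₀ (k + 2)]
      exact Nat.mul_le_mul ((h4 k).trans (Nat.pow_le_pow_left h3 _)) le_rfl
    have h6 : 3 * (k + 3) ≤ (k + 3) * q₀ := by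
      rw [mul_comm]; exact Nat.mul_le_mul le_rfl h3
    nlinarith
  have hodd : ¬ 2 ∣ S.natAbs := by
    intro h
    have h0 : ((S : ℤ) : ZMod 2) = 0 := (ZMod.intCast_zmod_eq_zero_iff_dvd S 2).2
      (by exact_mod_cast Int.natCast_dvd.2 h)
    have hx2 : ((x : ℤ) : ZMod 2) = 1 := by
      obtain ⟨j, rfl⟩ := ho
      rcases hx with rfl | rfl <;> push_cast <;>
        · simp [show (2 : ZMod 2) = 0 from rfl]
    rw [hS, Int.cast_sum] at h0
    simp only [Int.cast_pow, hx2, one_pow, Finset.sum_const, Finset.card_range, nsmul_one] at h0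
    exact absurd ((ZMod.natCast_eq_zero_iff q 2).1 h0) (fun hd => hqo.not_two_dvd_nat hd)
  -- some prime divisor is not `q`
  obtain ⟨l, hl, hld, hlq⟩ : ∃ l : ℕ, l.Prime ∧ l ∣ S.natAbs ∧ l ≠ q := by
    by_contra hno
    push Not at hno
    have hpow : S.natAbs = q ^ S.natAbs.primeFactorsList.length :=
      Nat.eq_prime_pow_of_unique_prime_dvd (by omega) fun hd hdd => hno _ hd hdd
    set k := S.natAbs.primeFactorsList.length
    have hk : 2 ≤ k := by
      by_contra hk
      have : q ^ k ≤ q ^ 1 := Nat.pow_le_pow_right hq.pos (by omega)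
      rw [← hpow, pow_one] at this
      omega
    have hdiv : (q : ℤ) ^ 2 ∣ S := by
      have : q ^ 2 ∣ S.natAbs := hpow ▸ pow_dvd_pow q hk
      have h' := Int.natCast_dvd.2 this
      push_cast at h'
      exact h'
    haveI := Fact.mk hq
    obtain ⟨b, hb⟩ : (q : ℤ) ∣ x - 1 := by
      refine (ZMod.intCast_zmod_eq_zero_iff_dvd _ q).1 ?_
      have h0 : ((S : ℤ) : ZMod q) = 0 :=
        (ZMod.intCast_zmod_eq_zero_iff_dvd S q).2 ((dvd_pow_self _ two_ne_zero).trans hdiv)
      have h1 := congrArg (Int.cast : ℤ → ZMod q) hgs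
      push_cast at h1 ⊢
      rw [h0, zero_mul, ZMod.pow_card] at h1
      exact h1.symm
    have h2 := odd_sq_dvd_geom_sum₂_sub (R := ℤ) (a := 1) b hqo
    simp only [one_pow, mul_one] at h2
    rw [show (1 : ℤ) + (q : ℤ) * b = x by rw [← hb]; ring, ← hS] at h2
    have h3' : (q : ℤ) ^ 2 ∣ (q : ℤ) := by simpa using dvd_sub hdiv h2
    have h4 : q ^ 2 ∣ q := by exact_mod_cast h3'
    have := Nat.le_of_dvd hq.pos h4
    nlinarith [hq.two_le]
  haveI := Fact.mk hl
  have hS0 : ((S : ℤ) : ZMod l) = 0 :=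
    (ZMod.intCast_zmod_eq_zero_iff_dvd S l).2 (Int.natCast_dvd.2 hld)
  have hne : ∀ c : ZMod l, (c = 0 ∨ c = 1 ∨ c = -1) → ((x : ℤ) : ZMod l) ≠ c := by
    intro c hc hxc
    rw [hS, Int.cast_sum] at hS0
    simp only [Int.cast_pow, hxc] at hS0
    rcases hc with rfl | rfl | rfl
    · have h := geom_sum_mul (0 : ZMod l) q
      rw [hS0, zero_mul, zero_pow hq.ne_zero, zero_sub] at h
      simp at h
    · simp only [one_pow, Finset.sum_const, Finset.card_range, nsmul_one] at hS0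
      exact hlq ((Nat.prime_dvd_prime_iff_eq hl hq).1 ((ZMod.natCast_eq_zero_iff q l).1 hS0))
    · rw [neg_one_geom_sum, if_neg (Nat.not_even_iff_odd.2 hqo)] at hS0
      exact one_ne_zero hS0
  refine ⟨l, hl, fun e => hodd (e ▸ hld), hlq,
    hgs ▸ (Int.natCast_dvd.2 hld).trans (dvd_mul_right S _), fun h => ?_, fun h => ?_, fun h => ?_⟩
  · have h0 : ((q₀ : ℕ) : ZMod l) = 0 := (ZMod.natCast_eq_zero_iff q₀ l).2 h
    exact hne 0 (Or.inl rfl) (by rcases hx with rfl | rfl <;> simp [h0])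
  · have h0 : ((q₀ : ℕ) : ZMod l) = 1 := by
      have := (ZMod.natCast_eq_zero_iff (q₀ - 1) l).2 h
      rwa [Nat.cast_sub (by omega), Nat.cast_one, sub_eq_zero] at this
    rcases hx with rfl | rfl
    · exact hne 1 (Or.inr (Or.inl rfl)) (by simp [h0])
    · exact hne (-1) (Or.inr (Or.inr rfl)) (by simp [h0])
  · have h0 : ((q₀ : ℕ) : ZMod l) = -1 := by
      have := (ZMod.natCast_eq_zero_iff (q₀ + 1) l).2 h
      rwa [Nat.cast_add, Nat.cast_one, ← eq_neg_iff_add_eq_zero] at this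
    rcases hx with rfl | rfl
    · exact hne (-1) (Or.inr (Or.inr rfl)) (by simp [h0])
    · exact hne 1 (Or.inr (Or.inl rfl)) (by simp [h0])

/-- A prime not dividing `q₀ (q₀² - 1)` does not divide `|GL₂(q₀)|`. -/
theorem not_dvd_card_GL {K : Type} [Field K] [Fintype K] {l : ℕ} (hl : l.Prime)
    (h0 : ¬ l ∣ Fintype.card K) (h1 : ¬ l ∣ Fintype.card K - 1) (h2 : ¬ l ∣ Fintype.card K + 1) :
    ¬ l ∣ Nat.card (GL (Fin 2) K) := by
  rw [Matrix.card_GL_field, Fin.prod_univ_two]
  simp only [Fin.val_zero, Fin.val_one, pow_zero, pow_one]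
  generalize Fintype.card K = Q at h0 h1 h2
  intro h
  rcases hl.dvd_mul.1 h with h' | h'
  · rw [show Q ^ 2 - 1 = (Q + 1) * (Q - 1) by rw [← Nat.sq_sub_sq, one_pow]] at h'
    exact (hl.dvd_mul.1 h').elim h2 h1
  · rw [show Q ^ 2 - Q = Q * (Q - 1) by rw [Nat.mul_sub, mul_one, pow_two]] at h'
    exact (hl.dvd_mul.1 h').elim h0 h1

namespace Model

variable {Q : Type*} [Group Q] [Finite Q] {L : Subgroup Q} [L.Normal] {F : Type} [Field F] [Fintype F]

local notation "GLT" => GL (Fin 2) F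
local notation "M₂" => Matrix (Fin 2) (Fin 2) F

variable {m : Model L F}

theorem det_isSquare_of_pow {n : ℕ} (hn : Odd n) {T : M₂} {c : F} (hT : T.det ≠ 0)
    (h : T ^ n = c • 1) : IsSquare T.det := by
  obtain ⟨k, rfl⟩ := hn
  have hd : T.det ^ (2 * k + 1) = c * c := by
    rw [← Matrix.det_pow, h, Matrix.det_smul, Matrix.det_one, mul_one, Fintype.card_fin, pow_two]
  have hk : T.det ^ k ≠ 0 := pow_ne_zero _ hT
  refine ⟨c / T.det ^ k, ?_⟩
  rw [div_mul_div_comm, eq_div_iff (mul_ne_zero hk hk), ← hd]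
  ring

/-- An element of odd order of `diagPart` lies in `L`. -/
theorem mem_of_odd_diag {g : Q} (hg : g ∈ m.diagPart) (ho : Odd (orderOf g)) : g ∈ L := by
  obtain ⟨M, hM⟩ := mem_diagPart.1 hg
  have h1 : m.Rep 1 (M ^ orderOf g) := by
    have := hM.pow (orderOf g)
    rwa [pow_orderOf_eq_one] at this
  obtain ⟨u, hu⟩ := Rep.unique h1 rep_one
  have h2 := congrArg Units.val hu
  rw [smul_one_mul_units, Units.val_pow_eq_pow_val, Units.val_one] at h2
  refine mem_of_det hM (det_isSquare_of_pow ho ?_ h2)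
  rw [← Matrix.GeneralLinearGroup.val_det_apply]
  exact M.det.ne_zero

/-- The torus of `z` has an element of every prime order dividing `|F| + 1` or `|F| - 1`, as the
form requires. -/
theorem exists_torus_matrix {A : M₂} {α : F} (hA : A * A = α • 1) (hα : α ≠ 0)
    (h2 : (2 : F) ≠ 0) {l : ℕ} (hl : l.Prime) (hl2 : l ≠ 2)
    (hdvd : (¬ IsSquare α → l ∣ Fintype.card F + 1) ∧ (IsSquare α → l ∣ Fintype.card F - 1)) :
    ∃ a b : F, (a • (1 : M₂) + b • A) ^ l = 1 ∧ b ≠ 0 := by
  classical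
  haveI := Fact.mk hl
  by_cases hsq : IsSquare α
  · obtain ⟨s, hs⟩ := hsq
    have hs0 : s ≠ 0 := fun h => hα (by rw [hs, h, mul_zero])
    obtain ⟨ζ, hζ⟩ := exists_prime_orderOf_dvd_card' (G := Fˣ) l (by
      rw [Nat.card_units, Nat.card_eq_fintype_card]; exact hdvd.2 ⟨s, hs⟩)
    have hpow : ∀ k : ℕ,
        ((((ζ : F) + 1) / 2) • (1 : M₂) + (((ζ : F) - 1) / (2 * s)) • A) ^ k =
          (((ζ : F) ^ k + 1) / 2) • (1 : M₂) + (((ζ : F) ^ k - 1) / (2 * s)) • A := by
      intro k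
      induction k with
      | zero => simp [one_add_one_eq_two, h2]
      | succ k ih =>
        rw [pow_succ, ih]
        simp only [add_mul, mul_add, smul_mul_assoc, mul_smul_comm, one_mul, mul_one, hA, smul_smul,
          hs]
        match_scalars <;> field_simp <;> ring
    refine ⟨_, ((ζ : F) - 1) / (2 * s), by
      rw [hpow, show (ζ : F) ^ l = 1 by rw [← Units.val_pow_eq_pow_val, ← hζ, pow_orderOf_eq_one, Units.val_one]]
      simp [one_add_one_eq_two, h2], div_ne_zero ?_ (mul_ne_zero h2 hs0)⟩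
    rw [sub_ne_zero, Ne, Units.val_eq_one]
    intro e
    rw [e, orderOf_one] at hζ
    exact hl.ne_one hζ.symm
  · haveI : Fact (∀ r : F, r ^ 2 ≠ α + 0 * r) :=
      ⟨fun r h => hsq ⟨r, by rw [← pow_two, h, zero_mul, add_zero]⟩⟩
    obtain ⟨w, hw⟩ := exists_norm_one_generator hsq
    have hd : l ∣ Fintype.card F + 1 := hdvd.1 hsq
    set w' := w ^ ((Fintype.card F + 1) / l) with hw'
    have hne : (Fintype.card F + 1) / l ≠ 0 :=
      (Nat.div_pos (Nat.le_of_dvd (Nat.succ_pos _) hd) hl.pos).ne'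
    have hwo : orderOf w' = l := by
      rw [hw', orderOf_pow_of_dvd hne (by rw [hw]; exact Nat.div_dvd_of_dvd hd), hw,
        Nat.div_div_self hd (Nat.succ_ne_zero _)]
    let φ : QuadraticAlgebra F α 0 →ₐ[F] M₂ :=
      QuadraticAlgebra.lift ⟨A, by rw [hA, zero_smul, add_zero]⟩
    have hφ : Function.Injective φ := φ.toRingHom.injective
    have hφw : φ w' = w'.re • 1 + w'.im • A := rfl
    refine ⟨w'.re, w'.im, by rw [← hφw, ← map_pow, ← hwo, pow_orderOf_eq_one, map_one], fun him => ?_⟩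
    have hc : w' = algebraMap F _ w'.re :=
      hφ (by rw [AlgHom.commutes, Algebra.algebraMap_eq_smul_one, hφw, him, zero_smul, add_zero])
    have hre : w'.re ^ l = 1 := by
      refine (algebraMap F (QuadraticAlgebra F α 0)).injective ?_
      rw [map_pow, ← hc, ← hwo, pow_orderOf_eq_one, map_one]
    have hre0 : w'.re ≠ 0 := fun e => by
      rw [e, zero_pow hl.ne_zero] at hre
      exact zero_ne_one hre
    have h1 : w'.re ^ (Fintype.card F - 1) = 1 := FiniteField.pow_card_sub_one_eq_one _ hre0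
    have hone : w'.re = 1 := by
      have hgcd : w'.re ^ Nat.gcd l (Fintype.card F - 1) = 1 := pow_gcd_eq_one.2 ⟨hre, h1⟩
      have hco : Nat.gcd l (Fintype.card F - 1) = 1 := by
        refine (Nat.coprime_or_dvd_of_prime hl _).resolve_right fun h => hl2 ?_
        have hpos : 1 ≤ Fintype.card F := Fintype.card_pos
        have : l ∣ 2 := (Nat.dvd_add_right h).1 (by
          rw [show Fintype.card F - 1 + 2 = Fintype.card F + 1 by omega]; exact hd)
        exact (Nat.prime_dvd_prime_iff_eq hl Nat.prime_two).1 this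
      rw [hco] at hgcd
      simpa using hgcd
    rw [hone, map_one] at hc
    rw [hc, orderOf_one] at hwo
    exact hl.ne_one hwo.symm

/-- **The field lemma.** -/
theorem mem_of_commute_torus (m : Model L F) {z e : Q} (hz : orderOf z = 2) {q : ℕ} (hq : q.Prime)
    (hq2 : q ≠ 2) (he : ∃ k, e ^ q ^ k = 1) (hze : Commute z e)
    (hcomm : ∀ t ∈ L, Commute z t → Odd (orderOf t) → (orderOf t).Coprime q → Commute e t) :
    e ∈ L := by
  classical
  haveI := Fact.mk hq
  obtain ⟨k, hk⟩ := he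
  have heo : Odd (orderOf e) :=
    ((hq.odd_of_ne_two hq2).pow).of_dvd_nat (orderOf_dvd_of_pow_eq_one hk)
  by_cases hdiag : e ∈ m.diagPart
  · exact mem_of_odd_diag hdiag heo
  exfalso
  obtain ⟨p, hp⟩ := CharP.exists F
  haveI : Fact p.Prime := ⟨CharP.char_is_prime F p⟩
  obtain ⟨P₀, σ₀, hP₀⟩ := exists_form (m := m) e
  have hσ₀ : σ₀ ≠ 1 := fun h => hdiag (mem_diagPart.2 ⟨P₀, by rw [Rep, hP₀, h, map_one, mul_one]⟩)
  have hσk : σ₀ ^ q ^ k = 1 := ((AutPSL.mul_field_pow_eq_one_iff p σ₀ P₀ _).1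
    (by rw [← hP₀, ← map_pow, hk, map_one])).1
  obtain ⟨j, -, hj⟩ := (Nat.dvd_prime_pow hq).1 (orderOf_dvd_of_pow_eq_one hσk)
  obtain ⟨i, rfl⟩ : ∃ i, j = i + 1 := Nat.exists_eq_succ_of_ne_zero fun h => hσ₀
    (orderOf_eq_one_iff.1 (by rw [hj, h, pow_zero]))
  haveI : Finite (F ≃+* F) :=
    Finite.of_injective (fun σ : F ≃+* F => (σ : F → F)) DFunLike.coe_injective
  set σ := σ₀ ^ q ^ i
  set P := AutPSL.twNorm σ₀ P₀ (q ^ i)
  have hσ : orderOf σ = q := by
    rw [orderOf_pow, hj, Nat.gcd_eq_right (pow_dvd_pow q (Nat.le_succ i)),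
      Nat.pow_div (Nat.le_succ i) hq.pos, show i + 1 - i = 1 by omega, pow_one]
  have hact : m.act (e ^ q ^ i) = AutPSL.toPSLAut (AutPSL.conjSL P * AutPSL.fieldSL σ) := by
    rw [map_pow, hP₀, ← map_pow, AutPSL.conjSL_fieldSL_pow]
  -- the field
  haveI : Fintype (FixedField.fixedSub σ) := Fintype.ofFinite _
  set q₀ := Fintype.card (FixedField.fixedSub σ) with hq₀
  have hcard : Fintype.card F = q₀ ^ q := by
    rw [FixedField.card_pow σ hσ, Nat.card_eq_fintype_card]
  have hq₀o : Odd q₀ := by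
    by_contra h
    exact Nat.not_odd_iff_even.2 ((Nat.not_odd_iff_even.1 h).pow_of_ne_zero hq.ne_zero)
      (hcard ▸ m.odd)
  have hq₀3 : 3 ≤ q₀ := by
    have : 1 < q₀ := Fintype.one_lt_card
    obtain ⟨j, hj⟩ := hq₀o
    omega
  -- the prime
  obtain ⟨A, α, hA, hA2, hα, hnA⟩ := exists_rep_involution (m := m) hz
  obtain ⟨l, hl, hl2, hlq, hld, hl0, hl1, hl1'⟩ := exists_prime_geom hq₀3 hq₀o hq hq2
    (x := if IsSquare α then (q₀ : ℤ) else -(q₀ : ℤ)) (by split <;> simp)
  obtain ⟨a, b, hT, hb⟩ := exists_torus_matrix hA2 hα m.two_ne_zero hl hl2 (by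
    constructor
    · intro h
      rw [if_neg h, Odd.neg_pow (hq.odd_of_ne_two hq2), show -(q₀ : ℤ) ^ q - 1 = -((q₀ : ℤ) ^ q + 1) by ring,
        dvd_neg] at hld
      rw [hcard]
      exact_mod_cast hld
    · intro h
      rw [if_pos h] at hld
      have h1 : 1 ≤ q₀ ^ q := Nat.one_le_pow _ _ (by omega)
      rw [hcard, ← Int.natCast_dvd_natCast, Nat.cast_sub h1]
      push_cast
      exact hld)
  set T₀ : M₂ := a • 1 + b • A.1 with hT₀
  have hdet0 : T₀.det ≠ 0 := fun h => by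
    have := congrArg Matrix.det hT
    rw [Matrix.det_pow, h, zero_pow hl.ne_zero, Matrix.det_one] at this
    exact zero_ne_one this
  obtain ⟨t, T, htL, hTrep, hTv, hzt⟩ := exists_mem_of_mat hA (T := T₀)
    (det_isSquare_of_pow (c := 1) (hl.odd_of_ne_two hl2) hdet0 (by rw [hT, one_smul])) hdet0
    (c := 1) one_ne_zero (by
      rw [one_smul, hT₀]
      simp only [mul_add, add_mul, mul_smul_comm, smul_mul_assoc, one_mul, mul_one])
  have htl : t ^ l = 1 := (hTrep.pow l).eq_one_of_scalar (c := 1) (by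
    rw [Units.val_pow_eq_pow_val, hTv, hT, one_smul])
  have ht1 : t ≠ 1 := by
    intro h
    obtain ⟨u, hu⟩ := Rep.unique (h ▸ hTrep : m.Rep 1 T) rep_one
    have h' := congrArg Units.val hu
    rw [smul_one_mul_units, Units.val_one, hTv, hT₀] at h'
    refine hb (hnA.coord_eq_zero (a := a - u) ?_).2
    rw [sub_smul, ← h']
    abel
  have hto : orderOf t = l := by
    haveI := Fact.mk hl
    exact orderOf_eq_prime htl ht1
  have hte : Commute (e ^ q ^ i) t := (hcomm t htL hzt (hto ▸ hl.odd_of_ne_two hl2)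
    (hto ▸ (Nat.coprime_primes hl hq).2 hlq)).pow_left _
  -- `σ` fixes the invariant
  have hrep : m.Rep t (P * AutPSL.mapGL σ T * P⁻¹) := by
    show m.act t = _
    have h1 : m.act t = m.act (e ^ q ^ i) * m.act t * (m.act (e ^ q ^ i))⁻¹ := by
      rw [← map_mul, ← map_inv, ← map_mul, hte.eq, mul_inv_cancel_right]
    rw [h1, hact, (hTrep : m.act t = _), ← map_inv, ← map_mul, ← map_mul]
    congr 1
    rw [mul_assoc (AutPSL.conjSL P), AutPSL.fieldSL_mul_conjSL, map_mul, map_mul, map_inv]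
    group
  obtain ⟨c, hc⟩ := Rep.unique hrep hTrep
  have hmap : (P.1 * (T₀.map σ) * (P⁻¹ : GLT).1) = (c : F) • T₀ := by
    have h := congrArg Units.val hc
    rw [smul_one_mul_units, Units.val_mul, Units.val_mul, hTv] at h
    rw [← h, ← hTv]
    rfl
  set τ := T₀.trace with hτ
  set D := T₀.det with hD
  have htr : σ τ = (c : F) * τ := by
    have h := congrArg Matrix.trace hmap
    rw [Matrix.trace_units_conj, Matrix.trace_smul, smul_eq_mul] at h
    rw [← h, hτ, Matrix.trace_fin_two, Matrix.trace_fin_two, map_add]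
    rfl
  have hde : σ D = (c : F) ^ 2 * D := by
    have h := congrArg Matrix.det hmap
    rw [Matrix.det_units_conj, Matrix.det_smul, Fintype.card_fin] at h
    rw [← h, hD, Matrix.det_fin_two, Matrix.det_fin_two, map_sub, map_mul, map_mul]
    rfl
  have hτ0 : τ ≠ 0 := by
    intro h0
    have h2t : t ^ 2 = 1 := (hTrep.pow 2).eq_one_of_scalar (c := -D) (by
      rw [Units.val_pow_eq_pow_val, hTv, pow_two, sq_of_trace_zero (A := T₀) h0])
    have := orderOf_dvd_of_pow_eq_one h2t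
    rw [hto] at this
    exact hl2 ((Nat.prime_dvd_prime_iff_eq hl Nat.prime_two).1 this)
  have hfix : σ (D / τ ^ 2) = D / τ ^ 2 := by
    rw [map_div₀, map_pow, htr, hde, mul_pow, mul_div_mul_left _ _ (pow_ne_zero _ c.ne_zero)]
  let δ : FixedField.fixedSub σ := ⟨D / τ ^ 2, hfix⟩
  let Cm : Matrix (Fin 2) (Fin 2) (FixedField.fixedSub σ) := !![0, -δ; 1, 1]
  have hCdet : Cm.det ≠ 0 := by
    simp only [Cm, Matrix.det_fin_two_of, zero_mul, mul_one, zero_sub, neg_neg]
    intro h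
    exact div_ne_zero hdet0 (pow_ne_zero _ hτ0) (congrArg Subtype.val h)
  set T' : M₂ := τ⁻¹ • T₀ with hT'
  have hsq : T' * T' = T' - (D / τ ^ 2) • (1 : M₂) := by
    rw [hT', smul_mul_smul_comm, sq_eq_trace_smul, ← hτ, ← hD, smul_sub, smul_smul, smul_smul]
    congr 1
    · congr 1
      field_simp
    · congr 1
      field_simp
  have hpow : ∀ n : ℕ, T' ^ n = ((Cm ^ n) 0 0 : F) • (1 : M₂) + ((Cm ^ n) 1 0 : F) • T' := by
    intro n
    induction n with
    | zero => simp
    | succ n ih =>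
      rw [pow_succ, ih, add_mul, smul_mul_assoc, one_mul, smul_mul_assoc, hsq, pow_succ' Cm,
        Matrix.mul_apply, Matrix.mul_apply, Fin.sum_univ_two, Fin.sum_univ_two]
      simp [Cm, δ]
      module
  set N := Nat.card (GL (Fin 2) (FixedField.fixedSub σ))
  have hCN : Cm ^ N = 1 := by
    have h : (Matrix.GeneralLinearGroup.mkOfDetNeZero Cm hCdet) ^ N = 1 := pow_card_eq_one'
    have h' := congrArg Units.val h
    rwa [Units.val_pow_eq_pow_val, Units.val_one] at h'
  have htN : t ^ N = 1 := (hTrep.pow N).eq_one_of_scalar (c := τ ^ N) (by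
    rw [Units.val_pow_eq_pow_val, hTv, show T₀ = τ • T' by rw [hT', smul_smul, mul_inv_cancel₀ hτ0, one_smul],
      smul_pow, hpow N, hCN]
    simp)
  have hdvd := orderOf_dvd_of_pow_eq_one htN
  rw [hto] at hdvd
  exact not_dvd_card_GL hl hl0 hl1 hl1' hdvd

end Model

end CfsgLib.GW.OS
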