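import Cfsg.Agent.GW.OSType.HFacts

/-!
# Gorenstein–Walter, odd-by-two type: normalizers of subgroups normal in `F(M)`

For `Good z M` a nontrivial `z`-invariant subgroup of `F(M)` normalized by `F(M)` has its
normalizer in `M`.
-/

set_option autoImplicit false
set_option linter.style.haveILetI false
set_option linter.unusedSectionVars false

open Subgroup
open CfsgLib.Signalizer CfsgLib.BenderMethod

namespace CfsgLib.GW.OS

universe u

variable {G : Type u} [Group G] [Finite G]

theorem mem_centralizer_of_forall {y : G} {W : Subgroup G} (h : ∀ x ∈ W, Commute x y) :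
    y ∈ centralizer (W : Set G) :=
  mem_centralizer_iff.2 fun x hx => (h x hx).eq

/-- Commuting with the generators of `invPart z R` is commuting with all of it. -/
theorem commute_invPart {z y : G} {R : Subgroup G}
    (h : ∀ a ∈ R, Commute (a * z * a⁻¹ * z⁻¹) y) : ∀ x ∈ invPart z R, Commute x y := by
  intro x hx
  induction hx using closure_induction with
  | mem x hx => obtain ⟨a, ha, rfl⟩ := hx; exact h a ha
  | one => exact Commute.one_left y
  | mul _ _ _ _ h1 h2 => exact h1.mul_left h2
  | inv _ _ h1 => exact h1.inv_left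

theorem comm_mem {z a : G} {R : Subgroup G} (hz : z ∈ normalizer (R : Set G)) (ha : a ∈ R) :
    a * z * a⁻¹ * z⁻¹ ∈ R := by
  rw [show a * z * a⁻¹ * z⁻¹ = a * (z * a⁻¹ * z⁻¹) by group]
  exact mul_mem ha ((mem_normalizer_iff.1 hz _).1 (inv_mem ha))

theorem Ctx.conj_mem_fitting {z : G} {M : Subgroup G} (_hc : Ctx z M) {m y : G} (hm : m ∈ M)
    (hy : y ∈ fittingOf M) : m * y * m⁻¹ ∈ fittingOf M := by
  obtain ⟨y, hy, rfl⟩ := hy
  exact ⟨⟨m, hm⟩ * y * ⟨m, hm⟩⁻¹, Solvable.fittingSubgroup_normal.conj_mem y hy _, rfl⟩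

theorem Ctx.mem_normalizer_fitting {z : G} {M : Subgroup G} (hc : Ctx z M) {m : G} (hm : m ∈ M) :
    m ∈ normalizer (fittingOf M : Set G) :=
  mem_normalizer_fintype fun _ hy => hc.conj_mem_fitting hm hy

theorem Ctx.invPart_ne_bot {z : G} {M : Subgroup G} (hc : Ctx z M) :
    invPart z (fittingOf M) ≠ ⊥ := by
  obtain ⟨u, hu, x, hx, hne⟩ := hc.piMinus_nonempty
  haveI := Fact.mk hu
  intro e
  have h := mem_invPart (z := z) (pCoreOf_le_fittingOf M u hx)
  rw [e, mem_bot] at h
  exact hne (comm_eq_one_iff.1 h)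

/-- The first form: `N([F(M), z]) ≤ M`. -/
theorem Good.normalizer_invPart_le {z : G} {M : Subgroup G} (hg : Good z M) :
    normalizer (invPart z (fittingOf M) : Set G) ≤ M := by
  obtain ⟨hc, hmax⟩ := hg
  have hzF := hc.mem_normalizer_fitting hc.mem_z
  refine hc.normalizer_le_of hc.invPart_ne_bot (invPart_le hzF)
    (mem_normalizer_invPart (Commute.refl z) hzF) fun H hp hle => ?_
  have hFH : fittingOf M ≤ H := (le_normalizer_invPart z (fittingOf M)).trans hle
  have hCH : centralizer ({z} : Set G) ≤ H := fun c hc' =>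
    hle (mem_normalizer_invPart (commute_of_mem_centralizer_singleton hc').symm
      (hc.mem_normalizer_fitting (hc.lt.le hc')))
  have hlt : centralizer ({z} : Set G) < H := by
    refine lt_of_le_of_ne hCH fun e => ?_
    obtain ⟨u, hu, x, hx, hne⟩ := hc.piMinus_nonempty
    haveI := Fact.mk hu
    exact hne (commute_of_mem_centralizer_singleton
      (e ▸ hFH (pCoreOf_le_fittingOf M u hx) : x ∈ centralizer ({z} : Set G)))
  have hcH : Ctx z H := ⟨hc.min, hc.os, hc.inv, hp.coatom, hlt⟩
  have hsub : piMinus z M ⊆ piMinus z H := by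
    rintro u ⟨hu, x, hx, hne⟩
    haveI := Fact.mk hu
    refine ⟨hu, ?_⟩
    by_contra hall
    push Not at hall
    set d := x * z * x⁻¹ * z⁻¹ with hd
    have hdu : d ∈ Cfsg.pCoreOf u M := comm_mem (hc.z_normalizes u) hx
    have hdi : Inverts z d := inverts_comm hc.z_sq x
    have hdo : Odd (orderOf d) := hc.odd_orderOf_pCoreOf hu hdu
    have hdH : d ∈ H := hFH (pCoreOf_le_fittingOf M u hdu)
    have hdF : d ∈ fittingOf H := hcH.mem_fitting hdH fun v hv y hy => by
      by_cases hvM : Cfsg.pCoreOf v M = ⊥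
      · exact (hp.commute_core hv hvM hdH hdi hdo y hy).symm
      by_cases hvu : v = u
      · subst hvu
        exact (commute_of_scalar hdi hdo (mem_normalizer_pCoreOf hdH) (Or.inr hall) y hy).symm
      · exact (commute_of_cores hu hv (Ne.symm hvu) hdu hy hdH (hp.core_le hv hvM hy)).symm
    obtain ⟨k, hk⟩ := exists_pow_pCoreOf hdu
    exact hne (comm_eq_one_iff.1
      (hdi.eq_one (hall d (mem_pCoreOf_of_mem_fittingOf H hdF hk)) hdo))
  refine hp.false_of_fitting hcH.layer_eq_bot fun s hs => ?_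
  by_cases hsM : Cfsg.pCoreOf s M = ⊥
  · intro y hy
    by_cases hzy : Commute z y
    · rw [(hp.inverts_core hs hsM y hy).eq_one hzy (hcH.odd_orderOf_pCoreOf hs hy)]
      exact one_mem M
    · exact absurd hsM (hc.ne_bot_of_piMinus (hmax H hcH hsub ⟨hs, y, hy, hzy⟩))
  · exact hp.core_le hs hsM

/-- **(A)**. -/
theorem Good.normalizer_le {z : G} {M : Subgroup G} (hg : Good z M) {Q : Subgroup G} (hQ : Q ≠ ⊥)
    (hQF : Q ≤ fittingOf M) (hFQ : fittingOf M ≤ normalizer (Q : Set G))
    (hzQ : z ∈ normalizer (Q : Set G)) : normalizer (Q : Set G) ≤ M := by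
  refine hg.1.normalizer_le_of hQ hQF hzQ fun H hp hle => hp.false_of fun y _ hy => ?_
  refine hg.normalizer_invPart_le (centralizer_le_normalizer _ (mem_centralizer_of_forall
    (commute_invPart fun a ha => hy _ ?_ ?_ (inverts_comm hg.1.z_sq a))))
  · exact comm_mem (hg.1.mem_normalizer_fitting hg.1.mem_z) ha
  · exact hle (hFQ (comm_mem (hg.1.mem_normalizer_fitting hg.1.mem_z) ha))

/-- An element of `Z(O_r(M))` centralized by `z` has centralizer in `M`. -/
theorem Good.centralizer_le {z : G} {M : Subgroup G} (hg : Good z M) {r : ℕ} (hr : r.Prime) {x : G}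
    (hx : x ∈ coreCenter r M) (hx1 : x ≠ 1) (hzx : Commute z x) :
    centralizer ({x} : Set G) ≤ M := by
  haveI := Fact.mk hr
  have hcz : ∀ y, Commute x y → y ∈ normalizer (zpowers x : Set G) := fun y h =>
    centralizer_le_normalizer _ (mem_centralizer_of_forall fun w hw => by
      obtain ⟨i, rfl⟩ := mem_zpowers_iff.1 hw
      exact h.zpow_left i)
  refine le_trans (fun y hy => hcz y (commute_of_mem_centralizer_singleton hy)) (hg.normalizer_le ?_
    (zpowers_le.2 (pCoreOf_le_fittingOf M r hx.1))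
    (fun y hy => hcz y (commute_coreCenter_fittingOf M hx hy)) (hcz z hzx.symm))
  simpa using hx1

end CfsgLib.GW.OS
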