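import Cfsg.Agent.GW.OSType.FCore

/-!
# Gorenstein–Walter, odd-by-two type: the centralizer of `f`, the layer of `H`

In the situation `FCtx` the subgroup `H` has no components.  In the image of `H` modulo its odd
core `z` is an outer and `b` an inner involution; either two tori of a common prime order appear,
or `M ∩ H` has two commuting involutions which are squares.
-/

set_option autoImplicit false
set_option linter.style.haveILetI false
set_option linter.unusedSectionVars false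

open Subgroup
open CfsgLib.Signalizer CfsgLib.BenderMethod
open scoped IsMulCommutative

namespace CfsgLib.GW.OS

universe u

variable {G : Type u} [Group G] [Finite G]

/-- No components when the layer is in a solvable subgroup. -/
theorem layer_eq_bot_of_le_solvable {H X : Subgroup G} (hX : Group.IsSolvable X)
    (h : layerOf' H ≤ X) : Cfsg.layer H = ⊥ := by
  haveI := hX
  have hs : Group.IsSolvable (layerOf' H) :=
    Group.isSolvable_of_isSolvable_injective (f := Subgroup.inclusion h)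
      (Subgroup.inclusion_injective h)
  refine eq_bot_iff.2 (sSup_le fun K hK => absurd (Components.isSolvable_mono (H := K) ?_
    (Components.IsComponent.le_layer hK)) (Components.IsComponent.not_isSolvable hK))
  exact Group.isSolvable_of_isSolvable_injective
    (f := ((Cfsg.layer H).equivMapOfInjective H.subtype H.subtype_injective).toMonoidHom)
    (MulEquiv.injective _)

/-- A four-group and an involution of a normal simple subgroup. -/
theorem exists_mem_of_four {Q : Type*} [Group Q] [Finite Q] (hQ : DihType Q) {L : Subgroup Q}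
    [L.Normal] (hL : IsSimpleGroup L) (hC : centralizer (L : Set Q) = ⊥) {z b : Q}
    (hz : orderOf z = 2) (hb : orderOf b = 2) (hc : Commute z b) (hne : b ≠ z) :
    z ∈ L ∨ b ∈ L ∨ z * b ∈ L := by
  haveI : Fact (Nat.Prime 2) := ⟨Nat.prime_two⟩
  haveI := hL
  obtain ⟨V, -, -, hV4, hVmem, hzV, hbV⟩ := exists_fourGroup hz hb hc hne
  have hV : IsPGroup 2 V := IsPGroup.of_card (n := 2) (hV4.trans (by norm_num))
  obtain ⟨T, hT⟩ := hV.exists_le_sylow
  have heven : 2 ∣ Nat.card L := by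
    by_contra h
    haveI : Group.IsSolvable L := Cfsg.Agent.S0205.result (Nat.odd_iff.2 (by omega))
    have hcomm : ∀ a c : L, a * c = c * a := IsSimpleGroup.comm_iff_isSolvable.2 inferInstance
    have hle : L ≤ centralizer (L : Set Q) := fun a ha => mem_centralizer_iff.2 fun c hc =>
      congrArg Subtype.val (hcomm ⟨c, hc⟩ ⟨a, ha⟩)
    rw [hC, le_bot_iff] at hle
    haveI : Nontrivial L := IsSimpleGroup.toNontrivial
    exact (nontrivial_iff_ne_bot L).1 inferInstance hle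
  obtain ⟨t₀, ht₀⟩ := exists_prime_orderOf_dvd_card' (G := L) 2 heven
  obtain ⟨T', hT'⟩ := (IsPGroup.of_card (n := 1)
    (by rw [Nat.card_zpowers, orderOf_coe, ht₀, pow_one]) :
      IsPGroup 2 (zpowers (t₀ : Q))).exists_le_sylow
  obtain ⟨d, hd⟩ := MulAction.exists_smul_eq Q T' T
  have hne' : (T : Subgroup Q) ⊓ L ≠ ⊥ := by
    intro e
    have hmem : d * t₀ * d⁻¹ ∈ (T : Subgroup Q) ⊓ L :=
      ⟨hd ▸ ⟨(t₀ : Q), hT' (mem_zpowers _), rfl⟩, (inferInstance : L.Normal).conj_mem _ t₀.2 d⟩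
    rw [e, mem_bot, conj_eq_one_iff] at hmem
    rw [← orderOf_coe, hmem, orderOf_one] at ht₀
    omega
  have hn : (T : Subgroup Q) ≤ normalizer (((T : Subgroup Q) ⊓ L : Subgroup Q) : Set Q) := by
    intro a ha
    refine mem_normalizer_fintype ?_
    intro y hy
    exact mem_inf.2 ⟨(T : Subgroup Q).mul_mem ((T : Subgroup Q).mul_mem ha (mem_inf.1 hy).1)
      ((T : Subgroup Q).inv_mem ha), (inferInstance : L.Normal).conj_mem y (mem_inf.1 hy).2 a⟩
  obtain ⟨w, hw, hw1, hwT⟩ := exists_fixed_ne_one (T.isPGroup'.to_le inf_le_left) T.isPGroup' hn hne'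
  obtain ⟨k, hk⟩ := T.isPGroup' ⟨w, hw.1⟩
  have hk' : w ^ 2 ^ k = 1 := by simpa using congrArg Subtype.val hk
  obtain ⟨j, -, hj⟩ := (Nat.dvd_prime_pow Nat.prime_two).1 (orderOf_dvd_of_pow_eq_one hk')
  obtain ⟨i, rfl⟩ : ∃ i, j = i + 1 := Nat.exists_eq_succ_of_ne_zero fun e => hw1
    (orderOf_eq_one_iff.1 (by rw [hj, e, pow_zero]))
  have hto : orderOf (w ^ 2 ^ i) = 2 := by
    rw [orderOf_pow, hj, Nat.gcd_eq_right (pow_dvd_pow 2 (Nat.le_succ i)),
      Nat.pow_div (Nat.le_succ i) two_pos, show i + 1 - i = 1 by omega, pow_one]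
  have htV : w ^ 2 ^ i ∈ V := by
    refine hQ.mem_four T.isPGroup' hT hV4 (fun v hv => ?_) (pow_mem hw.1 _)
      (fun v hv => ((hwT v (hT hv)).pow_right _).eq.symm)
    rcases hVmem v hv with rfl | rfl | rfl | rfl
    · exact one_mul 1
    · exact Small.mul_self_of_orderOf_two hz
    · exact Small.mul_self_of_orderOf_two hb
    · exact Small.mul_self_of_orderOf_two (orderOf_mul_two hz hb hc hne)
  have htL : w ^ 2 ^ i ∈ L := pow_mem hw.2 _
  rcases hVmem _ htV with e | e | e | e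
  · exact absurd (e ▸ hto : orderOf (1 : Q) = 2) (by simp)
  · exact Or.inl (e ▸ htL)
  · exact Or.inr (Or.inl (e ▸ htL))
  · exact Or.inr (Or.inr (e ▸ htL))

namespace FCtx

variable {z b g f : G} {t : ℕ} {M H : Subgroup G} (c : FCtx z b g f t M H)
include c

/-- An element inverting `f` is outer. -/
theorem not_mem_of_inverts (hlayer : Cfsg.layer H ≠ ⊥) {v : G} (hv : Inverts v f) (hvH : v ∈ H) :
    QuotientGroup.mk' (Cfsg.oddCore H) ⟨v, hvH⟩ ∉
      (Cfsg.layer H).map (QuotientGroup.mk' (Cfsg.oddCore H)) := by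
  haveI := Fact.mk c.ht
  rintro ⟨k, hk, hkv⟩
  set fH : H := ⟨f, c.f_mem⟩
  have hfO : fH ∈ Cfsg.oddCore H :=
    c.pair.mem_oddCore hlayer (pCoreOf_le_fittingOf M t c.hf) c.f_mem c.hfi
  set o : H := k⁻¹ * ⟨v, hvH⟩
  have hoO : o ∈ Cfsg.oddCore H := QuotientGroup.eq.1 hkv
  have hof : o * fH * o⁻¹ ∈ Cfsg.oddCore H :=
    (inferInstance : (Cfsg.oddCore H).Normal).conj_mem _ hfO o
  have hi : Inverts o fH := by
    show o * fH * o⁻¹ = fH⁻¹
    calc o * fH * o⁻¹ = k * (o * fH * o⁻¹) * k⁻¹ := by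
          rw [(commute_layer_oddCore hk hof).eq, mul_inv_cancel_right]
      _ = ⟨v, hvH⟩ * fH * (⟨v, hvH⟩ : H)⁻¹ := by simp only [o]; group
      _ = fH⁻¹ := Subtype.ext hv
  have hfo : Odd (orderOf fH) := by rw [orderOf_mk]; exact c.f_odd
  have hcomm : Commute o fH := commute_of_sq_commute
    (odd_orderOf_of_mem (ExtremelyClosed.odd_card_oddCore' H) hoO) (hi.mul_commute hi)
  exact c.hf1 (congrArg Subtype.val (hi.eq_one hcomm hfo))

/-- `z` is outer and `b` inner. -/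
theorem exists_top (hlayer : Cfsg.layer H ≠ ⊥) :
    ∃ L : Subgroup (H ⧸ Cfsg.oddCore H), L.Normal ∧ IsPSLOrAltSeven L ∧
      centralizer (L : Set (H ⧸ Cfsg.oddCore H)) = ⊥ ∧
      L ≤ (Cfsg.layer H).map (QuotientGroup.mk' (Cfsg.oddCore H)) ∧
      QuotientGroup.mk' (Cfsg.oddCore H) ⟨z, c.pair.mem⟩ ∉ L ∧
      QuotientGroup.mk' (Cfsg.oddCore H) ⟨b, c.b_mem_H⟩ ∈ L := by
  obtain ⟨L, hLn, hL, hLc, hle⟩ := c.pair.exists_top hlayer
  haveI := hLn
  set π := QuotientGroup.mk' (Cfsg.oddCore H)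
  set zq := π ⟨z, c.pair.mem⟩
  set bq := π ⟨b, c.b_mem_H⟩
  have hnz : zq ∉ L := fun h => c.not_mem_of_inverts hlayer c.hfi c.pair.mem (hle h)
  have hzbH : z * b ∈ H := mul_mem c.pair.mem c.b_mem_H
  have hmul : π ⟨z * b, hzbH⟩ = zq * bq := map_mul π (⟨z, c.pair.mem⟩ : H) ⟨b, c.b_mem_H⟩
  have hnzb : zq * bq ∉ L := fun h =>
    c.not_mem_of_inverts hlayer (c.hfi.of_commute c.hbf) hzbH (hle (hmul.symm ▸ h))
  have hne : bq ≠ zq := fun e => by
    refine Small.ne_one_of_orderOf_two (c.pair.orderOf_top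
      (orderOf_mul_two c.pair.ctx.inv c.hb c.hzb c.hne) hzbH) ?_
    rw [hmul, e]
    exact Small.mul_self_of_orderOf_two (c.pair.orderOf_top c.pair.ctx.inv c.pair.mem)
  have hcq : Commute zq bq :=
    (show Commute (⟨z, c.pair.mem⟩ : H) ⟨b, c.b_mem_H⟩ from Subtype.ext c.hzb).map π
  rcases exists_mem_of_four c.pair.dihType_top (isSimpleGroup_of_psl hL) hLc
    (c.pair.orderOf_top c.pair.ctx.inv c.pair.mem) (c.pair.orderOf_top c.hb c.b_mem_H) hcq hne with
    h | h | h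
  · exact absurd h hnz
  · exact ⟨L, hLn, hL, hLc, hle, hnz, h⟩
  · exact absurd h hnzb

/-- An element with small centralizer is not in `O(H)`. -/
theorem mk_ne_one (hlayer : Cfsg.layer H ≠ ⊥) {w : G} {X : Subgroup G} {y : G} (hX : Ctx w X)
    (hy : centralizer ({y} : Set G) ≤ X) (hyH : y ∈ H) :
    QuotientGroup.mk' (Cfsg.oddCore H) ⟨y, hyH⟩ ≠ 1 := by
  intro e
  refine hlayer (layer_eq_bot_of_le_solvable hX.isSolvable ?_)
  rintro _ ⟨k, hk, rfl⟩
  exact hy (mem_centralizer_of_commute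
    ((commute_layer_oddCore hk ((QuotientGroup.eq_one_iff _).1 e)).map H.subtype).symm)

variable {r : ℕ} (hr : r.Prime) (hrt : r ≠ t)
include hr hrt

/-- `b` inverts an element: two tori. -/
theorem false_of_inverted_layer (hlayer : Cfsg.layer H ≠ ⊥) (hr2 : r ≠ 2) {x : G}
    (hx : x ∈ coreCenter r M) (hx1 : x ≠ 1) (hxr : x ^ r = 1) (hbx : Inverts b x) : False := by
  obtain ⟨L, hLn, hL, hLc, -, hnz, hbL⟩ := c.exists_top hlayer
  haveI := hLn
  obtain ⟨hzx, hxf, hbx', hxf', hC, hC'⟩ := c.center_facts hr hrt hx hx1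
  have hxH : x ∈ H := c.mem_H hxf
  have hx'H : g * x * g⁻¹ ∈ H := c.mem_H hxf'
  set π := QuotientGroup.mk' (Cfsg.oddCore H)
  have h1 : π ⟨x, hxH⟩ ^ r = 1 := by
    rw [← map_pow, show (⟨x, hxH⟩ : H) ^ r = 1 from Subtype.ext hxr, map_one]
  have h2 : π ⟨g * x * g⁻¹, hx'H⟩ ^ r = 1 := by
    rw [← map_pow, show (⟨g * x * g⁻¹, hx'H⟩ : H) ^ r = 1 from Subtype.ext
      (by simp [conj_pow, hxr]), map_one]
  rcases eq_one_of_tori c.pair.dihType_top hLc hL (c.pair.orderOf_top c.pair.ctx.inv c.pair.mem)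
    (c.pair.orderOf_top c.hb c.b_mem_H) hnz hbL hr hr2 h1 h2
    ((show Commute (⟨z, c.pair.mem⟩ : H) ⟨x, hxH⟩ from Subtype.ext hzx).map π)
    ((show Inverts (⟨b, c.b_mem_H⟩ : H) ⟨x, hxH⟩ from Subtype.ext hbx).map π)
    ((show Commute (⟨b, c.b_mem_H⟩ : H) ⟨g * x * g⁻¹, hx'H⟩ from Subtype.ext hbx').map π)
    ((show Inverts (⟨z, c.pair.mem⟩ : H) ⟨g * x * g⁻¹, hx'H⟩ from
      Subtype.ext (c.inverts_conj hr hrt hx hx1 hbx)).map π) with e | e
  · exact c.mk_ne_one hlayer c.pair.ctx hC hxH e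
  · exact c.mk_ne_one hlayer c.ctx1 hC' hx'H e

/-- An element of `F(H)` inverted by `z` lies in `O_t(H)`. -/
theorem mem_core_t (hF : ∀ s : ℕ, s.Prime → Cfsg.pCoreOf s H ≤ M) {e : G} (he : e ∈ fittingOf H)
    (hi : Inverts z e) : e ∈ Cfsg.pCoreOf t H := by
  refine le_of_forall_primePower (L := zpowers e) (C := Cfsg.pCoreOf t H)
    (fun p hp w hw hwk => ?_) (mem_zpowers e)
  haveI := Fact.mk hp
  obtain ⟨k, hk⟩ := hwk
  have hwp := mem_pCoreOf_of_mem_fittingOf H (zpowers_le.2 he hw) hk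
  by_cases hpt : p = t
  · exact hpt ▸ hwp
  have hwH : w ∈ H := LocalStructure.pCoreOf_le H hwp
  have hwM : w ∈ M := hF p hp hwp
  have hwi : Inverts z w := by
    obtain ⟨i, rfl⟩ := mem_powers_iff_mem_zpowers.2 hw
    exact hi.pow i
  have hwo : Odd (orderOf w) := by
    by_cases hbot : Cfsg.pCoreOf p H = ⊥
    · rw [hbot, mem_bot] at hwp
      rw [hwp, orderOf_one]; exact odd_one
    · exact (hp.odd_of_ne_two (c.pair.prime_ne_two hbot)).pow.of_dvd_nat
        (orderOf_dvd_of_pow_eq_one hk)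
  haveI := Fact.mk c.ht
  have hwF : w ∈ fittingOf M := by
    refine c.pair.ctx.mem_fitting hwM fun v hv a ha => ?_
    haveI := Fact.mk hv
    by_cases hvt : v = t
    · subst hvt
      refine (LocalEven48.commute_of_commute_fixed (P := Cfsg.pCoreOf v M) (A := zpowers f) (b := w)
        (isPGroup_pCoreOf v M) ((isPGroup_pCoreOf v M).to_le (zpowers_le.2 c.hf))
        ((zpowers_le.2 c.hf).trans le_normalizer) (mem_normalizer_pCoreOf hwM)
        (coprime_orderOf_pCoreOf hp hv hpt hwp) ?_ ?_ a ha).symm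
      · intro a' ha'
        obtain ⟨i, rfl⟩ := mem_zpowers_iff.1 ha'
        exact (commute_of_cores hv hp (Ne.symm hpt) c.hf hwp c.f_mem hwM).zpow_left i
      · intro a' ha' hfa
        exact (commute_of_cores hv hp (Ne.symm hpt) ha' hwp
          (c.mem_H (hfa f (mem_zpowers f)).symm) hwM).symm
    · by_cases hvp : v = p
      · subst hvp
        exact (commute_of_scalar hwi hwo (mem_normalizer_pCoreOf hwM)
          (Or.inr (c.small v hv hvt)) a ha).symm
      · exact commute_of_cores hv hp hvp ha hwp (c.mem_H (commute_pCoreOf M hvt ha c.hf)) hwM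
  rw [hwi.eq_one (c.small p hp hpt w (mem_pCoreOf_of_mem_fittingOf M hwF hk)) hwo]
  exact one_mem _

/-- `b` fixes: two involutions of a dihedral group are squares. -/
theorem false_of_fixed_layer (hlayer : Cfsg.layer H ≠ ⊥)
    (hF : ∀ s : ℕ, s.Prime → Cfsg.pCoreOf s H ≤ M) {x : G} (hx : x ∈ coreCenter r M) (hx1 : x ≠ 1)
    (hxr : x ^ r = 1) (hbx : Commute b x) : False := by
  obtain ⟨L, hLn, hL, hLc, hle, hnz, hbL⟩ := c.exists_top hlayer
  haveI := hLn
  obtain ⟨hzx, hxf, -, -, hC, -⟩ := c.center_facts hr hrt hx hx1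
  haveI := Fact.mk hr
  haveI := Fact.mk c.ht
  set π := QuotientGroup.mk' (Cfsg.oddCore H)
  set xH : H := ⟨x, c.mem_H hxf⟩
  set zH : H := ⟨z, c.pair.mem⟩
  set bH : H := ⟨b, c.b_mem_H⟩
  have hzxH : Commute zH xH := Subtype.ext hzx
  have hbxH : Commute bH xH := Subtype.ext hbx
  have hzo := c.pair.orderOf_top c.pair.ctx.inv c.pair.mem
  have hbo := c.pair.orderOf_top c.hb c.b_mem_H
  have hxo : Odd (orderOf (π xH)) := by
    refine Odd.of_dvd_nat ?_ (orderOf_map_dvd π xH)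
    rw [orderOf_mk]
    exact c.pair.ctx.odd_orderOf_pCoreOf hr hx.1
  obtain ⟨w, hwL, h, hhL, j, hwo, hwb, hbw, hxw, hxh, e1, e2, hsq⟩ :=
    exists_fixed_cycle c.pair.dihType_top hLc hL hzo hbo
      ((show Commute zH bH from Subtype.ext c.hzb).map π) hnz hbL hxo
      (hzxH.map π) (hbxH.map π)
  have memM : ∀ y : H, Commute xH y → (y : G) ∈ M := fun y hy =>
    hC (mem_centralizer_of_commute (hy.map H.subtype))
  -- conjugation of lifts by `x`
  have lift : ∀ q ∈ L, Commute (π xH) q → ∃ k ∈ Cfsg.layer H, π k = q ∧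
      k⁻¹ * (xH * k * xH⁻¹) ∈ Cfsg.oddCore H ∧ k⁻¹ * (xH * k * xH⁻¹) ∈ Cfsg.layer H := by
    intro q hq hxq
    obtain ⟨k, hk, hkq⟩ := hle hq
    refine ⟨k, hk, hkq, (QuotientGroup.eq_one_iff _).1 ?_, mul_mem (inv_mem hk)
      (Components.layer_normal.conj_mem k hk xH)⟩
    show π (k⁻¹ * (xH * k * xH⁻¹)) = 1
    rw [map_mul, map_mul, map_mul, map_inv, map_inv, hkq, hxq.eq, mul_inv_cancel_right,
      inv_mul_cancel]
  -- the lift of `w`
  obtain ⟨wH, hwH, hwM⟩ : ∃ k : H, π k = w ∧ (k : G) ∈ M := by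
    obtain ⟨k, hk, hkw, hO, -⟩ := lift w hwL hxw
    set ζ := k⁻¹ * (xH * k * xH⁻¹) with hζ
    obtain ⟨a, m, hm, hord⟩ := Nat.exists_eq_two_pow_mul_odd (orderOf_pos k).ne'
    refine ⟨k ^ m, ?_, memM _ ?_⟩
    · obtain ⟨i, rfl⟩ := hm
      rw [map_pow, hkw, pow_succ, pow_mul, pow_two, Small.mul_self_of_orderOf_two hwo, one_pow,
        one_mul]
    have hζk : Commute k ζ := commute_layer_oddCore hk hO
    have hxk : xH * k * xH⁻¹ = k * ζ := by rw [hζ]; group
    have hxkm : xH * k ^ m * xH⁻¹ = k ^ m * ζ ^ m := by rw [← conj_pow, hxk, hζk.mul_pow]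
    have hkm : (k ^ m) ^ 2 ^ a = 1 := by
      rw [← pow_mul, mul_comm, ← hord, pow_orderOf_eq_one]
    have hζm : (ζ ^ m) ^ 2 ^ a = 1 := by
      have h1 : (k ^ m * ζ ^ m) ^ 2 ^ a = 1 := by rw [← hxkm, conj_pow, hkm]; group
      rwa [((hζk.pow_left m).pow_right m).mul_pow, hkm, one_mul] at h1
    have hone : ζ ^ m = 1 := orderOf_eq_one_iff.1 (Nat.eq_one_of_dvd_coprimes
      ((Nat.coprime_two_right.2 (odd_orderOf_of_mem (ExtremelyClosed.odd_card_oddCore' H)
        (pow_mem hO m))).pow_right a) dvd_rfl (orderOf_dvd_of_pow_eq_one hζm))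
    rw [hone, mul_one, mul_inv_eq_iff_eq_mul] at hxkm
    exact hxkm
  -- the conjugate of `z` by `h`
  obtain ⟨cH, hcH, hcM⟩ : ∃ k : H, π k = h * π zH * h⁻¹ ∧ (k : G) ∈ M := by
    obtain ⟨k, hk, hkh, hO, hlay⟩ := lift h hhL hxh
    set ζ := k⁻¹ * (xH * k * xH⁻¹) with hζ
    set e := ζ * zH * ζ⁻¹ * zH⁻¹ with he
    set k' := k * zH * k⁻¹ * zH⁻¹ with hk'
    have hxz : xH * zH * xH⁻¹ = zH := by rw [← hzxH.eq, mul_inv_cancel_right]
    have heO : e ∈ Cfsg.oddCore H := by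
      rw [he, show ζ * zH * ζ⁻¹ * zH⁻¹ = ζ * (zH * ζ⁻¹ * zH⁻¹) by group]
      exact mul_mem hO ((inferInstance : (Cfsg.oddCore H).Normal).conj_mem _ (inv_mem hO) zH)
    have heL : e ∈ Cfsg.layer H := by
      rw [he, show ζ * zH * ζ⁻¹ * zH⁻¹ = ζ * (zH * ζ⁻¹ * zH⁻¹) by group]
      exact mul_mem hlay (Components.layer_normal.conj_mem _ (inv_mem hlay) zH)
    have hxk' : xH * k' * xH⁻¹ = k' * e := by
      have hl : zH * k⁻¹ * zH⁻¹ ∈ Cfsg.layer H :=
        Components.layer_normal.conj_mem _ (inv_mem hk) zH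
      calc xH * k' * xH⁻¹ = (xH * k * xH⁻¹) * (xH * zH * xH⁻¹) * (xH * k * xH⁻¹)⁻¹ *
            (xH * zH * xH⁻¹)⁻¹ := by rw [hk']; group
        _ = k * ζ * zH * (k * ζ)⁻¹ * zH⁻¹ := by rw [hxz, hζ]; group
        _ = k * (e * (zH * k⁻¹ * zH⁻¹)) := by rw [he]; group
        _ = k * ((zH * k⁻¹ * zH⁻¹) * e) := by rw [(commute_layer_oddCore hl heO).eq]
        _ = k' * e := by rw [hk']; group
    have hei : Inverts z (e : G) := inverts_comm c.pair.ctx.z_sq (ζ : G)
    have heF : (e : G) ∈ fittingOf H := by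
      haveI : (Cfsg.layer H).Normal := Components.layer_normal
      set W := Cfsg.oddCore H ⊓ Cfsg.layer H
      haveI : IsMulCommutative W := ⟨⟨fun p q => Subtype.ext
        (commute_layer_oddCore p.2.2 q.2.1).eq⟩⟩
      exact ⟨e, Components.le_fittingSubgroup (N := W) inferInstance ⟨heO, heL⟩, rfl⟩
    have heT := c.mem_core_t hr hrt hF heF hei
    have hxe : Commute xH e := Subtype.ext
      (commute_of_cores hr c.ht hrt hx.1 heT xH.2 (hF t c.ht heT)).eq
    have hpow : ∀ i : ℕ, xH ^ i * k' * (xH ^ i)⁻¹ = k' * e ^ i := by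
      intro i
      induction i with
      | zero => simp
      | succ i ih =>
        calc xH ^ (i + 1) * k' * (xH ^ (i + 1))⁻¹
            = xH * (xH ^ i * k' * (xH ^ i)⁻¹) * xH⁻¹ := by rw [pow_succ']; group
          _ = (xH * k' * xH⁻¹) * (xH * e ^ i * xH⁻¹) := by rw [ih]; group
          _ = k' * e ^ (i + 1) := by
            rw [hxk', (hxe.pow_right i).eq, mul_inv_cancel_right, pow_succ', mul_assoc]
    have her : (e : G) ^ r = 1 := by
      have h1 := hpow r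
      rw [show xH ^ r = 1 from Subtype.ext hxr, one_mul, inv_one, mul_one, left_eq_mul] at h1
      simpa using congrArg Subtype.val h1
    obtain ⟨i, hi⟩ := exists_pow_pCoreOf heT
    have he1 : (e : G) = 1 := orderOf_eq_one_iff.1 (Nat.eq_one_of_dvd_coprimes
      (((Nat.coprime_primes hr c.ht).2 hrt).pow_right i)
      (orderOf_dvd_of_pow_eq_one her) (orderOf_dvd_of_pow_eq_one hi))
    rw [show e = 1 from Subtype.ext he1, mul_one, mul_inv_eq_iff_eq_mul] at hxk'
    refine ⟨k' * zH, ?_, memM _ ((show Commute xH k' from hxk').mul_right hzxH.symm)⟩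
    rw [map_mul, hk', map_mul, map_mul, map_mul, map_inv, map_inv, hkh, inv_mul_cancel_right]
  -- pass to `M/O(M)`
  set φ : M →* M ⧸ Cfsg.oddCore M := QuotientGroup.mk' _
  let D : Subgroup H := M.subgroupOf H
  let ψ : D →* M ⧸ Cfsg.oddCore M :=
    φ.comp ((H.subtype.comp D.subtype).codRestrict M fun y => y.2)
  have hker : ∀ y : D, Odd (orderOf (y : H)) → ψ y = 1 := by
    intro y hy
    rw [← orderOf_coe] at hy
    obtain ⟨a, ha, hae⟩ := c.pair.ctx.mem_oddOf y.2 hy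
    show φ ⟨((y : H) : G), y.2⟩ = 1
    rw [← show a = (⟨((y : H) : G), y.2⟩ : M) from Subtype.ext hae]
    exact (QuotientGroup.eq_one_iff _).2 ha
  have hwd : ∀ y y' : D, π (y : H) = π (y' : H) → ψ y = ψ y' := by
    intro y y' hyy
    refine inv_mul_eq_one.1 ?_
    rw [← map_inv, ← map_mul]
    exact hker _ (odd_orderOf_of_mem (ExtremelyClosed.odd_card_oddCore' H)
      (QuotientGroup.eq.1 hyy))
  have hne1 : ∀ y : D, orderOf (π (y : H)) = 2 → ψ y ≠ 1 := by
    intro y hy h1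
    have hy' : ((y : H) : G) ∈ oddOf M := ⟨⟨((y : H) : G), y.2⟩, (QuotientGroup.eq_one_iff _).1 h1, rfl⟩
    have ho := odd_orderOf_of_mem (odd_card_oddOf M) hy'
    rw [orderOf_coe] at ho
    have := ho.of_dvd_nat (orderOf_map_dvd π (y : H))
    rw [hy] at this
    exact absurd this (by decide)
  let zD : D := ⟨zH, c.pair.ctx.mem_z⟩
  let bD : D := ⟨bH, c.b_mem_M⟩
  let wD : D := ⟨wH, hwM⟩
  let cD : D := ⟨cH, hcM⟩
  have hB : ψ ((zD * wD) ^ j) * ψ ((zD * wD) ^ j) = ψ bD := by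
    rw [← map_mul]
    refine hwd _ _ ?_
    show π ((zH * wH) ^ j * (zH * wH) ^ j) = π bH
    rw [map_mul, map_pow, map_mul, hwH, hsq]
  have hW : ψ ((cD * (bD * wD)) ^ j) * ψ ((cD * (bD * wD)) ^ j) = ψ wD := by
    rw [← map_mul]
    refine hwd _ _ ?_
    show π ((cH * (bH * wH)) ^ j * (cH * (bH * wH)) ^ j) = π wH
    rw [map_mul, map_pow, map_mul, map_mul, hcH, hwH, ← e2,
      show h * π zH * h⁻¹ * (h * w * h⁻¹) = h * (π zH * w) * h⁻¹ by group, conj_pow,
      show h * (π zH * w) ^ j * h⁻¹ * (h * (π zH * w) ^ j * h⁻¹)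
        = h * ((π zH * w) ^ j * (π zH * w) ^ j) * h⁻¹ by group, hsq, e1]
  have hB1 : ψ bD ≠ 1 := hne1 bD hbo
  have hW1 : ψ wD ≠ 1 := hne1 wD (by show orderOf (π wH) = 2; rw [hwH]; exact hwo)
  have hBW : ψ bD ≠ ψ wD := by
    intro e
    refine hne1 (bD * wD) ?_ ?_
    · show orderOf (π (bH * wH)) = 2
      rw [map_mul, hwH]
      exact orderOf_mul_two hbo hwo hbw hwb
    · rw [map_mul, ← e, ← map_mul]
      exact (hwd _ 1 (by
        show π (bH * bH) = π 1
        rw [show bH * bH = 1 from Subtype.ext (Small.mul_self_of_orderOf_two c.hb)])).trans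
        (map_one ψ)
  have hB2 : ψ bD * ψ bD = 1 := by
    rw [← map_mul, show bD * bD = 1 from Subtype.ext (Subtype.ext
      (Small.mul_self_of_orderOf_two c.hb)), map_one]
  have hW2 : ψ wD * ψ wD = 1 := by
    rw [← map_mul]
    refine (hwd _ 1 ?_).trans (map_one ψ)
    show π (wH * wH) = π 1
    rw [map_mul, hwH, map_one, Small.mul_self_of_orderOf_two hwo]
  have hQd : DihType (M ⧸ Cfsg.oddCore M) :=
    (c.pair.ctx.min.dihType.subgroup M).quotient _ (PLocal.coprime_card_pPrimeCore 2 M)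
  obtain ⟨n, ρ, hρ⟩ := hQd ⊤ (c.pair.ctx.quotient_two.to_subgroup ⊤)
  have hrot : ∀ s v : M ⧸ Cfsg.oddCore M, s * s = v → v ≠ 1 →
      ρ ⟨v, mem_top v⟩ ∈ rot n := by
    intro s v hs hv1
    have hsr : ρ ⟨s, mem_top s⟩ ∈ rot n := by
      by_contra hsn
      refine hv1 (congrArg Subtype.val (hρ ?_ :
        (⟨v, mem_top v⟩ : (⊤ : Subgroup (M ⧸ Cfsg.oddCore M))) = 1))
      rw [map_one, show (⟨v, mem_top v⟩ : (⊤ : Subgroup (M ⧸ Cfsg.oddCore M))) =
        ⟨s, mem_top s⟩ * ⟨s, mem_top s⟩ from Subtype.ext hs.symm, map_mul]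
      exact mul_self_of_notMem_rot _ hsn
    rw [show (⟨v, mem_top v⟩ : (⊤ : Subgroup (M ⧸ Cfsg.oddCore M))) =
      ⟨s, mem_top s⟩ * ⟨s, mem_top s⟩ from Subtype.ext hs.symm, map_mul]
    exact mul_mem hsr hsr
  have hρsq : ∀ v : M ⧸ Cfsg.oddCore M, v * v = 1 →
      ρ ⟨v, mem_top v⟩ * ρ ⟨v, mem_top v⟩ = 1 := fun v hv => by
    rw [← map_mul, show (⟨v, mem_top v⟩ : (⊤ : Subgroup (M ⧸ Cfsg.oddCore M))) * ⟨v, mem_top v⟩ = 1
      from Subtype.ext hv, map_one]
  have hρ1 : ∀ v : M ⧸ Cfsg.oddCore M, ρ ⟨v, mem_top v⟩ = 1 → v = 1 := fun v hv =>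
    congrArg Subtype.val (hρ (hv.trans ρ.map_one.symm))
  rcases eq_of_mem_rot_of_sq (hrot _ _ hB hB1) (hrot _ _ hW hW1) (hρsq _ hB2) (hρsq _ hW2) with
    e | e | e
  · exact hB1 (hρ1 _ e)
  · exact hW1 (hρ1 _ e)
  · exact hBW (congrArg Subtype.val (hρ e))

end FCtx

end CfsgLib.GW.OS
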